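import Cfsg.Agent.G2TwoRecog.Sound

/-!
# Automorphisms of the group of order 27 and their subgroups of order 8

An automorphism commuting with the inversion of the first two coordinates is given by a matrix
code; the suitable subgroups of order 8 are, up to conjugation, the five of the table `mats`.
-/

set_option autoImplicit false
set_option maxRecDepth 10000

namespace CfsgLib.G2Recog

/-- The map negating the first two coordinates. -/
def negP (p : Nat) : Nat := pc ((3 - p % 3) % 3) ((3 - p / 3 % 3) % 3) (p / 9 % 3)

/-- Small powers. -/
def pwP (e v : Nat) : Nat → Nat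
  | 0 => 0
  | 1 => v
  | _ => mulP e v v

/-- The map extending given values at the three basic points. -/
def extP (e v1 v3 v9 p : Nat) : Nat :=
  mulP e (mulP e (pwP e v1 (p % 3)) (pwP e v3 (p / 3 % 3)))
    (pwP e v9 ((p / 9 + e * (p % 3) * (p / 3 % 3)) % 3))

/-- The code of the map with given values at the three basic points. -/
def mOf (v1 v3 v9 : Nat) : Nat :=
  v1 % 3 + 3 * (v3 % 3) + 9 * (v1 / 3 % 3) + 27 * (v3 / 3 % 3) + 81 * (v9 / 9)

/-- The product of two codes. -/
def cmul (m n : Nat) : Nat := mOf (sigA m (sigA n 1)) (sigA m (sigA n 3)) (sigA m (sigA n 9))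

/-- The determinant of the matrix of a code. -/
def detB (m : Nat) : Nat := (m % 3 * (m / 27 % 3) + 2 * (m / 3 % 3 * (m / 9 % 3))) % 3

/-- The codes of automorphisms. -/
def validB (m : Nat) : Bool :=
  decide (m < 243) && (m / 81 == 1 || m / 81 == 2) && !(detB m == 0)

/-- The number of fixed points among the first `n`. -/
def fixCount (m : Nat) : Nat → Nat
  | 0 => 0
  | n + 1 => (if sigA m n == n then 1 else 0) + fixCount m n

/-- The codes which may occur: the involutions fix exactly three points. -/
def goodB (m : Nat) : Bool :=
  validB m && (!(cmul m m == 109) || m == 109 || fixCount m 27 == 3)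

/-- Powers of a code. -/
def cpow (a : Nat) : Nat → Nat
  | 0 => 109
  | n + 1 => cmul a (cpow a n)

/-- The elements `a ^ i b ^ j`. -/
def lstOne (a b : Nat) : List Nat :=
  [109, b, a, cmul a b, cpow a 2, cmul (cpow a 2) b, cpow a 3, cmul (cpow a 3) b]

/-- The powers of `a`. -/
def lstTwo (a : Nat) : List Nat := (List.range 8).map (cpow a)

/-- A list of codes as a bit mask. -/
def maskOf : List Nat → Nat
  | [] => 0
  | m :: l => (1 <<< m) ||| maskOf l

/-- The masks of the thirteen groups, with a case and a conjugating code and its inverse. -/
def wits : List (Nat × Nat × Nat × Nat) := [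
  (0x4100020410002041000000000000000000000000, 6, 228, 175),
  (0x8010024001002400800000000000000000000000, 6, 201, 176),
  (0x10008021004002800400000000000000000000000, 6, 174, 174),
  (0x10010024004002041000000000000000000000000, 2, 174, 174),
  (0x2000000840040000000020000002041000000000000000000000000, 1, 228, 175),
  (0x410020020000000000010024000002000000000000000000000000000, 1, 201, 176),
  (0x1000200000100080010000020004002000000000000000000000000000, 0, 174, 174),
  (0x2000800000008200010000020004002000000000000000000000000000, 7, 174, 174),
  (0x80080000104000000010000020004002000000000000000000000000000, 1, 174, 174),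
  (0x820000082000000000000000020000002041000000000000000000000000, 0, 228, 175),
  (0x1000000000200080100000010024000002000000000000000000000000000, 0, 201, 176),
  (0x2000000000800008200000010024000002000000000000000000000000000, 7, 201, 176),
  (0x2002000800800000000000000020000002041000000000000000000000000, 7, 228, 175)]

/-- The conjugate of the `k`-th element of a case. -/
def conjCode (w : Nat × Nat × Nat × Nat) (k : Nat) : Nat :=
  cmul (cmul w.2.2.1 (mats.getD (8 * row w.2.1 + k) 0)) w.2.2.2

/-- A list is one of the thirteen groups or is not a suitable group. -/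
def classB (l : List Nat) : Bool :=
  (wits.any fun w => w.1 == maskOf l) || !(allB 8 fun i => goodB (l.getD i 0)) ||
    anyB 8 (fun i => anyB i fun j => l.getD i 0 == l.getD j 0) || !((maskOf l).testBit 137) ||
    anyB 8 (fun i => anyB 8 fun j => !((maskOf l).testBit (cmul (l.getD i 0) (l.getD j 0))))

end CfsgLib.G2Recog
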