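import Cfsg.Agent.G2TwoRecog.Classify

/-!
# Checked facts about the codes
-/

set_option autoImplicit false
set_option maxRecDepth 10000

namespace CfsgLib.G2Recog

theorem ext_basic : ∀ e, e < 2 → ∀ p, p < 27 → extP e 1 3 9 p = p := by decide +kernel

theorem negP_facts : ∀ p, p < 27 → negP p < 27 ∧ (negP p = invP p → p < 9) ∧
    (negP p = p → p = 0 ∨ p = 9 ∨ p = 18) := by decide +kernel

/-- The checked statement on the possible automorphisms. -/
def autB (e v1 v3 v9 : Nat) : Bool :=
  anyB 27 (fun p => !(p == 0) && extP e v1 v3 v9 p == 0) ||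
    !(extP e v1 v3 v9 (mulP e 3 1) == mulP e (extP e v1 v3 v9 3) (extP e v1 v3 v9 1)) ||
    (validB (mOf v1 v3 v9) && (e == 0 || mOf v1 v3 v9 / 81 == detB (mOf v1 v3 v9)) &&
      allB 27 fun p => extP e v1 v3 v9 p == sigA (mOf v1 v3 v9) p)

theorem aut_check : ∀ e, e < 2 → ∀ v1, v1 < 9 → ∀ v3, v3 < 9 → ∀ v9, v9 = 9 ∨ v9 = 18 →
    autB e v1 v3 v9 = true := by
  intro e he v1 h1 v3 h3 v9 h9
  have key : ∀ e, e < 2 → ∀ v1, v1 < 9 → ∀ v3, v3 < 9 →
      autB e v1 v3 9 = true ∧ autB e v1 v3 18 = true := by decide +kernel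
  rcases h9 with rfl | rfl
  exacts [(key e he v1 h1 v3 h3).1, (key e he v1 h1 v3 h3).2]

theorem code_facts : ∀ m, m < 243 → validB m = true →
    cmul m 109 = m ∧ cmul 109 m = m ∧ cmul m m < 243 ∧ ∀ p, p < 27 → sigA m p < 27 := by
  decide +kernel

theorem neg_code : ∀ p, p < 27 → sigA 137 p = negP p ∧ sigA 109 p = p := by decide +kernel

/-- An involution code other than that of inversion. -/
def reflB (b : Nat) : Bool := goodB b && cmul b b == 109 && !(b == 109) && !(b == 137)

theorem no_three : ∀ b, b < 243 → reflB b = true →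
    ∀ d, d < 243 → (reflB d && cmul b d == cmul d b) = true →
      (d == b || d == cmul 137 b) = true := by decide +kernel

theorem shape_one : ∀ a, a < 243 → (validB a && goodB a && cpow a 4 == 109 && !(cpow a 2 == 109)) = true →
    ∀ b, b < 243 → goodB b = true → classB (lstOne a b) = true := by decide +kernel

theorem shape_two : ∀ a, a < 243 → (goodB a && !(cpow a 4 == 109)) = true →
    classB (lstTwo a) = true := by decide +kernel

/-- The properties of a witness. -/
def witB (w : Nat × Nat × Nat × Nat) : Bool :=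
  maskOf ((List.range 8).map (conjCode w)) == w.1 &&
    (decide (w.2.1 < 8) && (decide (w.2.1 < 3) || decide (6 ≤ w.2.1))) &&
    (decide (w.2.1 < 3) || anyB 8 fun k => !(conjCode w k / 81 == detB (conjCode w k))) &&
    allB 27 (fun p => decide (sigA w.2.2.1 p < 27) && decide (sigA w.2.2.2 p < 27) &&
      sigA w.2.2.1 (sigA w.2.2.2 p) == p && sigA w.2.2.2 (sigA w.2.2.1 p) == p) &&
    allB 2 (fun e => allB 27 fun p => allB 27 fun q =>
      sigA w.2.2.1 (mulP e p q) == mulP e (sigA w.2.2.1 p) (sigA w.2.2.1 q)) &&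
    allB 8 fun k => allB 27 fun p =>
      sigA (conjCode w k) p == sigA w.2.2.1 (sigA (mats.getD (8 * row w.2.1 + k) 0) (sigA w.2.2.2 p))

theorem wit_all : wits.all witB = true := by decide +kernel

theorem testBit_maskOf (x : Nat) : ∀ l : List Nat, (maskOf l).testBit x = decide (x ∈ l)
  | [] => by simp [maskOf]
  | m :: l => by
    rw [maskOf, Nat.testBit_or, testBit_maskOf x l, Nat.one_shiftLeft, Nat.testBit_two_pow]
    simp [eq_comm]

end CfsgLib.G2Recog
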