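import Cfsg.Agent.G2TwoRecog.Regular
import Cfsg.Agent.G2TwoRecog.ClassifyFacts

/-!
# Coordinates on a Sylow 3-subgroup

The two-point stabiliser contains a central involution inverting the Sylow subgroup modulo the
three fixed points; this gives coordinates in which the group is one of two models of order 27.
-/

set_option autoImplicit false
set_option linter.style.haveILetI false
set_option linter.unusedSectionVars false

namespace CfsgLib.G2Recog

open Subgroup MulAction
open scoped commutatorElement Pointwise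

variable {G : Type*} [Group G] [Finite G] [IsSimpleGroup G]

/-- Coordinates on `P` with an involution `u` negating the first two. -/
structure Frame (P : Sylow 3 G) (e : Nat) (φ : Nat → G) : Prop where
  e_lt : e < 2
  mem : ∀ p, φ p ∈ (P : Subgroup G)
  inj : ∀ p, p < 27 → ∀ q, q < 27 → φ p = φ q → p = q
  surj : ∀ x ∈ (P : Subgroup G), ∃ p, p < 27 ∧ φ p = x
  hom : ∀ p, p < 27 → ∀ q, q < 27 → φ (mulP e p q) = φ p * φ q

theorem Frame.map_zero {P : Sylow 3 G} {e : Nat} {φ : Nat → G} (F : Frame P e φ) : φ 0 = 1 := by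
  have h := F.hom 0 (by norm_num) 0 (by norm_num)
  have e0 : mulP e 0 0 = 0 := by simp [mulP, pc]
  rw [e0] at h
  exact mul_eq_left.1 h.symm

theorem mulP_lt : ∀ e, e < 2 → ∀ p, p < 27 → ∀ q, q < 27 → mulP e p q < 27 := by decide +kernel

theorem mulP_inv : ∀ e, e < 2 → ∀ p, p < 27 → mulP e p (invP p) = 0 := by decide +kernel

theorem Frame.map_inv {P : Sylow 3 G} {e : Nat} {φ : Nat → G} (F : Frame P e φ) {p : Nat}
    (hp : p < 27) : φ (invP p) = (φ p)⁻¹ := by
  have h := F.hom p hp (invP p) (invP_lt p hp)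
  rw [mulP_inv e F.e_lt p hp, F.map_zero] at h
  exact eq_inv_of_mul_eq_one_right h.symm

namespace Hyp

variable (h : Hyp G) (hnc : ¬ IsMulCommutative G)
include h hnc

/-- The central involution of a two-point stabiliser. -/
theorem exists_inverting (P Q : Sylow 3 G) (hQ : Q ≠ P) :
    ∃ u ∈ NP P ⊓ NP Q, orderOf u = 2 ∧ (∀ g ∈ NP P ⊓ NP Q, g * u = u * g) ∧
      (∀ c ∈ (P : Subgroup G), u * c = c * u → ∀ x ∈ (P : Subgroup G), c * x = x * c) ∧
      ∀ x ∈ (P : Subgroup G), u * (x * (u * x * u⁻¹)) = x * (u * x * u⁻¹) * u := by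
  classical
  set H := NP P ⊓ NP Q with hH
  have hHc : Nat.card H = 2 ^ 3 := by rw [h.stab_card hnc P Q hQ]; norm_num
  have hHp : IsPGroup 2 H := IsPGroup.of_card hHc
  have hHP : ∀ g ∈ H, ∀ x ∈ (P : Subgroup G), g * x * g⁻¹ ∈ (P : Subgroup G) :=
    fun g hg x hx => (mem_normalizer_iff.1 hg.1 x).1 hx
  by_cases hab : ∀ a ∈ (P : Subgroup G), ∀ b ∈ (P : Subgroup G), a * b = b * a
  · haveI : Nontrivial H := Finite.one_lt_card_iff_nontrivial.1 (by rw [hHc]; norm_num)
    haveI := hHp.center_nontrivial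
    obtain ⟨k, hk⟩ := IsPGroup.iff_card.1 (hHp.to_subgroup (Subgroup.center H))
    have hk0 : k ≠ 0 := fun e => by
      have := Finite.one_lt_card (α := Subgroup.center H)
      rw [hk, e] at this
      norm_num at this
    obtain ⟨u', hu'⟩ := exists_prime_orderOf_dvd_card' (G := Subgroup.center H) 2
      (hk ▸ dvd_pow_self 2 hk0)
    rw [← Subgroup.orderOf_coe, ← Subgroup.orderOf_coe] at hu'
    set u : G := ((u' : H) : G) with hu
    refine ⟨u, (u' : H).2, hu', fun g hg =>
      congrArg Subtype.val (Subgroup.mem_center_iff.1 u'.2 ⟨g, hg⟩),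
      fun c hc _ x hx => hab c hc x hx, fun x hx => ?_⟩
    have h2 : u * u = 1 := by rw [← pow_two, ← hu', pow_orderOf_eq_one]
    have hinv : u⁻¹ = u := inv_eq_of_mul_eq_one_right h2
    have hux : u * x * u⁻¹ ∈ (P : Subgroup G) := hHP u (u' : H).2 x hx
    calc u * (x * (u * x * u⁻¹)) = (u * x * u⁻¹) * ((u * u) * x * u⁻¹) := by group
      _ = (u * x * u⁻¹) * x * u := by rw [h2, hinv]; group
      _ = x * (u * x * u⁻¹) * u := by rw [hab _ hux _ hx]
  · -- non-commutative `P`
    have hP27 := h.card_sylow P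
    set Z := Subgroup.center (P : Subgroup G) with hZ
    haveI : Nontrivial (P : Subgroup G) := Finite.one_lt_card_iff_nontrivial.1
      (by rw [hP27]; norm_num)
    haveI := P.2.center_nontrivial
    have hZ3 : Nat.card Z = 3 := by
      have hd : Nat.card Z ∣ 3 ^ 3 := by
        have := Z.card_subgroup_dvd_card
        rwa [hP27] at this
      obtain ⟨i, hi, hi'⟩ := (Nat.dvd_prime_pow Nat.prime_three).1 hd
      have h1 := Finite.one_lt_card (α := Z)
      rw [hi'] at h1 ⊢
      interval_cases i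
      · norm_num at h1
      · norm_num
      · exfalso
        have hq : Nat.card ((P : Subgroup G) ⧸ Z) = 3 := by
          have h2 := Z.card_mul_index
          rw [hi', hP27] at h2
          rw [← Subgroup.index]
          omega
        haveI : IsCyclic ((P : Subgroup G) ⧸ Z) := isCyclic_of_prime_card hq
        refine hab fun a ha b hb => ?_
        exact congrArg Subtype.val (commutative_of_cyclic_center_quotient (QuotientGroup.mk' Z)
          (by rw [QuotientGroup.ker_mk']) ⟨a, ha⟩ ⟨b, hb⟩)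
      · exfalso
        have hZt : Z = ⊤ := eq_top_of_card_eq Z (by rw [hi', hP27]; norm_num)
        refine hab fun a ha b hb => ?_
        exact congrArg Subtype.val
          (Subgroup.mem_center_iff.1 (hZt ▸ mem_top (⟨b, hb⟩ : (P : Subgroup G))) ⟨a, ha⟩)
    have hE9 : Nat.card ((P : Subgroup G) ⧸ Z) = 9 := by
      have h2 := Z.card_mul_index
      rw [hZ3, hP27] at h2
      rw [← Subgroup.index]
      omega
    haveI : Fact (Nat.Prime 3) := ⟨Nat.prime_three⟩
    letI : CommGroup ((P : Subgroup G) ⧸ Z) :=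
      { (inferInstance : Group ((P : Subgroup G) ⧸ Z)) with
        mul_comm := (IsPGroup.isMulCommutative_of_card_eq_prime_sq (p := 3)
          (by rw [hE9]; norm_num)).is_comm.comm }
    have hE3 : ∀ e : (P : Subgroup G) ⧸ Z, e ^ 3 = 1 := by
      intro e
      induction e using QuotientGroup.induction_on with
      | H a =>
        rw [← QuotientGroup.mk_pow, QuotientGroup.eq_one_iff]
        have : a ^ 3 = 1 := Subtype.ext (h.pow_three P a.2)
        rw [this]
        exact one_mem _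
    let ψ : H →* MulAut (P : Subgroup G) :=
      (P : Subgroup G).normalizerMonoidHom.comp (Subgroup.inclusion (inf_le_left : H ≤ NP P))
    have hψ : ∀ (g : H) (x : (P : Subgroup G)), ((ψ g x : (P : Subgroup G)) : G) =
        (g : G) * x * (g : G)⁻¹ := fun g x => rfl
    let ρ : H →* MulAut ((P : Subgroup G) ⧸ Z) := MonoidHom.mk'
      (fun g => QuotientGroup.congr Z Z (ψ g) (Subgroup.characteristic_iff_map_eq.1 inferInstance _))
      (fun a b => MulEquiv.ext fun e => by
        induction e using QuotientGroup.induction_on with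
        | H x => rw [map_mul]; rfl)
    have hρ : ∀ (g : H) (x : (P : Subgroup G)), ρ g (QuotientGroup.mk x) = QuotientGroup.mk (ψ g x) :=
      fun g x => rfl
    have htriv : ∀ g : H, ρ g = 1 → g = 1 := by
      intro g hg
      have hz : ∀ x : (P : Subgroup G), x⁻¹ * ψ g x ∈ Z := fun x => by
        rw [← QuotientGroup.eq]
        exact (congrArg (fun f : MulAut ((P : Subgroup G) ⧸ Z) => f (QuotientGroup.mk x)) hg).symm.trans
          (hρ g x)
      obtain ⟨a, ha, b, hb, hne⟩ : ∃ a ∈ (P : Subgroup G), ∃ b ∈ (P : Subgroup G), a * b ≠ b * a := by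
        by_contra hh
        push_neg at hh
        exact hab hh
      set A : (P : Subgroup G) := ⟨a, ha⟩
      set B : (P : Subgroup G) := ⟨b, hb⟩
      have hmZ : ⁅A, B⁆ ∈ Z := by
        rw [← QuotientGroup.eq_one_iff, ← QuotientGroup.mk'_apply, map_commutatorElement]
        exact commutatorElement_eq_one_iff_mul_comm.2 (mul_comm _ _)
      have hm1 : ⁅A, B⁆ ≠ 1 := fun e => hne (congrArg Subtype.val
        (commutatorElement_eq_one_iff_mul_comm.1 e))
      have hψm : ψ g ⁅A, B⁆ = ⁅A, B⁆ := by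
        rw [map_commutatorElement]
        have cA := Subgroup.mem_center_iff.1 (hz A)
        have cB := Subgroup.mem_center_iff.1 (hz B)
        set zA := A⁻¹ * ψ g A with hzA
        set zB := B⁻¹ * ψ g B with hzB
        rw [show ψ g A = A * zA by rw [hzA, mul_inv_cancel_left],
          show ψ g B = B * zB by rw [hzB, mul_inv_cancel_left]]
        simp only [commutatorElement_def]
        calc A * zA * (B * zB) * (A * zA)⁻¹ * (B * zB)⁻¹
            = A * (zA * (B * zB)) * zA⁻¹ * A⁻¹ * zB⁻¹ * B⁻¹ := by group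
          _ = A * ((B * zB) * zA) * zA⁻¹ * A⁻¹ * zB⁻¹ * B⁻¹ := by rw [cA]
          _ = A * B * (zB * A⁻¹) * zB⁻¹ * B⁻¹ := by group
          _ = A * B * (A⁻¹ * zB) * zB⁻¹ * B⁻¹ := by rw [cB]
          _ = A * B * A⁻¹ * B⁻¹ := by group
      have hfixZ : ∀ z ∈ Z, ψ g z = z := by
        intro z hz'
        have hgen : zpowers ⁅A, B⁆ = Z := by
          refine eq_of_le_of_card_ge (zpowers_le.2 hmZ) ?_
          rw [hZ3, Nat.card_zpowers]
          exact ((Nat.prime_three.eq_one_or_self_of_dvd _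
            (by have := orderOf_dvd_card_of_mem hmZ; rwa [hZ3] at this)).resolve_left
            fun e => hm1 (orderOf_eq_one_iff.1 e)).ge
        obtain ⟨k, rfl⟩ := mem_zpowers_iff.1 (hgen.ge hz')
        rw [map_zpow, hψm]
      have hfix : ∀ x : (P : Subgroup G), ψ g x = x := by
        intro x
        set z := x⁻¹ * ψ g x with hzd
        have hx : ψ g x = x * z := by rw [hzd, mul_inv_cancel_left]
        have hk : ∀ k : ℕ, (ψ g ^ k) x = x * z ^ k := by
          intro k
          induction k with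
          | zero => simp
          | succ k ih =>
            rw [pow_succ', MulAut.mul_apply, ih, map_mul, hx, map_pow, hfixZ z (hz x), pow_succ',
              mul_assoc]
        have h8 : g ^ 8 = 1 := by
          have := pow_card_eq_one' (x := g)
          simpa [hHc] using this
        have h1 := hk 8
        rw [← map_pow, h8, map_one, MulAut.one_apply, left_eq_mul] at h1
        have h3 : z ^ 3 = 1 := Subtype.ext (h.pow_three P z.2)
        have hz1 : z = 1 := by
          calc z = (z ^ 3) ^ 3 * (z ^ 8)⁻¹ := by group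
            _ = 1 := by rw [h1, h3]; simp
        rw [hx, hz1, mul_one]
      have hgc : (g : G) ∈ centralizer ((P : Subgroup G) : Set G) := mem_centralizer_iff.2 fun x hx => by
        have e1 := congrArg (fun y : (P : Subgroup G) => (y : G)) (hfix ⟨x, hx⟩)
        rw [hψ] at e1
        exact (mul_inv_eq_iff_eq_mul.1 e1).symm
      have hgP := h.centralizer_le hnc P hgc
      have hd : orderOf (g : G) ∣ Nat.gcd (2 ^ 3) 3 := Nat.dvd_gcd
        (hHc ▸ orderOf_dvd_card_of_mem g.2) (orderOf_dvd_of_pow_eq_one (h.pow_three P hgP))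
      exact Subtype.ext (orderOf_eq_one_iff.1 (Nat.dvd_one.1 (hd.trans (by norm_num))))
    have hρinj : Function.Injective ρ := (injective_iff_map_eq_one ρ).2 htriv
    obtain ⟨f, hf, hfinv⟩ := exists_inversion hE9 hE3 (I := ρ.range)
      (IsPGroup.of_card (n := 3) (by rw [← Nat.card_congr (MonoidHom.ofInjective hρinj).toEquiv, hHc]))
      (by rw [← Nat.card_congr (MonoidHom.ofInjective hρinj).toEquiv, hHc]; norm_num)
    obtain ⟨u, rfl⟩ := MonoidHom.mem_range.1 hf
    have hu2 : orderOf (u : G) = 2 := by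
      refine orderOf_eq_prime_iff.2 ⟨?_, fun e => ?_⟩
      · have : u ^ 2 = 1 := hρinj (by
          rw [map_pow, map_one]
          refine MulEquiv.ext fun e => ?_
          rw [pow_two, MulAut.mul_apply, hfinv, hfinv, inv_inv, MulAut.one_apply])
        exact congrArg Subtype.val this
      · have hu1 : u = 1 := Subtype.ext e
        subst hu1
        have hall : ∀ e : (P : Subgroup G) ⧸ Z, e = 1 := fun e =>
          eq_one_of_eq_inv hE3 (by rw [← hfinv e, map_one, MulAut.one_apply])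
        haveI : Subsingleton ((P : Subgroup G) ⧸ Z) := ⟨fun a b => (hall a).trans (hall b).symm⟩
        have := Finite.card_le_one_iff_subsingleton.2 (inferInstance : Subsingleton ((P : Subgroup G) ⧸ Z))
        omega
    have hfixcen : ∀ c ∈ (P : Subgroup G), (u : G) * c = c * u →
        ∀ hc : c ∈ (P : Subgroup G), (⟨c, hc⟩ : (P : Subgroup G)) ∈ Z := by
      intro c _ huc hc
      rw [← QuotientGroup.eq_one_iff]
      refine eq_one_of_eq_inv hE3 ?_
      rw [← hfinv, hρ]
      congr 1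
      exact Subtype.ext (by rw [hψ]; show c = (u : G) * c * (u : G)⁻¹; rw [huc, mul_inv_cancel_right])
    refine ⟨u, u.2, hu2, fun g hg => ?_, fun c hc huc x hx => ?_, fun x hx => ?_⟩
    · have : (⟨g, hg⟩ : H) * u = u * ⟨g, hg⟩ := hρinj (by
        rw [map_mul, map_mul]
        refine MulEquiv.ext fun e => ?_
        rw [MulAut.mul_apply, MulAut.mul_apply, hfinv, hfinv, map_inv])
      exact congrArg Subtype.val this
    · exact (congrArg Subtype.val (Subgroup.mem_center_iff.1 (hfixcen c hc huc hc) ⟨x, hx⟩)).symm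
    · set X : (P : Subgroup G) := ⟨x, hx⟩
      have hmem : X * ψ u X ∈ Z := by
        rw [← QuotientGroup.eq_one_iff, QuotientGroup.mk_mul, ← hρ, hfinv, mul_inv_cancel]
      -- the fixed elements of `u` are the centre
      set C := (P : Subgroup G) ⊓ centralizer ({(u : G)} : Set G) with hC
      have hCle : C ≤ Z.map (P : Subgroup G).subtype := fun c hc =>
        ⟨⟨c, hc.1⟩, hfixcen c hc.1 (mem_centralizer_singleton_iff.1 hc.2).symm hc.1, rfl⟩
      have hCeq : C = Z.map (P : Subgroup G).subtype := eq_of_le_of_card_ge hCle (by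
        rw [card_map_of_injective (P : Subgroup G).subtype_injective, hZ3,
          h.fixed_card hnc P Q hQ hu2 u.2.1 u.2.2])
      have hin : x * ((u : G) * x * (u : G)⁻¹) ∈ C := hCeq.ge ⟨_, hmem, rfl⟩
      exact (mem_centralizer_singleton_iff.1 hin.2).symm

/-- Coordinates in which the central involution negates the first two. -/
theorem exists_frame (P Q : Sylow 3 G) (hQ : Q ≠ P) :
    ∃ (e : Nat) (φ : Nat → G) (u : G), Frame P e φ ∧ u ∈ NP P ⊓ NP Q ∧
      (∀ g ∈ NP P ⊓ NP Q, g * u = u * g) ∧ ∀ p, p < 27 → u * φ p * u⁻¹ = φ (negP p) := by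
  classical
  obtain ⟨u, huH, hu2, hucomm, hcen, hinv⟩ := h.exists_inverting hnc P Q hQ
  have huP : ∀ x ∈ (P : Subgroup G), u * x * u⁻¹ ∈ (P : Subgroup G) := fun x hx =>
    (mem_normalizer_iff.1 huH.1 x).1 hx
  set C := (P : Subgroup G) ⊓ centralizer ({u} : Set G) with hC
  have hC3 : Nat.card C = 3 := h.fixed_card hnc P Q hQ hu2 huH.1 huH.2
  have hp3 : ∀ {x : G}, x ∈ (P : Subgroup G) → ∀ n : ℕ, x ^ n = x ^ (n % 3) := fun {x} hx n =>
    pow_eq_pow_mod n (h.pow_three P hx)
  obtain ⟨c0, hc0C, hc01⟩ := (Subgroup.bot_or_exists_ne_one C).resolve_left (fun e => by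
    rw [e, card_bot] at hC3; omega)
  have ho : orderOf c0 = 3 := (Nat.prime_three.eq_one_or_self_of_dvd _
    (orderOf_dvd_of_pow_eq_one (h.pow_three P hc0C.1))).resolve_left
      fun e => hc01 (orderOf_eq_one_iff.1 e)
  have hCz : zpowers c0 = C := eq_of_le_of_card_ge (zpowers_le.2 hc0C)
    (by rw [hC3, Nat.card_zpowers, ho])
  have hCnat : ∀ {c : G}, c ∈ C → ∃ j, j < 3 ∧ c = c0 ^ j := by
    intro c hc
    rw [← hCz] at hc
    have hc' : c ∈ Submonoid.powers c0 := by
      rw [← mem_powers_iff_mem_zpowers] at hc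
      exact hc
    obtain ⟨j, rfl⟩ := hc'
    exact ⟨j % 3, Nat.mod_lt _ (by norm_num), hp3 hc0C.1 j⟩
  have hcc : ∀ x ∈ (P : Subgroup G), c0 * x = x * c0 := fun x hx =>
    hcen c0 hc0C.1 (mem_centralizer_singleton_iff.1 hc0C.2).symm x hx
  have huc : u * c0 * u⁻¹ = c0 := by
    rw [← (mem_centralizer_singleton_iff.1 hc0C.2 : c0 * u = u * c0), mul_inv_cancel_right]
  -- inverted representatives
  have hrep : ∀ x ∈ (P : Subgroup G), ∀ S : Subgroup G, c0 ∈ S → x ∉ S →
      ∃ x' ∈ (P : Subgroup G), x' ∉ S ∧ u * x' * u⁻¹ = x'⁻¹ := by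
    intro x hx S hcS hxS
    have hmem : x * (u * x * u⁻¹) ∈ C :=
      ⟨Subgroup.mul_mem _ hx (huP x hx), mem_centralizer_singleton_iff.2 (hinv x hx).symm⟩
    obtain ⟨j, -, hj⟩ := hCnat hmem
    refine ⟨x * c0 ^ j, Subgroup.mul_mem _ hx (Subgroup.pow_mem _ hc0C.1 j),
      fun e => hxS ?_, ?_⟩
    · simpa using Subgroup.mul_mem _ e (Subgroup.inv_mem _ (Subgroup.pow_mem _ hcS j))
    · have e1 : u * x * u⁻¹ = x⁻¹ * c0 ^ j := by rw [← hj]; group
      have e2 : u * c0 ^ j * u⁻¹ = c0 ^ j := by rw [← conj_pow, huc]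
      have hcj : Commute (c0 ^ j) x := (show Commute c0 x from hcc x hx).pow_left j
      calc u * (x * c0 ^ j) * u⁻¹ = (u * x * u⁻¹) * (u * c0 ^ j * u⁻¹) := by group
        _ = x⁻¹ * (c0 ^ j * c0 ^ j) := by rw [e1, e2, mul_assoc]
        _ = x⁻¹ * (c0 ^ j)⁻¹ := by
          have h3 : (c0 ^ j) ^ 3 = 1 := h.pow_three P (Subgroup.pow_mem _ hc0C.1 j)
          rw [show c0 ^ j * c0 ^ j = (c0 ^ j) ^ 3 * (c0 ^ j)⁻¹ by group, h3, one_mul]
        _ = (x * c0 ^ j)⁻¹ := by
          rw [mul_inv_rev]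
          exact (hcj.symm.inv_inv).eq
  obtain ⟨x0, hx0, hx0C⟩ : ∃ x ∈ (P : Subgroup G), x ∉ C := by
    by_contra hh
    push_neg at hh
    have := card_dvd_of_le (hh : (P : Subgroup G) ≤ C)
    rw [h.card_sylow P, hC3] at this
    norm_num at this
  obtain ⟨x, hx, hxC, hux⟩ := hrep x0 hx0 C hc0C hx0C
  set S1 := C ⊔ zpowers x with hS1
  have hS1P : S1 ≤ (P : Subgroup G) := sup_le inf_le_left (zpowers_le.2 hx)
  have hxc : ∀ z ∈ C, Commute z x := fun z hz => by
    obtain ⟨j, -, rfl⟩ := hCnat hz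
    exact (show Commute c0 x from hcc x hx).pow_left j
  have hS1le : Nat.card S1 ≤ 9 := by
    have hxn : zpowers x ≤ normalizer (C : Set G) := by
      refine (zpowers_le.2 ?_)
      refine mem_normalizer_iff.2 fun z => ⟨fun hz => ?_, fun hz => ?_⟩
      · rwa [← (hxc z hz).eq, mul_inv_cancel_right]
      · have e2 := (hxc _ hz).eq
        have e3 : z = x * z * x⁻¹ := by
          calc z = x⁻¹ * (x * z * x⁻¹ * x) := by group
            _ = x⁻¹ * (x * (x * z * x⁻¹)) := by rw [e2]
            _ = x * z * x⁻¹ := by group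
        rw [e3]
        exact hz
    have hset : (S1 : Set G) = (C : Set G) * (zpowers x : Set G) :=
      coe_mul_of_right_le_normalizer_left C _ hxn
    have h1 : Nat.card S1 ≤ Nat.card C * Nat.card (zpowers x) := by
      rw [← SetLike.coe_sort_coe, hset]
      exact Set.natCard_mul_le
    have hox : Nat.card (zpowers x) ≤ 3 := by
      rw [Nat.card_zpowers]
      exact Nat.le_of_dvd (by norm_num) (orderOf_dvd_of_pow_eq_one (h.pow_three P hx))
    rw [hC3] at h1
    omega
  obtain ⟨y0, hy0, hy0S⟩ : ∃ y ∈ (P : Subgroup G), y ∉ S1 := by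
    by_contra hh
    push_neg at hh
    have := card_dvd_of_le (hh : (P : Subgroup G) ≤ S1)
    rw [h.card_sylow P] at this
    have := Nat.le_of_dvd Nat.card_pos this
    omega
  obtain ⟨y, hy, hyS, huy⟩ := hrep y0 hy0 S1 (mem_sup_left hc0C) hy0S
  -- the commutator
  have hdC : x⁻¹ * y⁻¹ * x * y ∈ C := by
    refine ⟨Subgroup.mul_mem _ (Subgroup.mul_mem _ (Subgroup.mul_mem _ (Subgroup.inv_mem _ hx)
      (Subgroup.inv_mem _ hy)) hx) hy, ?_⟩
    have hxyC : ∀ z ∈ (P : Subgroup G), ∀ w ∈ (P : Subgroup G), ∀ d ∈ C, d * (z * w) = z * w * d := by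
      intro z hz w hw d hd
      obtain ⟨j, -, rfl⟩ := hCnat hd
      exact (show Commute c0 (z * w) from hcc _ (Subgroup.mul_mem _ hz hw)).pow_left j
    have hprod : (x * y) * (u * (x * y) * u⁻¹) ∈ C :=
      ⟨Subgroup.mul_mem _ (Subgroup.mul_mem _ hx hy) (huP _ (Subgroup.mul_mem _ hx hy)),
        mem_centralizer_singleton_iff.2 (hinv _ (Subgroup.mul_mem _ hx hy)).symm⟩
    have e1 : (x * y) * (u * (x * y) * u⁻¹) = x * y * x⁻¹ * y⁻¹ := by
      rw [show u * (x * y) * u⁻¹ = (u * x * u⁻¹) * (u * y * u⁻¹) by group, hux, huy]; group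
    rw [e1] at hprod
    have e2 := hxyC y hy x hx _ hprod
    have e3 : x⁻¹ * y⁻¹ * x * y = x * y * x⁻¹ * y⁻¹ := by
      calc x⁻¹ * y⁻¹ * x * y = (y * x)⁻¹ * ((x * y * x⁻¹ * y⁻¹) * (y * x)) := by group
        _ = (y * x)⁻¹ * (y * x * (x * y * x⁻¹ * y⁻¹)) := by rw [e2]
        _ = x * y * x⁻¹ * y⁻¹ := by group
    rw [e3]
    exact hprod.2
  obtain ⟨s, hs3, hs⟩ := hCnat hdC
  obtain ⟨c, e, he, hcC, hcP, hc1, hrel⟩ : ∃ (c : G) (e : Nat), e < 2 ∧ c ∈ C ∧ c ∈ (P : Subgroup G) ∧
      c ≠ 1 ∧ y * x = x * y * c ^ (2 * e) := by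
    have hyx : y * x = x * y * (c0 ^ s)⁻¹ := by rw [← hs]; group
    interval_cases s
    · exact ⟨c0, 0, by norm_num, hc0C, hc0C.1, hc01, by rw [hyx]; simp⟩
    · refine ⟨c0, 1, by norm_num, hc0C, hc0C.1, hc01, ?_⟩
      have h3 := h.pow_three P hc0C.1
      rw [hyx, pow_one, show c0 ^ (2 * 1) = c0 ^ 3 * c0⁻¹ by group, h3, one_mul]
    · refine ⟨c0⁻¹, 1, by norm_num, inv_mem hc0C, Subgroup.inv_mem _ hc0C.1,
        inv_ne_one.2 hc01, ?_⟩
      rw [hyx]
      group
  have hcP' : ∀ z ∈ (P : Subgroup G), ∀ n : ℕ, Commute (c ^ n) z := fun z hz n => by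
    obtain ⟨j, -, rfl⟩ := hCnat hcC
    exact ((show Commute c0 z from hcc z hz).pow_left j).pow_left n
  have hcC' : u * c * u⁻¹ = c := by
    rw [← (mem_centralizer_singleton_iff.1 hcC.2 : c * u = u * c), mul_inv_cancel_right]
  -- normal forms
  have hswap1 : ∀ B : ℕ, y ^ B * x = x * y ^ B * c ^ (2 * e * B) := by
    intro B
    induction B with
    | zero => simp
    | succ B ih =>
      calc y ^ (B + 1) * x = y * (y ^ B * x) := by rw [pow_succ']; group
        _ = (y * x) * y ^ B * c ^ (2 * e * B) := by rw [ih]; group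
        _ = x * y * (c ^ (2 * e) * y ^ B) * c ^ (2 * e * B) := by rw [hrel]; group
        _ = x * y * (y ^ B * c ^ (2 * e)) * c ^ (2 * e * B) := by
          rw [((hcP' y hy (2 * e)).pow_right B).eq]
        _ = x * y ^ (B + 1) * c ^ (2 * e * (B + 1)) := by
          rw [pow_succ' y B, show 2 * e * (B + 1) = 2 * e + 2 * e * B by ring, pow_add]; group
  have hswap : ∀ A B : ℕ, y ^ B * x ^ A = x ^ A * y ^ B * c ^ (2 * e * B * A) := by
    intro A
    induction A with
    | zero => intro B; simp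
    | succ A ih =>
      intro B
      calc y ^ B * x ^ (A + 1) = (y ^ B * x ^ A) * x := by rw [pow_succ]; group
        _ = x ^ A * y ^ B * (c ^ (2 * e * B * A) * x) := by rw [ih B]; group
        _ = x ^ A * (y ^ B * x) * c ^ (2 * e * B * A) := by rw [(hcP' x hx _).eq]; group
        _ = x ^ (A + 1) * y ^ B * (c ^ (2 * e * B) * c ^ (2 * e * B * A)) := by
          rw [hswap1 B, pow_succ]; group
        _ = _ := by
          rw [← pow_add]
          congr 2
          ring
  let φ : ℕ → G := fun p => x ^ (p % 3) * y ^ (p / 3 % 3) * c ^ (p / 9 + e * (p % 3) * (p / 3 % 3))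
  have hφmem : ∀ p, φ p ∈ (P : Subgroup G) := fun p =>
    Subgroup.mul_mem _ (Subgroup.mul_mem _ (Subgroup.pow_mem _ hx _) (Subgroup.pow_mem _ hy _))
      (Subgroup.pow_mem _ hcP _)
  have hhom : ∀ p, p < 27 → ∀ q, q < 27 → φ (mulP e p q) = φ p * φ q := by
    intro p hp q hq
    have key : ∀ a b n A B N : ℕ, x ^ a * y ^ b * c ^ n * (x ^ A * y ^ B * c ^ N) =
        x ^ (a + A) * y ^ (b + B) * c ^ (n + N + 2 * e * b * A) := by
      intro a b n A B N
      calc x ^ a * y ^ b * c ^ n * (x ^ A * y ^ B * c ^ N)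
          = x ^ a * y ^ b * (c ^ n * (x ^ A * y ^ B)) * c ^ N := by group
        _ = x ^ a * (y ^ b * x ^ A) * y ^ B * c ^ n * c ^ N := by
          rw [(hcP' _ (Subgroup.mul_mem _ (Subgroup.pow_mem _ hx A) (Subgroup.pow_mem _ hy B)) n).eq]
          group
        _ = x ^ (a + A) * y ^ b * (c ^ (2 * e * b * A) * y ^ B) * c ^ n * c ^ N := by
          rw [hswap A b, pow_add x]; group
        _ = x ^ (a + A) * y ^ b * (y ^ B * c ^ (2 * e * b * A)) * c ^ n * c ^ N := by
          rw [(hcP' _ (Subgroup.pow_mem _ hy B) (2 * e * b * A)).eq]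
        _ = _ := by
          rw [show n + N + 2 * e * b * A = 2 * e * b * A + (n + N) by ring, pow_add c, pow_add c,
            pow_add y]
          group
    show φ _ = _
    simp only [φ]
    rw [key, hp3 hx (mulP e p q % 3), hp3 hy (mulP e p q / 3 % 3),
      hp3 hcP (mulP e p q / 9 + e * (mulP e p q % 3) * (mulP e p q / 3 % 3)),
      hp3 hx (p % 3 + q % 3), hp3 hy (p / 3 % 3 + q / 3 % 3),
      hp3 hcP (p / 9 + e * (p % 3) * (p / 3 % 3) + (q / 9 + e * (q % 3) * (q / 3 % 3)) +
        2 * e * (p / 3 % 3) * (q % 3))]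
    have num : ∀ e, e < 2 → ∀ p, p < 27 → ∀ q, q < 27 →
        mulP e p q % 3 % 3 = (p % 3 + q % 3) % 3 ∧
        mulP e p q / 3 % 3 % 3 = (p / 3 % 3 + q / 3 % 3) % 3 ∧
        (mulP e p q / 9 + e * (mulP e p q % 3) * (mulP e p q / 3 % 3)) % 3 =
          (p / 9 + e * (p % 3) * (p / 3 % 3) + (q / 9 + e * (q % 3) * (q / 3 % 3)) +
            2 * e * (p / 3 % 3) * (q % 3)) % 3 := by decide +kernel
    obtain ⟨n1, n2, n3⟩ := num e he p hp q hq
    rw [n1, n2, n3]
  have hsurj : ∀ z ∈ (P : Subgroup G), ∃ p, p < 27 ∧ φ p = z := by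
    let R : Subgroup G :=
      { carrier := {z | ∃ p, p < 27 ∧ φ p = z}
        one_mem' := ⟨0, by norm_num, by simp [φ]⟩
        mul_mem' := by
          rintro a b ⟨p, hp, rfl⟩ ⟨q, hq, rfl⟩
          exact ⟨_, mulP_lt e he p hp q hq, hhom p hp q hq⟩
        inv_mem' := by
          rintro a ⟨p, hp, rfl⟩
          refine ⟨invP p, invP_lt p hp, eq_inv_of_mul_eq_one_right ?_⟩
          rw [← hhom p hp _ (invP_lt p hp), mulP_inv e he p hp]
          simp [φ] }
    have hxR : x ∈ R := ⟨1, by norm_num, by simp [φ]⟩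
    have hyR : y ∈ R := ⟨3, by norm_num, by simp [φ]⟩
    have hcR : c ∈ R := ⟨9, by norm_num, by simp [φ]⟩
    have hCR : C ≤ R := by
      have e1 : zpowers c = C := eq_of_le_of_card_ge (zpowers_le.2 hcC) (by
        rw [hC3, Nat.card_zpowers]
        exact ((Nat.prime_three.eq_one_or_self_of_dvd _
          (orderOf_dvd_of_pow_eq_one (h.pow_three P hcP))).resolve_left
            fun e => hc1 (orderOf_eq_one_iff.1 e)).ge)
      exact e1.ge.trans (zpowers_le.2 hcR)
    have hS1R : S1 ≤ R := sup_le hCR (zpowers_le.2 hxR)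
    have hRP : R ≤ (P : Subgroup G) := by rintro z ⟨p, -, rfl⟩; exact hφmem p
    have hR : R = (P : Subgroup G) := by
      refine eq_of_le_of_card_ge hRP ?_
      have hd : Nat.card R ∣ 3 ^ 3 := (card_dvd_of_le hRP).trans (dvd_of_eq (h.card_sylow P))
      obtain ⟨i, hi, hi'⟩ := (Nat.dvd_prime_pow Nat.prime_three).1 hd
      have h9 : 9 ≤ Nat.card S1 := by
        have hd1 : Nat.card S1 ∣ 3 ^ 3 :=
          (card_dvd_of_le hS1P).trans (dvd_of_eq (h.card_sylow P))
        obtain ⟨j, hj, hj'⟩ := (Nat.dvd_prime_pow Nat.prime_three).1 hd1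
        have hlt : Nat.card C < Nat.card S1 := by
          rcases (Nat.le_of_dvd Nat.card_pos (card_dvd_of_le (le_sup_left : C ≤ S1))).lt_or_eq with
            hl | hl
          · exact hl
          · exact absurd ((eq_of_le_of_card_ge le_sup_left (by rw [hl])).ge
              (mem_sup_right (mem_zpowers x) : x ∈ S1)) hxC
        rw [hC3, hj'] at hlt
        rw [hj']
        interval_cases j <;> omega
      have hlt : Nat.card S1 < Nat.card R := by
        rcases (Nat.le_of_dvd Nat.card_pos (card_dvd_of_le hS1R)).lt_or_eq with hl | hl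
        · exact hl
        · exact absurd ((eq_of_le_of_card_ge hS1R (by rw [hl])).ge hyR) hyS
      rw [h.card_sylow P, hi']
      rw [hi'] at hlt
      interval_cases i <;> omega
    exact fun z hz => hR.ge hz
  have hinj : ∀ p, p < 27 → ∀ q, q < 27 → φ p = φ q → p = q := by
    have hbij : Function.Bijective (fun p : Fin 27 => (⟨φ p.val, hφmem _⟩ : (P : Subgroup G))) := by
      refine (Function.Surjective.bijective_of_nat_card_le ?_ ?_)
      · rintro ⟨z, hz⟩
        obtain ⟨p, hp, rfl⟩ := hsurj z hz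
        exact ⟨⟨p, hp⟩, rfl⟩
      · rw [Nat.card_eq_fintype_card, Fintype.card_fin, h.card_sylow P]
    intro p hp q hq e
    exact congrArg Fin.val (hbij.1 (a₁ := ⟨p, hp⟩) (a₂ := ⟨q, hq⟩) (Subtype.ext e))
  refine ⟨e, φ, u, ⟨he, hφmem, hinj, hsurj, hhom⟩, huH, hucomm, fun p hp => ?_⟩
  have hux2 : u * x * u⁻¹ = x ^ 2 := by
    rw [hux]
    exact inv_eq_of_mul_eq_one_right (by rw [← pow_succ']; exact h.pow_three P hx)
  have huy2 : u * y * u⁻¹ = y ^ 2 := by
    rw [huy]
    exact inv_eq_of_mul_eq_one_right (by rw [← pow_succ']; exact h.pow_three P hy)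
  have num : ∀ e, e < 2 → ∀ p, p < 27 →
      negP p % 3 % 3 = 2 * (p % 3) % 3 ∧ negP p / 3 % 3 % 3 = 2 * (p / 3 % 3) % 3 ∧
      (negP p / 9 + e * (negP p % 3) * (negP p / 3 % 3)) % 3 =
        (p / 9 + e * (p % 3) * (p / 3 % 3)) % 3 := by decide +kernel
  obtain ⟨n1, n2, n3⟩ := num e he p hp
  simp only [φ]
  rw [show u * (x ^ (p % 3) * y ^ (p / 3 % 3) * c ^ (p / 9 + e * (p % 3) * (p / 3 % 3))) * u⁻¹ =
      (u * x ^ (p % 3) * u⁻¹) * (u * y ^ (p / 3 % 3) * u⁻¹) *
        (u * c ^ (p / 9 + e * (p % 3) * (p / 3 % 3)) * u⁻¹) by group,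
    ← conj_pow, ← conj_pow, ← conj_pow, hux2, huy2, hcC', ← pow_mul, ← pow_mul,
    hp3 hx (2 * (p % 3)), hp3 hy (2 * (p / 3 % 3)),
    hp3 hcP (p / 9 + e * (p % 3) * (p / 3 % 3)), hp3 hx (negP p % 3), hp3 hy (negP p / 3 % 3),
    hp3 hcP (negP p / 9 + e * (negP p % 3) * (negP p / 3 % 3)), n1, n2, n3]

end Hyp

end CfsgLib.G2Recog
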