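import Cfsg.Agent.G2TwoRecog.InterSmallMain

/-!
# No intersections of order 9, and 28 Sylow 3-subgroups
-/

set_option autoImplicit false
set_option linter.style.haveILetI false
set_option linter.unusedSectionVars false

namespace CfsgLib.G2Recog

open Subgroup MulAction
open scoped commutatorElement Pointwise

variable {G : Type*} [Group G] [Finite G] [IsSimpleGroup G]

theorem index_stabilizer_mul {M X : Type*} [Group M] [MulAction M X] (x : X) :
    Nat.card (orbit M x) * Nat.card (stabilizer M x) = Nat.card M := by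
  rw [Nat.card_coe_set_eq, ← index_stabilizer, index_mul_card]

theorem conj_smul_iff {g : G} {D : Subgroup G} :
    MulAut.conj g • D = D ↔ g ∈ normalizer (D : Set G) := by
  constructor
  · intro e
    rw [mem_normalizer_iff]
    intro x
    constructor
    · intro hx
      rw [← e]
      exact (Subgroup.smul_mem_pointwise_smul_iff (a := MulAut.conj g)).2 hx
    · intro hx
      rw [← e] at hx
      exact (Subgroup.smul_mem_pointwise_smul_iff (a := MulAut.conj g) (x := x)).1 hx
  · intro hg
    ext x
    rw [Subgroup.mem_pointwise_smul_iff_inv_smul_mem, MulAut.smul_def, MulAut.inv_def,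
      MulAut.conj_symm_apply]
    exact ((mem_normalizer_iff''.1 hg) x).symm

namespace Hyp

variable (h : Hyp G)
include h

/-- The orbit of a Sylow subgroup under `P`. -/
theorem orbit_card (P Q : Sylow 3 G) :
    Nat.card (orbit (P : Subgroup G) Q) * Nat.card ((P : Subgroup G) ⊓ Q : Subgroup G) = 27 := by
  have h1 := index_stabilizer_mul (M := (P : Subgroup G)) Q
  rw [h.card_sylow P] at h1
  rw [← h1]
  congr 1
  have e : stabilizer (P : Subgroup G) Q = ((P : Subgroup G) ⊓ NP Q).subgroupOf P := by
    ext p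
    rw [mem_stabilizer_iff, mem_subgroupOf]
    exact Iff.trans (Sylow.smul_eq_iff_mem_normalizer (g := (p : G))) ⟨fun h => ⟨p.2, h⟩, fun h => h.2⟩
  rw [e, Nat.card_congr (subgroupOfEquivOfLe inf_le_left).toEquiv]
  exact (congrArg (fun H : Subgroup G => Nat.card H) (IsPGroup.inf_normalizer_sylow P.2 Q)).symm

theorem inter_card (P : Sylow 3 G) (Q : Sylow 3 G) (hne : Q ≠ P) :
    Nat.card ((P : Subgroup G) ⊓ Q : Subgroup G) ∈ [1, 3, 9] := by
  have hd : Nat.card ((P : Subgroup G) ⊓ Q : Subgroup G) ∣ 3 ^ 3 :=
    (card_dvd_of_le inf_le_left).trans (dvd_of_eq (h.card_sylow P))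
  obtain ⟨i, hi, hi'⟩ := (Nat.dvd_prime_pow Nat.prime_three).1 hd
  rw [hi']
  interval_cases i
  · simp
  · simp
  · simp
  · have e1 : (P : Subgroup G) ⊓ Q = P := eq_of_le_of_card_ge inf_le_left (by
      rw [hi', h.card_sylow P]; norm_num)
    exact absurd (Sylow.ext (eq_of_le_of_card_ge (e1 ▸ inf_le_right)
      (by rw [h.card_sylow P, h.card_sylow Q])).symm) hne

/-- The Sylow subgroups meeting `P` in a subgroup of order other than 9 are a multiple of 9. -/
theorem nine_dvd_rest (P : Sylow 3 G) :
    9 ∣ Nat.card {Q : Sylow 3 G // Q ≠ P ∧ Nat.card ((P : Subgroup G) ⊓ Q : Subgroup G) ≠ 9} := by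
  let p : SubMulAction (P : Subgroup G) (Sylow 3 G) :=
    { carrier := {Q | Q ≠ P ∧ Nat.card ((P : Subgroup G) ⊓ Q : Subgroup G) ≠ 9}
      smul_mem' := fun g Q hQ => by
        have hgP : g • P = P :=
          Sylow.smul_eq_iff_mem_normalizer.2 (le_normalizer (H := (P : Subgroup G)) g.2)
        refine ⟨fun e => hQ.1 (smul_left_cancel g (e.trans hgP.symm)), ?_⟩
        intro e
        refine hQ.2 ?_
        have h1 := h.orbit_card P Q
        have h2 := h.orbit_card P (g • Q)
        rw [orbit_smul, e] at h2
        nlinarith }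
  refine dvd_card_of_orbits (M := (P : Subgroup G)) (X := p) fun x => ?_
  have h1 : Nat.card (orbit (P : Subgroup G) x) = Nat.card (orbit (P : Subgroup G) (x : Sylow 3 G)) := by
    rw [← SubMulAction.val_image_orbit, Nat.card_image_of_injective Subtype.val_injective]
  rw [h1]
  have h2 := h.orbit_card P (x : Sylow 3 G)
  have h3 := h.inter_card P _ x.2.1
  simp only [List.mem_cons, List.not_mem_nil, or_false] at h3
  rcases h3 with e | e | e
  · rw [e, mul_one] at h2; exact ⟨3, h2.trans (by norm_num)⟩
  · rw [e] at h2; exact ⟨1, by omega⟩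
  · exact absurd e x.2.2

theorem card_split (P : Sylow 3 G) :
    Nat.card (Sylow 3 G) = 1 +
      Nat.card {Q : Sylow 3 G // Nat.card ((P : Subgroup G) ⊓ Q : Subgroup G) = 9} +
      Nat.card {Q : Sylow 3 G // Q ≠ P ∧ Nat.card ((P : Subgroup G) ⊓ Q : Subgroup G) ≠ 9} := by
  classical
  haveI := Fintype.ofFinite (Sylow 3 G)
  have hP : ¬ Nat.card ((P : Subgroup G) ⊓ P : Subgroup G) = 9 := by
    rw [inf_idem, h.card_sylow P]; norm_num
  rw [Nat.card_eq_fintype_card (α := Sylow 3 G), Nat.card_eq_fintype_card, Nat.card_eq_fintype_card,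
    Fintype.card_subtype, Fintype.card_subtype, ← Finset.card_singleton P, ← Finset.card_union_of_disjoint, ← Finset.card_union_of_disjoint,
    ← Finset.card_univ]
  · congr 1
    ext Q
    simp only [Finset.mem_univ, Finset.mem_union, Finset.mem_singleton, Finset.mem_filter,
      true_iff, true_and]
    tauto
  · rw [Finset.disjoint_left]
    intro Q hQ
    simp only [Finset.mem_union, Finset.mem_singleton, Finset.mem_filter] at hQ ⊢
    rcases hQ with rfl | hQ
    · simp
    · exact fun hh => hh.2.2 hQ.2
  · rw [Finset.disjoint_left]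
    intro Q hQ
    rw [Finset.mem_singleton] at hQ
    subst hQ
    simpa using hP

/-- No intersection of order 9 when the normalizer has order 216. -/
theorem no_inter_large {P : Sylow 3 G} (hN : Nat.card (NP P) = 216)
    (hs : Nat.card (Sylow 3 G) = 28) (Q0 : Sylow 3 G)
    (hQ0 : Nat.card ((P : Subgroup G) ⊓ Q0 : Subgroup G) = 9) : False := by
  classical
  haveI := Fintype.ofFinite (Sylow 3 G)
  have hPN : (P : Subgroup G) ≤ NP P := le_normalizer
  set A := {Q : Sylow 3 G // Nat.card ((P : Subgroup G) ⊓ Q : Subgroup G) = 9} with hAdef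
  have hA : 9 ∣ Nat.card A ∧ Nat.card A ≤ 27 := by
    have h1 := h.card_split P
    rw [hs, ← hAdef] at h1
    obtain ⟨l, hl⟩ := h.nine_dvd_rest P
    exact ⟨by omega, by omega⟩
  -- the intersections
  let S : Set (Subgroup G) := {D | ∃ Q : Sylow 3 G,
    (P : Subgroup G) ⊓ Q = D ∧ Nat.card ((P : Subgroup G) ⊓ Q : Subgroup G) = 9}
  have hconj : ∀ g ∈ NP P, ∀ Q : Sylow 3 G,
      (P : Subgroup G) ⊓ (g • Q : Sylow 3 G) = MulAut.conj g • ((P : Subgroup G) ⊓ Q) := by
    intro g hg Q
    rw [Subgroup.smul_inf]
    congr 1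
    exact (congrArg (fun R : Sylow 3 G => (R : Subgroup G))
      (Sylow.smul_eq_iff_mem_normalizer.2 hg)).symm
  let p : SubMulAction (NP P) (Sylow 3 G) :=
    { carrier := {Q | Nat.card ((P : Subgroup G) ⊓ Q : Subgroup G) = 9}
      smul_mem' := fun g Q hQ => by
        show Nat.card ((P : Subgroup G) ⊓ ((g : G) • Q : Sylow 3 G) : Subgroup G) = 9
        rw [hconj g g.2, Nat.card_congr (equivSMul (MulAut.conj (g : G)) _).symm.toEquiv]
        exact hQ }
  letI actS : MulAction (NP P) S :=
    { smul := fun g D => ⟨MulAut.conj (g : G) • (D : Subgroup G), by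
        obtain ⟨Q, hQ, hc⟩ := D.2
        exact ⟨(g : G) • Q, by rw [hconj g g.2, hQ], p.smul_mem g hc⟩⟩
      one_smul := fun D => Subtype.ext (show MulAut.conj (1 : G) • (D : Subgroup G) = D by
        rw [map_one, one_smul])
      mul_smul := fun a b D => Subtype.ext (show MulAut.conj ((a : G) * b) • (D : Subgroup G) =
        MulAut.conj (a : G) • MulAut.conj (b : G) • (D : Subgroup G) by rw [map_mul, mul_smul]) }
  have hIs : ∀ D : S, ∃ n, Inter P (D : Subgroup G) n ∧
      Nat.card {Q : Sylow 3 G // (P : Subgroup G) ⊓ Q = D} + 1 = n := by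
    rintro ⟨D, Q, rfl, hc⟩
    obtain ⟨n, I⟩ := h.exists_inter P Q hc
    exact ⟨n, I, by rw [h.card_inter_nine hc P inf_le_left, I.overK]⟩
  let e : A ≃ (D : S) × {Q : Sylow 3 G // (P : Subgroup G) ⊓ Q = (D : Subgroup G)} :=
    { toFun := fun Q => ⟨⟨(P : Subgroup G) ⊓ Q.1, Q.1, rfl, Q.2⟩, Q.1, rfl⟩
      invFun := fun x => ⟨x.2.1, by
        obtain ⟨Q, hQ, hc⟩ := x.1.2
        rw [x.2.2, ← hQ]; exact hc⟩
      left_inv := fun Q => rfl
      right_inv := fun x => by
        obtain ⟨⟨D, hD⟩, Q, hQ⟩ := x
        have hQ' : (P : Subgroup G) ⊓ Q = D := hQ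
        subst hQ'
        rfl }
  -- every orbit has even length and every fibre three elements
  have hD : ∀ D : S, Nat.card {Q : Sylow 3 G // (P : Subgroup G) ⊓ Q = (D : Subgroup G)} = 3 ∧
      2 ∣ Nat.card (orbit (NP P) D) := by
    intro D
    obtain ⟨n, I, hn⟩ := hIs D
    have hPK : (P : Subgroup G) ≤ normalizer ((D : Subgroup G) : Set G) :=
      h.le_normalizer_of_nine I.nine P I.le
    obtain ⟨k, hk, hKc⟩ := h.card_cases (h.card_sylow P ▸ card_dvd_of_le hPK)
      (h.le_normalizer_ne_top I.nine (by norm_num) (by norm_num))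
    set c := Nat.card (normalizer ((D : Subgroup G) : Set G) ⊓ NP P : Subgroup G) with hc
    have hstab : Nat.card (stabilizer (NP P) D) = c := by
      have e1 : stabilizer (NP P) D =
          (normalizer ((D : Subgroup G) : Set G) ⊓ NP P).subgroupOf (NP P) := by
        ext g
        rw [mem_stabilizer_iff, mem_subgroupOf, Subtype.ext_iff]
        exact ⟨fun hg => ⟨conj_smul_iff.1 hg, g.2⟩, fun hg => conj_smul_iff.2 hg.1⟩
      rw [e1, Nat.card_congr (subgroupOfEquivOfLe inf_le_right).toEquiv]
    have horb := index_stabilizer_mul (M := NP P) D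
    rw [hstab, hN] at horb
    have hcnt := I.count
    rw [← hc, hKc] at hcnt
    have h27 : 27 ∣ c := h.card_sylow P ▸ card_dvd_of_le (le_inf hPK hPN)
    have hle : c ≤ 108 := by
      by_contra hgt
      have hmod := I.mod
      have h2 := I.two_le
      have : c ≤ 216 := hN ▸ Nat.le_of_dvd Nat.card_pos (card_dvd_of_le inf_le_right)
      obtain ⟨d, hd⟩ := h27
      rw [hd] at hcnt hgt this
      have hd216 : d ∣ 8 := Nat.dvd_of_mul_dvd_mul_left (by norm_num : 0 < 27)
        (by rw [← hd, show 27 * 8 = 216 by norm_num, ← hN]; exact card_dvd_of_le inf_le_right)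
      have hd8 : d = 8 := by
        have := Nat.le_of_dvd (by norm_num) hd216
        interval_cases d <;> omega
      subst hd8
      interval_cases k <;> omega
    have heven : 2 ∣ Nat.card (orbit (NP P) D) := by
      obtain ⟨d, hd⟩ := h27
      rw [hd] at horb hle
      have : d ≤ 4 := by omega
      interval_cases d <;> omega
    refine ⟨?_, heven⟩
    -- two disjoint fibres
    obtain ⟨D', hD', hne⟩ : ∃ D' ∈ orbit (NP P) D, D' ≠ D := by
      by_contra hall
      push_neg at hall
      have : Nat.card (orbit (NP P) D) = 1 := Nat.card_eq_one_iff_unique.2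
        ⟨⟨fun a b => Subtype.ext ((hall a a.2).trans (hall b b.2).symm)⟩, ⟨⟨D, mem_orbit_self D⟩⟩⟩
      omega
    obtain ⟨g, rfl⟩ := hD'
    set F := {Q : Sylow 3 G // (P : Subgroup G) ⊓ Q = (D : Subgroup G)} with hF
    set F' := {Q : Sylow 3 G // (P : Subgroup G) ⊓ Q = ((g • D : S) : Subgroup G)} with hF'
    haveI := Fintype.ofFinite S
    have hFF : Nat.card F + Nat.card F' ≤ Nat.card A := by
      rw [Nat.card_congr e, Nat.card_sigma]
      calc Nat.card F + Nat.card F' = ∑ x ∈ ({D, g • D} : Finset S),
            Nat.card {Q : Sylow 3 G // (P : Subgroup G) ⊓ Q = (x : Subgroup G)} := by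
            rw [Finset.sum_pair (Ne.symm hne)]
        _ ≤ _ := Finset.sum_le_sum_of_subset (Finset.subset_univ _)
    have hsame : Nat.card F ≤ Nat.card F' := by
      refine Nat.card_le_card_of_injective
        (fun Q : F => (⟨(g : G) • Q.1, by rw [hconj g g.2, Q.2]; rfl⟩ : F')) fun a b e => ?_
      exact Subtype.ext (smul_left_cancel (g : G) (congrArg Subtype.val e))
    have hmod := I.mod
    have h2 := I.two_le
    obtain ⟨d, hd⟩ := h27
    rw [hd] at hcnt
    have hnd : n ∣ 2 ^ k := ⟨d, by
      have h9 : 27 * (n * d) = 27 * 2 ^ k := by rw [← hcnt]; ring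
      omega⟩
    obtain ⟨i, hi, rfl⟩ := (Nat.dvd_prime_pow Nat.prime_two).1 hnd
    have hi4 : i ≤ 4 := hi.trans hk
    interval_cases i
    all_goals (try norm_num at hmod)
    all_goals omega
  have hcard : Nat.card A = 3 * Nat.card S := by
    haveI := Fintype.ofFinite S
    rw [Nat.card_congr e, Nat.card_sigma]
    simp only [fun D => (hD D).1, Finset.sum_const, Finset.card_univ, smul_eq_mul,
      Nat.card_eq_fintype_card]
    ring
  have heven : 2 ∣ Nat.card S := dvd_card_of_orbits (M := NP P) fun D => (hD D).2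
  have hpos : 0 < Nat.card S := by
    haveI : Nonempty S := ⟨⟨_, Q0, rfl, hQ0⟩⟩
    exact Nat.card_pos
  have hsix : Nat.card S = 6 := by omega
  by_cases hab : ∀ a ∈ (P : Subgroup G), ∀ b ∈ (P : Subgroup G), a * b = b * a
  · -- an orbit of length two
    obtain ⟨D, hD2⟩ : ∃ D : S, ¬ 4 ∣ Nat.card (orbit (NP P) D) := by
      by_contra hall
      push_neg at hall
      have := dvd_card_of_orbits (M := NP P) hall
      rw [hsix] at this
      norm_num at this
    obtain ⟨n, I, hn⟩ := hIs D
    have horb : Nat.card (orbit (NP P) D) = 2 := by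
      have h1 : Nat.card (orbit (NP P) D) ∣ 216 :=
        ⟨_, ((index_stabilizer_mul (M := NP P) D).trans hN).symm⟩
      have h2 : Nat.card (orbit (NP P) D) ≤ 6 :=
        hsix ▸ Nat.card_le_card_of_injective _ Subtype.val_injective
      have h3 := (hD D).2
      have h5 : Nat.card (orbit (NP P) D) ≠ 6 := by
        intro e6
        -- the Sylow subgroup fixes every intersection, so the length is prime to three
        have h4 : (P : Subgroup G).subgroupOf (NP P) ≤ stabilizer (NP P) D := fun q hq => by
          rw [mem_stabilizer_iff, Subtype.ext_iff]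
          have hq' : (q : G) ∈ normalizer ((D : Subgroup G) : Set G) :=
            h.le_normalizer_of_nine I.nine P I.le hq
          exact conj_smul_iff.2 hq'
        have h6 := card_dvd_of_le h4
        rw [Nat.card_congr (subgroupOfEquivOfLe hPN).toEquiv, h.card_sylow P] at h6
        have h7 := index_stabilizer_mul (M := NP P) D
        rw [e6, hN] at h7
        omega
      generalize Nat.card (orbit (NP P) D) = o at *
      interval_cases o <;> omega
    obtain ⟨D', hD', hne⟩ : ∃ D' ∈ orbit (NP P) D, D' ≠ D := by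
      by_contra hall
      push_neg at hall
      have : Nat.card (orbit (NP P) D) = 1 := Nat.card_eq_one_iff_unique.2
        ⟨⟨fun a b => Subtype.ext ((hall a a.2).trans (hall b b.2).symm)⟩, ⟨⟨D, mem_orbit_self D⟩⟩⟩
      omega
    have hD'P : (D' : Subgroup G) ≤ (P : Subgroup G) ∧ Nat.card (D' : Subgroup G) = 9 := by
      obtain ⟨Q, hQ, hc⟩ := D'.2
      exact ⟨hQ ▸ inf_le_left, hQ ▸ hc⟩
    have hpair : ∀ x ∈ orbit (NP P) D, x = D ∨ x = D' := by
      intro x hx
      by_contra hnot
      push_neg at hnot
      haveI := Fintype.ofFinite (orbit (NP P) D)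
      rw [Nat.card_eq_fintype_card] at horb
      have h3 : ({⟨D, mem_orbit_self D⟩, ⟨D', hD'⟩, ⟨x, hx⟩} : Finset (orbit (NP P) D)).card ≤ 2 :=
        horb ▸ Finset.card_le_univ _
      rw [Finset.card_insert_of_notMem, Finset.card_insert_of_notMem, Finset.card_singleton] at h3
      · omega
      · simpa using hnot.2.symm
      · simp only [Finset.mem_insert, Finset.mem_singleton, Subtype.mk.injEq, not_or]
        exact ⟨hne.symm, hnot.1.symm⟩
    set L := (D : Subgroup G) ⊓ D' with hL
    have hLP : L ≤ (P : Subgroup G) := inf_le_left.trans I.le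
    have hNL : NP P ≤ normalizer (L : Set G) := by
      intro g hg
      let g' : NP P := ⟨g, hg⟩
      have k1 := hpair (g' • D) (mem_orbit D g')
      have k2 := hpair (g' • D') (mem_orbit_of_mem_orbit g' hD')
      have kne : g' • D ≠ g' • D' := fun e => hne (smul_left_cancel g' e).symm
      have key : MulAut.conj g • L = L := by
        have e1 : MulAut.conj g • L = ((g' • D : S) : Subgroup G) ⊓ (g' • D' : S) :=
          Subgroup.smul_inf _ _ _
        rw [e1, hL]
        rcases k1 with k1 | k1 <;> rcases k2 with k2 | k2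
        · exact absurd (k1.trans k2.symm) kne
        · rw [k1, k2]
        · rw [k1, k2, inf_comm]
        · exact absurd (k1.trans k2.symm) kne
      exact conj_smul_iff.1 key
    have hL3 : Nat.card L = 3 := by
      have h1 : Nat.card L ∣ 9 := I.nine ▸ card_dvd_of_le inf_le_left
      have h2 : L ≠ D := fun e => hne (Subtype.ext
        (eq_of_le_of_card_ge (e ▸ inf_le_right) (by rw [hD'P.2, I.nine])).symm)
      have h3 : Nat.card L ≠ 9 := fun e => h2 (eq_of_le_of_card_ge inf_le_left (by rw [e, I.nine]))
      have h4 : Nat.card L ≠ 1 := by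
        intro e1
        have hinj : Function.Injective (fun x : ↥(D : Subgroup G) × ↥(D' : Subgroup G) =>
            (⟨(x.1 : G) * x.2, mul_mem (I.le x.1.2) (hD'P.1 x.2.2)⟩ : (P : Subgroup G))) :=
          fun a b e => mul_injective_of_disjoint (disjoint_iff.2 (eq_bot_of_card_eq L e1))
            (congrArg Subtype.val e)
        have := Nat.card_le_card_of_injective _ hinj
        rw [Nat.card_prod, I.nine, hD'P.2, h.card_sylow P] at this
        omega
      obtain ⟨i, hi, hi'⟩ := (Nat.dvd_prime_pow Nat.prime_three).1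
        (show Nat.card L ∣ 3 ^ 2 by norm_num; exact h1)
      interval_cases i <;> omega
    have hPK : (P : Subgroup G) ≤ normalizer ((D : Subgroup G) : Set G) :=
      h.le_normalizer_of_nine I.nine P I.le
    obtain ⟨x, hxK, hxD, hxN⟩ : ∃ x, x ∈ normalizer ((D : Subgroup G) : Set G) ∧
        x ∈ centralizer ((D : Subgroup G) : Set G) ∧ x ∉ NP P := by
      by_contra hall
      push_neg at hall
      have h2 := I.two_le
      have h1 := I.overK
      have hone : ∀ Q : {Q : Sylow 3 G // (Q : Subgroup G) ≤
          normalizer ((D : Subgroup G) : Set G)}, Q.1 = P := by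
        rintro ⟨Q, hQ⟩
        obtain ⟨⟨y, hy⟩, hyQ⟩ := exists_smul_eq (normalizer ((D : Subgroup G) : Set G))
          (P.subtype hPK) (Q.subtype hQ)
        rw [Sylow.smul_subtype hPK ⟨y, hy⟩] at hyQ
        have e2 : y • P = Q := Sylow.subtype_injective hyQ
        suffices hQN : (Q : Subgroup G) ≤ NP P by
          have h3 := IsPGroup.inf_normalizer_sylow Q.2 P
          refine Sylow.ext (eq_of_le_of_card_ge ?_ (by rw [h.card_sylow P, h.card_sylow Q]))
          exact fun q hq => (h3.le ⟨hq, hQN hq⟩).2
        intro q hq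
        rw [← e2, Sylow.coe_subgroup_smul, Subgroup.mem_pointwise_smul_iff_inv_smul_mem,
          MulAut.smul_def, MulAut.inv_def, MulAut.conj_symm_apply] at hq
        have hz : q ∈ normalizer ((D : Subgroup G) : Set G) := by
          have := mul_mem (mul_mem hy (hPK hq)) (inv_mem hy)
          simpa [mul_assoc] using this
        have hzc : q ∈ centralizer ((D : Subgroup G) : Set G) := mem_centralizer_iff.2 fun d hd => by
          have e3 := hab _ (I.le ((mem_normalizer_iff''.1 hy d).1 hd)) _ hq
          calc d * q = y * ((y⁻¹ * d * y) * (y⁻¹ * q * y)) * y⁻¹ := by group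
            _ = y * ((y⁻¹ * q * y) * (y⁻¹ * d * y)) * y⁻¹ := by rw [e3]
            _ = q * d := by group
        exact hall q hz hzc
      haveI : Subsingleton {Q : Sylow 3 G // (Q : Subgroup G) ≤
          normalizer ((D : Subgroup G) : Set G)} :=
        ⟨fun a b => Subtype.ext ((hone a).trans (hone b).symm)⟩
      have := Finite.card_le_one_iff_subsingleton.2 this
      omega
    obtain ⟨j, hj, hjc⟩ := h.card_cases (h.card_sylow P ▸ card_dvd_of_le (hPN.trans hNL))
      (h.le_normalizer_ne_top hL3 (by norm_num) (by norm_num))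
    have hxL : x ∈ normalizer (L : Set G) := by
      refine Subgroup.centralizer_le_normalizer _ ?_
      exact centralizer_le (inf_le_left : L ≤ (D : Subgroup G)) hxD
    have hlt : 216 < Nat.card (normalizer (L : Set G)) := by
      rcases (Nat.le_of_dvd Nat.card_pos (hN ▸ card_dvd_of_le hNL)).lt_or_eq with hl | hl
      · exact hl
      · exact absurd ((eq_of_le_of_card_ge hNL (by rw [← hl, hN])) ▸ hxL) hxN
    obtain ⟨m, hm1, hm2, -⟩ := h.card_over P (hPN.trans hNL)
    rw [inf_eq_right.2 hNL, hN, hjc] at hm1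
    rw [hjc] at hlt
    interval_cases j <;> omega
  · -- non-commutative Sylow subgroup: at most four intersections
    push_neg at hab
    obtain ⟨a, ha, b, hb, hne⟩ := hab
    set Z := (Subgroup.center (P : Subgroup G)).map (P : Subgroup G).subtype with hZ
    have hnab : ∀ M : Subgroup G, M ≤ (P : Subgroup G) → Nat.card M = 9 → Z ≤ M := by
      intro M hMP hM z hz
      by_contra hzM
      obtain ⟨z', hz', rfl⟩ := hz
      haveI : Fact (Nat.Prime 3) := ⟨Nat.prime_three⟩
      have hMc : IsMulCommutative M :=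
        IsPGroup.isMulCommutative_of_card_eq_prime_sq (p := 3) (by rw [hM]; norm_num)
      set J := M ⊔ zpowers (z' : G) with hJ
      have hJP : J ≤ (P : Subgroup G) := sup_le hMP (zpowers_le.2 z'.2)
      have hJeq : J = (P : Subgroup G) := by
        refine eq_of_le_of_card_ge hJP ?_
        rw [h.card_sylow P]
        have h1 : Nat.card J ∣ 3 ^ 3 := (card_dvd_of_le hJP).trans (dvd_of_eq (h.card_sylow P))
        obtain ⟨i, hi, hi'⟩ := (Nat.dvd_prime_pow Nat.prime_three).1 h1
        have h2 : 9 < Nat.card J := by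
          rcases (Nat.le_of_dvd Nat.card_pos (card_dvd_of_le (le_sup_left : M ≤ J))).lt_or_eq with
            hl | hl
          · rw [hM] at hl; exact hl
          · exact absurd ((eq_of_le_of_card_ge le_sup_left (by rw [hl])).ge
              (mem_sup_right (mem_zpowers _) : (z' : G) ∈ J)) hzM
        rw [hi'] at h2 ⊢
        interval_cases i <;> omega
      have hcomm : ∀ u ∈ J, ∀ v ∈ J, u * v = v * u := by
        have h1 : M ≤ centralizer (J : Set G) := by
          rw [le_centralizer_iff]
          refine sup_le (le_centralizer_iff_isMulCommutative.2 hMc) (zpowers_le.2 ?_)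
          exact mem_centralizer_iff.2 fun m hm =>
            congrArg Subtype.val (Subgroup.mem_center_iff.1 hz' ⟨m, hMP hm⟩)
        have h2 : (z' : G) ∈ centralizer (J : Set G) := mem_centralizer_iff.2 fun j hj =>
          congrArg Subtype.val (Subgroup.mem_center_iff.1 hz' ⟨j, hJP hj⟩)
        have h3 : J ≤ centralizer (J : Set G) := sup_le h1 (zpowers_le.2 h2)
        exact fun u hu v hv => mem_centralizer_iff.1 (h3 hv) u hu
      exact hne (hcomm a (hJeq ▸ ha) b (hJeq ▸ hb))
    have hZne : Z ≠ ⊥ := by
      haveI : Nontrivial (P : Subgroup G) := Finite.one_lt_card_iff_nontrivial.1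
        (by rw [h.card_sylow P]; norm_num)
      haveI := P.2.center_nontrivial
      intro e
      rw [hZ, Subgroup.map_eq_bot_iff_of_injective _ (P : Subgroup G).subtype_injective] at e
      exact (Subgroup.nontrivial_iff_ne_bot _).1 inferInstance e
    obtain ⟨z, hz, hz1⟩ := (Subgroup.bot_or_exists_ne_one Z).resolve_left hZne
    have hzP : z ∈ (P : Subgroup G) := map_subtype_le _ hz
    have hz3 : Nat.card (zpowers z) = 3 := by
      rw [Nat.card_zpowers]
      exact (Nat.prime_three.eq_one_or_self_of_dvd _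
        (orderOf_dvd_of_pow_eq_one (h.pow_three P hzP))).resolve_left
          (fun e => hz1 (orderOf_eq_one_iff.1 e))
    haveI := Fintype.ofFinite S
    haveI := Fintype.ofFinite G
    let body : S → Finset G := fun D =>
      Finset.univ.filter fun g => g ∈ (D : Subgroup G) ∧ g ∉ zpowers z
    have hbody : ∀ D : S, 6 ≤ (body D).card := by
      intro D
      obtain ⟨Q, hQ, hc⟩ := D.2
      have h1 : (Finset.univ.filter fun g => g ∈ (D : Subgroup G)).card = 9 := by
        rw [← Fintype.card_subtype, ← Nat.card_eq_fintype_card]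
        exact hQ ▸ hc
      have h2 : (Finset.univ.filter fun g => g ∈ zpowers z).card = 3 := by
        rw [← Fintype.card_subtype, ← Nat.card_eq_fintype_card]
        exact hz3
      have h3 := Finset.le_card_sdiff (Finset.univ.filter fun g => g ∈ zpowers z)
        (Finset.univ.filter fun g => g ∈ (D : Subgroup G))
      rw [h1, h2] at h3
      refine le_trans h3 (Finset.card_le_card fun g => ?_)
      simp [body]
    have hdisj : (↑(Finset.univ : Finset S) : Set S).PairwiseDisjoint body := by
      intro D _ D' _ hne'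
      rw [Function.onFun, Finset.disjoint_left]
      intro g hg hg'
      simp only [body, Finset.mem_filter, Finset.mem_univ, true_and] at hg hg'
      obtain ⟨Q, hQ, hc⟩ := D.2
      obtain ⟨Q', hQ', hc'⟩ := D'.2
      refine hne' (Subtype.ext ?_)
      set M := (D : Subgroup G) ⊓ (D' : Subgroup G) with hM
      have hzM : zpowers z ≤ M := le_inf
        (zpowers_le.2 (hnab _ (hQ ▸ inf_le_left) (hQ ▸ hc) hz))
        (zpowers_le.2 (hnab _ (hQ' ▸ inf_le_left) (hQ' ▸ hc') hz))
      have h9 : Nat.card M = 9 := by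
        have h1 : Nat.card M ∣ 3 ^ 2 := (card_dvd_of_le inf_le_left).trans
          (dvd_of_eq (by rw [← hQ, hc]; norm_num))
        obtain ⟨i, hi, hi'⟩ := (Nat.dvd_prime_pow Nat.prime_three).1 h1
        interval_cases i
        · have := card_dvd_of_le hzM
          rw [hz3, hi'] at this
          norm_num at this
        · exact absurd ((eq_of_le_of_card_ge hzM (by rw [hz3, hi', pow_one])).ge ⟨hg.1, hg'.1⟩) hg.2
        · rw [hi']; norm_num
      have e1 : M = (D : Subgroup G) := eq_of_le_of_card_ge inf_le_left (by rw [h9, ← hQ, hc])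
      have e2 : M = (D' : Subgroup G) := eq_of_le_of_card_ge inf_le_right (by rw [h9, ← hQ', hc'])
      exact e1.symm.trans e2
    have hsub : (Finset.univ.biUnion body) ⊆
        (Finset.univ.filter fun g => g ∈ (P : Subgroup G)) \
          (Finset.univ.filter fun g => g ∈ zpowers z) := by
      intro g hg
      simp only [Finset.mem_biUnion, body, Finset.mem_filter, Finset.mem_univ, true_and] at hg
      obtain ⟨D, hgD, hgz⟩ := hg
      obtain ⟨Q, hQ, -⟩ := D.2
      simp only [Finset.mem_sdiff, Finset.mem_filter, Finset.mem_univ, true_and]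
      exact ⟨(inf_le_left : (P : Subgroup G) ⊓ Q ≤ P) (hQ.symm ▸ hgD), hgz⟩
    have h4 := Finset.card_le_card hsub
    rw [Finset.card_biUnion hdisj] at h4
    have h5 : 6 * 6 ≤ ∑ D : S, (body D).card := by
      refine le_trans ?_ (Finset.card_nsmul_le_sum Finset.univ _ 6 fun D _ => hbody D)
      rw [Finset.card_univ, ← Nat.card_eq_fintype_card, hsix]
      norm_num
    have h6 : ((Finset.univ.filter fun g => g ∈ (P : Subgroup G)) \
        (Finset.univ.filter fun g => g ∈ zpowers z)).card ≤ 27 := by
      refine (Finset.card_le_card Finset.sdiff_subset).trans ?_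
      rw [← Fintype.card_subtype, ← Nat.card_eq_fintype_card]
      exact (h.card_sylow P).le
    omega

/-- The normalizer of a Sylow 3-subgroup has order 216; intersections have order 1 or 3. -/
theorem sylow_facts (hnc : ¬ IsMulCommutative G) (P : Sylow 3 G) :
    Nat.card (NP P) = 216 ∧ Nat.card (Sylow 3 G) = 28 ∧
      ∀ Q : Sylow 3 G, Q ≠ P → Nat.card ((P : Subgroup G) ⊓ Q : Subgroup G) ∈ [1, 3] := by
  have no9 : ∀ Q : Sylow 3 G, Nat.card ((P : Subgroup G) ⊓ Q : Subgroup G) ≠ 9 := by
    intro Q hQ
    rcases h.index_normalizer P with ⟨hN, hs⟩ | ⟨hN, hs⟩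
    · exact h.no_inter_large hN hs Q hQ
    · obtain ⟨n, I⟩ := h.exists_inter P Q hQ
      exact h.no_inter_small hnc hN I
  have hN : Nat.card (NP P) = 216 ∧ Nat.card (Sylow 3 G) = 28 := by
    refine (h.index_normalizer P).resolve_right fun hh => ?_
    have h1 := h.card_split P
    haveI : IsEmpty {Q : Sylow 3 G // Nat.card ((P : Subgroup G) ⊓ Q : Subgroup G) = 9} :=
      ⟨fun Q => no9 Q.1 Q.2⟩
    rw [hh.2, Nat.card_of_isEmpty] at h1
    have h2 := h.nine_dvd_rest P
    omega
  refine ⟨hN.1, hN.2, fun Q hQ => ?_⟩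
  have h1 := h.inter_card P Q hQ
  have h2 := no9 Q
  simp only [List.mem_cons, List.not_mem_nil, or_false] at h1 ⊢
  omega

end Hyp

end CfsgLib.G2Recog
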