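import Cfsg.Agent.G2TwoRecog.Sylow

/-!
# Intersections of order 9 when the normalizer of a Sylow 3-subgroup has order 54

They do not exist.
-/

set_option autoImplicit false
set_option linter.style.haveILetI false
set_option linter.unusedSectionVars false

namespace CfsgLib.G2Recog

open Subgroup MulAction
open scoped commutatorElement Pointwise

variable {G : Type*} [Group G] [Finite G] [IsSimpleGroup G]

namespace Hyp

variable (h : Hyp G) (hnc : ¬ IsMulCommutative G) {P : Sylow 3 G} (hN : Nat.card (NP P) = 54)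
include h hnc hN

/-- When `P` is commutative, the elements outside `P` in its normalizer invert it. -/
theorem inverts (hab : ∀ a ∈ (P : Subgroup G), ∀ b ∈ (P : Subgroup G), a * b = b * a)
    {t : G} (ht : t ∈ NP P) (htP : t ∉ (P : Subgroup G)) :
    ∀ p ∈ (P : Subgroup G), t * p * t⁻¹ = p⁻¹ := by
  have htn : ∀ p ∈ (P : Subgroup G), t * p * t⁻¹ ∈ (P : Subgroup G) := fun p hp =>
    (mem_normalizer_iff.1 ht p).1 hp
  let M : Subgroup G :=
    { carrier := {p | p ∈ (P : Subgroup G) ∧ t * p * t⁻¹ = p⁻¹}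
      one_mem' := ⟨one_mem _, by simp⟩
      mul_mem' := by
        rintro a b ⟨ha, ha'⟩ ⟨hb, hb'⟩
        refine ⟨mul_mem ha hb, ?_⟩
        rw [mul_inv_rev, ← hab _ (inv_mem ha) _ (inv_mem hb), ← ha', ← hb']
        group
      inv_mem' := by
        rintro a ⟨ha, ha'⟩
        refine ⟨inv_mem ha, ?_⟩
        rw [show t * a⁻¹ * t⁻¹ = (t * a * t⁻¹)⁻¹ by group, ha'] }
  have ht2 : t * t ∈ (P : Subgroup G) := by
    have hPN : (P : Subgroup G) ≤ NP P := le_normalizer
    have hidx : ((P : Subgroup G).subgroupOf (NP P)).index = 2 := by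
      have h1 := ((P : Subgroup G).subgroupOf (NP P)).card_mul_index
      rw [Nat.card_congr (subgroupOfEquivOfLe hPN).toEquiv, h.card_sylow P, hN] at h1
      omega
    exact Subgroup.mul_self_mem_of_index_two hidx ⟨t, ht⟩
  have hcomm : ∀ p ∈ (P : Subgroup G), ⁅t, p⁆ ∈ M := fun p hp => by
    have h1 : ⁅t, p⁆ = t * p * t⁻¹ * p⁻¹ := commutatorElement_def t p
    refine ⟨h1 ▸ mul_mem (htn p hp) (inv_mem hp), ?_⟩
    rw [h1, show t * (t * p * t⁻¹ * p⁻¹) * t⁻¹ =
        (t * t) * p * (t * t)⁻¹ * (t * p * t⁻¹)⁻¹ by group,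
      hab _ ht2 _ hp, mul_inv_cancel_right, mul_inv_rev (t * p * t⁻¹) p⁻¹, inv_inv]
  by_contra hne
  refine h.hw_two hnc P hN (M := M) ht htP (fun x hx => hx.1)
    (fun hle => hne fun p hp => (hle hp).2) ?_ ?_ ?_ hcomm
  · intro p hp
    rw [mem_normalizer_iff]
    intro x
    refine ⟨fun hx => ?_, fun hx => ?_⟩
    · rwa [hab p hp x hx.1, mul_inv_cancel_right]
    · have hxP : x ∈ (P : Subgroup G) := by
        have := mul_mem (mul_mem (inv_mem hp) hx.1) hp
        simpa [mul_assoc] using this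
      rwa [hab p hp x hxP, mul_inv_cancel_right] at hx
  · rw [mem_normalizer_iff]
    intro x
    refine ⟨fun hx => ⟨htn x hx.1, ?_⟩, fun hx => ?_⟩
    · calc t * (t * x * t⁻¹) * t⁻¹ = t * x⁻¹ * t⁻¹ := by rw [hx.2]
        _ = (t * x * t⁻¹)⁻¹ := by group
    · have hxP : x ∈ (P : Subgroup G) := (mem_normalizer_iff.1 ht x).2 hx.1
      refine ⟨hxP, ?_⟩
      have h2 := hx.2
      calc t * x * t⁻¹ = t⁻¹ * (t * (t * x * t⁻¹) * t⁻¹) * t := by group
        _ = t⁻¹ * (t * x * t⁻¹)⁻¹ * t := by rw [h2]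
        _ = x⁻¹ := by group
  · intro a ha b hb
    rw [commutatorElement_eq_one_iff_mul_comm.2 (hab a ha b hb)]
    exact one_mem _

/-- The four-group case. -/
theorem four_case {D : Subgroup G} {n : ℕ} (I : Inter P D n) (hn : n = 4) {U : Subgroup G}
    (hU : Nat.card U = 4) (hUK : U ≤ normalizer (D : Set G))
    (hUD : U ≤ centralizer (D : Set G))
    (hKU : normalizer (D : Set G) ≤ normalizer (U : Set G)) (hUN : U ⊓ NP P = ⊥) : False := by
  set K := normalizer (D : Set G) with hKdef
  have hPK : (P : Subgroup G) ≤ K := h.le_normalizer_of_nine I.nine P I.le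
  have hUcom : IsMulCommutative U :=
    IsPGroup.isMulCommutative_of_card_eq_prime_sq (p := 2) (by rw [hU]; norm_num)
  set W := centralizer (U : Set G) with hW
  set N2 := normalizer (U : Set G) with hN2
  have hUW : U ≤ W := le_centralizer_iff_isMulCommutative.2 hUcom
  have hDW : D ≤ W := fun d hd => mem_centralizer_iff.2 fun u hu =>
    (mem_centralizer_iff.1 (hUD hu) d hd).symm
  have hN2ne : N2 ≠ ⊤ := h.le_normalizer_ne_top hU (by norm_num) (by norm_num)
  have hWN2 : W ≤ N2 := Subgroup.centralizer_le_normalizer _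
  have hWn : ∀ g ∈ N2, ∀ x ∈ W, g * x * g⁻¹ ∈ W := by
    intro g hg x hx
    rw [hW, mem_centralizer_iff] at hx ⊢
    intro u hu
    have h1 := hx _ ((mem_normalizer_iff''.1 hg u).1 hu)
    calc u * (g * x * g⁻¹) = g * ((g⁻¹ * u * g) * x) * g⁻¹ := by group
      _ = g * (x * (g⁻¹ * u * g)) * g⁻¹ := by rw [h1]
      _ = g * x * g⁻¹ * u := by group
  have hPW : ¬ (P : Subgroup G) ≤ W := fun hle => by
    have h1 : U ≤ NP P := fun u hu => by
      refine Subgroup.centralizer_le_normalizer _ (mem_centralizer_iff.2 fun p hp => ?_)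
      exact (mem_centralizer_iff.1 (hle hp) u hu).symm
    rw [inf_eq_left.2 h1] at hUN
    rw [hUN, card_bot] at hU
    omega
  have hWD : W ⊓ (P : Subgroup G) = D := by
    refine (eq_of_le_of_card_ge (le_inf hDW I.le) ?_).symm
    rw [I.nine]
    have hd : Nat.card (W ⊓ (P : Subgroup G) : Subgroup G) ∣ 3 ^ 3 :=
      (card_dvd_of_le inf_le_right).trans (dvd_of_eq (h.card_sylow P))
    obtain ⟨i, hi, hi'⟩ := (Nat.dvd_prime_pow Nat.prime_three).1 hd
    rw [hi']
    by_contra hlt
    have h3 : i = 3 := by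
      by_contra
      have : 3 ^ i ≤ 3 ^ 2 := Nat.pow_le_pow_right (by norm_num) (by omega)
      omega
    exact hPW (inf_eq_right.1 (eq_of_le_of_card_ge inf_le_right
      (by rw [hi', h3, h.card_sylow P]; norm_num)))
  have hW27 : ¬ 27 ∣ Nat.card W := by
    intro h27
    obtain ⟨R, hR⟩ := Sylow.exists_subgroup_card_pow_prime (G := W) 3 (n := 3) h27
    let Q : Sylow 3 G := Sylow.ofCard (R.map W.subtype) (by
      rw [card_map_of_injective W.subtype_injective, hR, ← P.card_eq_multiplicity, h.card_sylow P]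
      norm_num)
    have hQW : (Q : Subgroup G) ≤ W := map_subtype_le _
    obtain ⟨x, hx⟩ := exists_smul_eq N2 (Q.subtype (hQW.trans hWN2)) (P.subtype (hPK.trans hKU))
    refine hPW fun p hp => ?_
    have hp2 : (⟨p, hKU (hPK hp)⟩ : N2) ∈ ((x • Q.subtype (hQW.trans hWN2) : Sylow 3 N2) : Subgroup N2) := by
      rw [hx, Sylow.coe_subtype, mem_subgroupOf]; exact hp
    rw [Sylow.coe_subgroup_smul, Subgroup.mem_pointwise_smul_iff_inv_smul_mem, MulAut.smul_def,
      MulAut.inv_def, MulAut.conj_symm_apply, Sylow.coe_subtype, mem_subgroupOf] at hp2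
    have h1 := hWn x x.2 _ (hQW hp2)
    simpa [mul_assoc] using h1
  -- the part of `W` normalising `D`
  set Y := K ⊓ W with hY
  have hYN : ∀ g ∈ Y, g ∈ NP P → g ∈ D := by
    intro g hg hgN
    rw [← hWD]
    refine ⟨hg.2, ?_⟩
    by_contra hgP
    refine h.hw_two hnc P hN hgN hgP I.le ?_ hPK hg.1 (h.commutator_mem_nine I.nine P I.le)
      fun p hp => ?_
    · intro hle
      have := card_dvd_of_le hle
      rw [h.card_sylow P, I.nine] at this
      norm_num at this
    · rw [← hWD, commutatorElement_def]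
      refine ⟨?_, ?_⟩
      · have h1 := hWn p (hKU (hPK hp)) g⁻¹ (inv_mem hg.2)
        have h2 := mul_mem hg.2 h1
        simpa [mul_assoc] using h2
      · exact Subgroup.mul_mem _ ((mem_normalizer_iff.1 hgN p).1 hp) (Subgroup.inv_mem _ hp)
  have hDY : D ≤ Y := le_inf le_normalizer hDW
  have hUY : U ≤ Y := le_inf hUK hUW
  have hY36 : Nat.card Y = 36 := by
    have h1 : (Y ⊓ NP P).relIndex Y ≤ (NP P).relIndex K := by
      rw [inf_relIndex_left]
      exact relIndex_le_of_le_right inf_le_left (by rw [← Nat.pos_iff_ne_zero]; exact Nat.pos_of_ne_zero index_ne_zero_of_finite)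
    have hYNe : Y ⊓ NP P = D := le_antisymm (fun g hg => hYN g hg.1 hg.2)
      (le_inf hDY (I.le.trans le_normalizer))
    have h2 : (NP P).relIndex K * Nat.card (K ⊓ NP P : Subgroup G) = Nat.card K := by
      rw [← inf_relIndex_left K (NP P), mul_comm, relIndex,
        ← Nat.card_congr (subgroupOfEquivOfLe (inf_le_left : K ⊓ NP P ≤ K)).toEquiv]
      exact card_mul_index _
    have h3 : (NP P).relIndex K = 4 := by
      have h4 := I.count
      rw [← h2, hn] at h4
      exact Nat.eq_of_mul_eq_mul_right Nat.card_pos h4.symm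
    have h5 : D.relIndex Y * 9 = Nat.card Y := by
      rw [mul_comm, relIndex, ← I.nine, ← Nat.card_congr (subgroupOfEquivOfLe hDY).toEquiv]
      exact card_mul_index _
    rw [hYNe, h3] at h1
    have h6 : 36 ∣ Nat.card Y := by
      have h7 : 9 ∣ Nat.card Y := I.nine ▸ card_dvd_of_le hDY
      have h8 : 4 ∣ Nat.card Y := hU ▸ card_dvd_of_le hUY
      exact (by norm_num : Nat.Coprime 9 4).mul_dvd_of_dvd_of_dvd h7 h8
    have h9 := Nat.le_of_dvd Nat.card_pos h6
    nlinarith
  have hYUD : Y = U ⊔ D := by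
    refine (eq_of_le_of_card_ge (sup_le hUY hDY) ?_).symm
    rw [hY36]
    exact Nat.le_of_dvd Nat.card_pos ((by norm_num : Nat.Coprime 9 4).mul_dvd_of_dvd_of_dvd
      (I.nine ▸ card_dvd_of_le le_sup_right) (hU ▸ card_dvd_of_le le_sup_left))
  have hDcom : IsMulCommutative D :=
    IsPGroup.isMulCommutative_of_card_eq_prime_sq (p := 3) (by rw [I.nine]; norm_num)
  have hYD : Y ≤ centralizer (D : Set G) :=
    hYUD.le.trans (sup_le hUD (le_centralizer_iff_isMulCommutative.2 hDcom))
  obtain ⟨m, hm⟩ : 9 ∣ Nat.card W := I.nine ▸ card_dvd_of_le hDW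
  have hm3 : ¬ 3 ∣ m := fun ⟨l, hl⟩ => hW27 ⟨l, by rw [hm, hl]; ring⟩
  obtain ⟨U', hU'W, hU'c, hU'n⟩ := exists_complement (C := W) (R := D) (k := 2) (m := m) hDW
    (by rw [I.nine]; norm_num) (by rw [hm]; norm_num) hm3
    (fun g hg => hYD ⟨hg.2, hg.1⟩)
  have hN2W : ∀ g ∈ N2, g ∈ normalizer (W : Set G) := by
    intro g hg
    rw [mem_normalizer_iff]
    refine fun x => ⟨hWn g hg x, fun hx => ?_⟩
    have := hWn g⁻¹ (inv_mem hg) _ hx
    simpa [mul_assoc] using this
  -- the number of Sylow 3-subgroups of `W`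
  have hmod : (Nat.card W / 36) % 3 = 1 := by
    have h9 : (Nat.card W).factorization 3 = 2 := by
      rw [hm, show (9 : ℕ) = 3 ^ 2 from rfl, factorization_eq Nat.prime_three hm3]
    let DW : Sylow 3 W := Sylow.ofCard (D.subgroupOf W) (by
      rw [Nat.card_congr (subgroupOfEquivOfLe hDW).toEquiv, I.nine, h9]; norm_num)
    have h1 : Nat.card (Sylow 3 W) % 3 = 1 := card_sylow_modEq_one 3 W
    rw [DW.card_eq_index_normalizer] at h1
    have h2 := (normalizer ((DW : Subgroup W) : Set W)).card_mul_index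
    have h3 : Nat.card (normalizer ((DW : Subgroup W) : Set W)) = 36 := by
      show Nat.card (normalizer ((D.subgroupOf W : Subgroup W) : Set W)) = 36
      rw [← subgroupOf_normalizer_eq hDW, ← card_map_of_injective W.subtype_injective,
        subgroupOf_map_subtype, ← hY36, hY, hKdef]
    rw [h3] at h2
    rw [← h2, Nat.mul_div_cancel_left _ (by norm_num : 0 < 36)]
    exact h1
  obtain ⟨j, hj, hjc⟩ := h.card_cases (h.card_sylow P ▸ card_dvd_of_le (hPK.trans hKU)) hN2ne
  have hmd : m ∣ 2 ^ j := by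
    have h1 : 9 * m ∣ 27 * 2 ^ j := hm ▸ hjc ▸ card_dvd_of_le hWN2
    have h2 : m ∣ 3 * 2 ^ j := Nat.dvd_of_mul_dvd_mul_left (by norm_num : 0 < 9)
      (by rwa [show 27 * 2 ^ j = 9 * (3 * 2 ^ j) by ring] at h1)
    exact ((Nat.prime_three.coprime_iff_not_dvd.2 hm3).symm).dvd_of_dvd_mul_left h2
  obtain ⟨w, hw, rfl⟩ := (Nat.dvd_prime_pow Nat.prime_two).1 hmd
  have hY_dvd := card_dvd_of_le (inf_le_right : Y ≤ W)
  rw [hY36, hm] at hY_dvd
  rw [hm] at hmod
  have hw4 : w ≤ 4 := hw.trans hj
  interval_cases w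
  all_goals (try norm_num at hY_dvd)
  all_goals (try norm_num at hmod)
  · -- `W = Y`
    have hWY : W = Y := (eq_of_le_of_card_ge inf_le_right (by rw [hY36, hm]; norm_num)).symm
    have hN2K : N2 ≤ K := by
      intro g hg
      have key : ∀ g ∈ N2, ∀ d ∈ D, g * d * g⁻¹ ∈ D := by
        intro g hg d hd
        have hxY : g * d * g⁻¹ ∈ Y := hWY ▸ hWn g hg d (hDW hd)
        rw [hYUD, ← SetLike.mem_coe,
          coe_mul_of_right_le_normalizer_left U D ((le_inf le_normalizer hDW).trans
            (inf_le_right.trans hWN2))] at hxY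
        obtain ⟨u, hu, d', hd', he⟩ := hxY
        have he' : u * d' = g * d * g⁻¹ := he
        have hc : Commute u d' := (mem_centralizer_iff.1 (hUD hu) d' hd').symm
        have h3 : (g * d * g⁻¹) ^ 3 = 1 := by
          rw [conj_pow, h.pow_three P (I.le hd)]; group
        rw [← he', hc.mul_pow, h.pow_three P (I.le hd'), mul_one] at h3
        have hu4 : orderOf u ∣ 4 := hU ▸ orderOf_dvd_card_of_mem hu
        have hu1 : u = 1 := orderOf_eq_one_iff.1
          (Nat.dvd_one.1 ((Nat.dvd_gcd hu4 (orderOf_dvd_of_pow_eq_one h3)).trans (by norm_num)))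
        rw [← he', hu1, one_mul]; exact hd'
      rw [hKdef, mem_normalizer_iff]
      refine fun x => ⟨key g hg x, fun hx => ?_⟩
      have := key g⁻¹ (inv_mem hg) _ hx
      simpa [mul_assoc] using this
    obtain ⟨T, hT⟩ := (IsPGroup.of_card (p := 2) (n := 2) (by rw [hU]; norm_num)).exists_le_sylow
    have hTc : Nat.card (T : Subgroup G) = 2 ^ 5 := by
      rw [T.card_eq_multiplicity, h.card, show (6048 : ℕ) = 2 ^ 5 * 189 by norm_num,
        factorization_eq Nat.prime_two (by norm_num)]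
    have hself : centralizer ((U.subgroupOf T : Subgroup (T : Subgroup G)) : Set (T : Subgroup G)) =
        U.subgroupOf T := by
      refine le_antisymm (fun x hx => ?_) (fun x hx => ?_)
      · have hxW : (x : G) ∈ W := mem_centralizer_iff.2 fun u hu =>
          congrArg Subtype.val (mem_centralizer_iff.1 hx ⟨u, hT hu⟩ hu)
        have he : (T : Subgroup G) ⊓ W = U := by
          refine (eq_of_le_of_card_ge (le_inf hT hUW) ?_).symm
          rw [hU]
          refine Nat.le_of_dvd (by norm_num) ((Nat.dvd_gcd (card_dvd_of_le inf_le_left)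
            (card_dvd_of_le inf_le_right)).trans ?_)
          rw [hTc, hWY, hY36]
          norm_num
        exact mem_subgroupOf.2 (he ▸ ⟨x.2, hxW⟩)
      · refine mem_centralizer_iff.2 fun u hu => Subtype.ext ?_
        exact mem_centralizer_iff.1 (hUW hx) u hu
    have hcl := CfsgLib.MaximalClass.class_of_self_centralizing 5 hTc (U.subgroupOf T)
      (by rw [Nat.card_congr (subgroupOfEquivOfLe hT).toEquiv, hU]; norm_num) hself
    obtain ⟨C, hC, hCi⟩ := CfsgLib.MaximalClass.cyclic_index_two 5 (by norm_num) hTc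
      (CfsgLib.MaximalClass.index_commutator_of_class (by norm_num) hTc hcl)
    obtain ⟨c, hc⟩ := hC.exists_generator
    refine h.no16 ((c : (T : Subgroup G)) : G) ?_
    rw [Subgroup.orderOf_coe, Subgroup.orderOf_coe, orderOf_eq_card_of_forall_mem_zpowers hc]
    have h1 := C.card_mul_index
    rw [hCi, hTc] at h1
    omega
  · exact h.no_sixteen (by rw [hU'c]; norm_num) P
      (fun p hp => hU'n p (hN2W p (hKU (hPK hp))))

end Hyp

end CfsgLib.G2Recog
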