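import Cfsg.Agent.G2TwoRecog.InterSmall

/-!
# No intersections of order 9 when the normalizer of a Sylow 3-subgroup has order 54
-/

set_option autoImplicit false
set_option linter.style.haveILetI false
set_option linter.unusedSectionVars false

namespace CfsgLib.G2Recog

open Subgroup MulAction
open scoped commutatorElement Pointwise

variable {G : Type*} [Group G] [Finite G] [IsSimpleGroup G]

/-- A fixed-point-free 3-group forces order `≡ 1 (mod 3)`. -/
theorem card_mod_three {P : Sylow 3 G} {U : Subgroup G}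
    (hPU : (P : Subgroup G) ≤ normalizer (U : Set G)) (hfix : U ⊓ NP P = ⊥) :
    Nat.card U % 3 = 1 := by
  let f : (P : Subgroup G) →* MulAut U := U.normalizerMonoidHom.comp (Subgroup.inclusion hPU)
  letI : MulAction (P : Subgroup G) U := MulAction.compHom U f
  have hsmul : ∀ (p : (P : Subgroup G)) (u : U),
      ((p • u : U) : G) = (p : G) * u * (p : G)⁻¹ := fun p u => rfl
  have hone : Nat.card (fixedPoints (P : Subgroup G) U) = 1 := by
    haveI : Subsingleton (fixedPoints (P : Subgroup G) U) := ⟨fun a b => by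
      have key : ∀ a : fixedPoints (P : Subgroup G) U, (a : U) = 1 := fun a => by
        have hN : ((a : U) : G) ∈ U ⊓ NP P := by
          refine ⟨(a : U).2, Subgroup.centralizer_le_normalizer _
            (mem_centralizer_iff.2 fun p hp => ?_)⟩
          have h1 := congrArg Subtype.val (a.2 ⟨p, hp⟩)
          rw [hsmul] at h1
          exact mul_inv_eq_iff_eq_mul.1 h1
        rw [hfix, mem_bot] at hN
        exact Subtype.ext hN
      exact Subtype.ext ((key a).trans (key b).symm)⟩
    exact Nat.card_eq_one_iff_unique.2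
      ⟨inferInstance, ⟨⟨1, fun p => Subtype.ext (by rw [hsmul]; simp)⟩⟩⟩
  have h1 := P.2.card_modEq_card_fixedPoints (U : Type _)
  rw [hone] at h1
  exact h1

namespace Hyp

variable (h : Hyp G) (hnc : ¬ IsMulCommutative G) {P : Sylow 3 G} (hN : Nat.card (NP P) = 54)
include h hnc hN

theorem no_inter_small {D : Subgroup G} {n : ℕ} (I : Inter P D n) : False := by
  set K := normalizer (D : Set G) with hKdef
  set C := K ⊓ centralizer (D : Set G) with hCdef
  have hPK : (P : Subgroup G) ≤ K := h.le_normalizer_of_nine I.nine P I.le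
  have hKne : K ≠ ⊤ := h.le_normalizer_ne_top I.nine (by norm_num) (by norm_num)
  obtain ⟨k, hk, hKc⟩ := h.card_cases (h.card_sylow P ▸ card_dvd_of_le hPK) hKne
  have hCK : C ≤ K := inf_le_left
  have hDcom : IsMulCommutative D :=
    IsPGroup.isMulCommutative_of_card_eq_prime_sq (p := 3) (by rw [I.nine]; norm_num)
  have hDC : D ≤ C := le_inf le_normalizer (le_centralizer_iff_isMulCommutative.2 hDcom)
  have hCn : ∀ g ∈ K, ∀ x ∈ C, g * x * g⁻¹ ∈ C := by
    intro g hg x hx
    refine ⟨Subgroup.mul_mem _ (Subgroup.mul_mem _ hg hx.1) (Subgroup.inv_mem _ hg),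
      mem_centralizer_iff.2 fun d hd => ?_⟩
    have h1 := mem_centralizer_iff.1 hx.2 _ ((mem_normalizer_iff''.1 hg d).1 hd)
    calc d * (g * x * g⁻¹) = g * ((g⁻¹ * d * g) * x) * g⁻¹ := by group
      _ = g * (x * (g⁻¹ * d * g)) * g⁻¹ := by rw [h1]
      _ = g * x * g⁻¹ * d := by group
  have hKC : K ≤ normalizer (C : Set G) := fun g hg => mem_normalizer_iff.2 fun x =>
    ⟨hCn g hg x, fun hx => by simpa [mul_assoc] using hCn g⁻¹ (inv_mem hg) _ hx⟩
  have hc27 : Nat.card (K ⊓ NP P : Subgroup G) = 27 ∨ Nat.card (K ⊓ NP P : Subgroup G) = 54 := by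
    have h1 : Nat.card (K ⊓ NP P : Subgroup G) ∣ 54 := hN ▸ card_dvd_of_le inf_le_right
    obtain ⟨c, hc⟩ : 27 ∣ Nat.card (K ⊓ NP P : Subgroup G) :=
      h.card_sylow P ▸ card_dvd_of_le (le_inf hPK le_normalizer)
    rw [hc] at h1 ⊢
    have hc2 : c ≤ 2 := Nat.le_of_dvd (by norm_num)
      (Nat.dvd_of_mul_dvd_mul_left (by norm_num : 0 < 27) h1)
    interval_cases c <;> simp at h1 ⊢
  have hn416 : n = 4 ∨ n = 16 := by
    have h1 := I.count
    have h2 := I.mod
    have h3 := I.two_le
    rw [← hKdef, hKc] at h1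
    rcases hc27 with e | e <;> rw [e] at h1 <;> interval_cases k <;> omega
  by_cases hPC : (P : Subgroup G) ≤ C
  · -- `P` is commutative
    have hab : ∀ a ∈ (P : Subgroup G), ∀ b ∈ (P : Subgroup G), a * b = b * a := by
      intro a ha b hb
      haveI : (D.subgroupOf P).Normal := (normal_subgroupOf_iff_le_normalizer I.le).2 hPK
      haveI : IsCyclic ((P : Subgroup G) ⧸ D.subgroupOf P) := by
        refine isCyclic_of_prime_card (p := 3) ?_
        have h1 := (D.subgroupOf P).card_mul_index
        rw [Nat.card_congr (subgroupOfEquivOfLe I.le).toEquiv, I.nine, h.card_sylow P] at h1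
        rw [← Subgroup.index]
        omega
      have hker : (QuotientGroup.mk' (D.subgroupOf P)).ker ≤ Subgroup.center (P : Subgroup G) := by
        rw [QuotientGroup.ker_mk']
        exact fun d hd => Subgroup.mem_center_iff.2 fun x => Subtype.ext
          (mem_centralizer_iff.1 (hPC x.2).2 (d : G) hd).symm
      have := commutative_of_cyclic_center_quotient (QuotientGroup.mk' (D.subgroupOf P)) hker
        ⟨a, ha⟩ ⟨b, hb⟩
      exact congrArg Subtype.val this
    have hCN : C ⊓ NP P = (P : Subgroup G) := by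
      refine le_antisymm (fun t ht => ?_) (le_inf hPC le_normalizer)
      by_contra htP
      have hinv := h.inverts hnc hN hab ht.2 htP
      haveI : Fact (Nat.Prime 3) := ⟨Nat.prime_three⟩
      obtain ⟨d, hd⟩ := exists_prime_orderOf_dvd_card' (G := D) 3 (by rw [I.nine]; norm_num)
      have e1 := hinv d (I.le d.2)
      rw [← mem_centralizer_iff.1 ht.1.2 (d : G) d.2, mul_inv_cancel_right] at e1
      have h2 : orderOf (d : G) ∣ 2 :=
        orderOf_dvd_of_pow_eq_one (by rw [pow_two]; exact mul_eq_one_iff_eq_inv.2 e1)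
      rw [Subgroup.orderOf_coe, hd] at h2
      norm_num at h2
    have hCne : C ≠ ⊤ := fun e => hKne (eq_top_iff.2 (e ▸ hCK))
    obtain ⟨u, hu, hCc⟩ := h.card_cases (h.card_sylow P ▸ card_dvd_of_le hPC) hCne
    obtain ⟨U, hUC, hUc, hUn⟩ := exists_complement (C := C) (R := (P : Subgroup G)) (k := 3)
      (m := 2 ^ u) hPC (by rw [h.card_sylow P]; norm_num) (by rw [hCc]; norm_num)
      (fun hd => by have := Nat.prime_three.dvd_of_dvd_pow hd; norm_num at this)
      (fun g hg => mem_centralizer_iff.2 fun p hp => hab p hp g (hCN.le hg))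
    obtain ⟨m, hm1, -, hm3⟩ := h.card_over P hPC
    have hmn : m = n := by
      rw [← hm3, ← I.overK]
      refine Nat.card_congr (Equiv.subtypeEquivRight fun Q => ⟨fun hQ => hQ.trans hCK, fun hQ => ?_⟩)
      obtain ⟨x, hx⟩ := exists_smul_eq K (P.subtype hPK) (Q.subtype hQ)
      intro q hq
      have h2 : (⟨q, hQ hq⟩ : K) ∈ ((x • P.subtype hPK : Sylow 3 K) : Subgroup K) := by
        rw [hx, Sylow.coe_subtype, mem_subgroupOf]; exact hq
      rw [Sylow.coe_subgroup_smul, Subgroup.mem_pointwise_smul_iff_inv_smul_mem, MulAut.smul_def,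
        MulAut.inv_def, MulAut.conj_symm_apply, Sylow.coe_subtype, mem_subgroupOf] at h2
      have h3 := hCn x x.2 _ (hPC h2)
      simpa [mul_assoc] using h3
    have hUn' : Nat.card U = n := by
      rw [hmn, hCN, h.card_sylow P, hCc, mul_comm] at hm1
      rw [hUc]
      omega
    have hUN : U ⊓ NP P = ⊥ := by
      refine eq_bot_of_card_eq _ (Nat.dvd_one.1 ((Nat.dvd_gcd
        ((card_dvd_of_le inf_le_left).trans (dvd_of_eq hUn'))
        ((card_dvd_of_le (le_inf (inf_le_left.trans hUC) inf_le_right)).trans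
          (dvd_of_eq (by rw [hCN, h.card_sylow P])))).trans ?_))
      rcases hn416 with e | e <;> rw [e] <;> norm_num
    rcases hn416 with e | e
    · exact h.four_case hnc hN I e (hUn'.trans e) (hUC.trans hCK) (hUC.trans inf_le_right)
        (fun g hg => hUn g (hKC hg)) hUN
    · exact h.no_sixteen (hUn'.trans e) P (fun p hp => hUn p (hKC (hPK hp)))
  · -- `C ∩ P = D`
    have hCP : C ⊓ (P : Subgroup G) = D := by
      refine (eq_of_le_of_card_ge (le_inf hDC I.le) ?_).symm
      rw [I.nine]
      have hd : Nat.card (C ⊓ (P : Subgroup G) : Subgroup G) ∣ 3 ^ 3 :=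
        (card_dvd_of_le inf_le_right).trans (dvd_of_eq (h.card_sylow P))
      obtain ⟨i, hi, hi'⟩ := (Nat.dvd_prime_pow Nat.prime_three).1 hd
      rw [hi']
      by_contra hlt
      have h3 : i = 3 := by
        by_contra
        have : 3 ^ i ≤ 3 ^ 2 := Nat.pow_le_pow_right (by norm_num) (by omega)
        omega
      exact hPC (inf_eq_right.1 (eq_of_le_of_card_ge inf_le_right
        (by rw [hi', h3, h.card_sylow P]; norm_num)))
    have hnotle : ¬ (P : Subgroup G) ≤ D := fun hle => by
      have := card_dvd_of_le hle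
      rw [h.card_sylow P, I.nine] at this
      norm_num at this
    have hcomm : ∀ g ∈ K, g ∈ NP P → (∀ p ∈ (P : Subgroup G), ⁅g, p⁆ ∈ C) → g ∈ (P : Subgroup G) := by
      intro g hgK hgN hgc
      by_contra hgP
      refine h.hw_two hnc P hN hgN hgP I.le hnotle hPK hgK (h.commutator_mem_nine I.nine P I.le)
        fun p hp => ?_
      rw [← hCP]
      refine ⟨hgc p hp, ?_⟩
      rw [commutatorElement_def]
      exact Subgroup.mul_mem _ ((mem_normalizer_iff.1 hgN p).1 hp) (Subgroup.inv_mem _ hp)
    have hCN : C ⊓ NP P = D := by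
      refine le_antisymm (fun g hg => ?_) (le_inf hDC (I.le.trans le_normalizer))
      rw [← hCP]
      refine ⟨hg.1, hcomm g (hCK hg.1) hg.2 fun p hp => ?_⟩
      have h1 := hCn p (hPK hp) g⁻¹ (inv_mem hg.1)
      have h2 := mul_mem hg.1 h1
      simpa [commutatorElement_def, mul_assoc] using h2
    obtain ⟨m, hm⟩ : 9 ∣ Nat.card C := I.nine ▸ card_dvd_of_le hDC
    have hm3 : ¬ 3 ∣ m := by
      rintro ⟨l, hl⟩
      obtain ⟨R, hR⟩ := Sylow.exists_subgroup_card_pow_prime (G := C) 3 (n := 3)
        ⟨l, by rw [hm, hl]; ring⟩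
      let Q : Sylow 3 G := Sylow.ofCard (R.map C.subtype) (by
        rw [card_map_of_injective C.subtype_injective, hR, ← P.card_eq_multiplicity, h.card_sylow P]
        norm_num)
      have hQC : (Q : Subgroup G) ≤ C := map_subtype_le _
      obtain ⟨x, hx⟩ := exists_smul_eq K (Q.subtype (hQC.trans hCK)) (P.subtype hPK)
      refine hPC fun p hp => ?_
      have hp2 : (⟨p, hPK hp⟩ : K) ∈ ((x • Q.subtype (hQC.trans hCK) : Sylow 3 K) : Subgroup K) := by
        rw [hx, Sylow.coe_subtype, mem_subgroupOf]; exact hp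
      rw [Sylow.coe_subgroup_smul, Subgroup.mem_pointwise_smul_iff_inv_smul_mem, MulAut.smul_def,
        MulAut.inv_def, MulAut.conj_symm_apply, Sylow.coe_subtype, mem_subgroupOf] at hp2
      have h1 := hCn x x.2 _ (hQC hp2)
      simpa [mul_assoc] using h1
    have hmd : m ∣ 2 ^ k := by
      have h1 : 9 * m ∣ 9 * (3 * 2 ^ k) := by
        rw [← hm, show 9 * (3 * 2 ^ k) = 27 * 2 ^ k by ring, ← hKc]
        exact card_dvd_of_le hCK
      exact ((Nat.prime_three.coprime_iff_not_dvd.2 hm3).symm).dvd_of_dvd_mul_left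
        (Nat.dvd_of_mul_dvd_mul_left (by norm_num : 0 < 9) h1)
    obtain ⟨u, hu, rfl⟩ := (Nat.dvd_prime_pow Nat.prime_two).1 hmd
    obtain ⟨U, hUC, hUc, hUn⟩ := exists_complement (C := C) (R := D) (k := 2) (m := 2 ^ u) hDC
      (by rw [I.nine]; norm_num) (by rw [hm]; norm_num) hm3
      (fun g hg => hg.1.2)
    have hUN : U ⊓ NP P = ⊥ := by
      refine eq_bot_of_card_eq _ (Nat.dvd_one.1 ((Nat.dvd_gcd
        ((card_dvd_of_le inf_le_left).trans (dvd_of_eq hUc))
        ((card_dvd_of_le (le_inf (inf_le_left.trans hUC) inf_le_right)).trans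
          (dvd_of_eq (by rw [hCN, I.nine])))).trans (dvd_of_eq ?_)))
      exact (Nat.Coprime.pow u 2 (by norm_num : Nat.Coprime 2 3))
    have hPU : (P : Subgroup G) ≤ normalizer (U : Set G) := fun p hp => hUn p (hKC (hPK hp))
    have hUmod := card_mod_three hPU hUN
    -- the group induced on `D`
    haveI : IsMulCommutative D := hDcom
    letI : CommGroup D := { (inferInstance : Group D) with mul_comm := hDcom.is_comm.comm }
    set f := D.normalizerMonoidHom with hf
    have hker : Nat.card f.ker = Nat.card C := by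
      rw [hf, normalizerMonoidHom_ker, ← card_map_of_injective (Subgroup.subtype_injective _),
        subgroupOf_map_subtype, inf_comm]
    have hrange : Nat.card f.range * Nat.card C = Nat.card K := by
      rw [← hker, ← index_ker, mul_comm]
      exact f.ker.card_mul_index
    have hsmall : Nat.card f.range ≤ 6 := by
      by_contra hbig
      obtain ⟨R⟩ : Nonempty (Sylow 2 f.range) := inferInstance
      have hR4 : 4 ≤ Nat.card (R : Subgroup f.range) := by
        have h1 : Nat.card f.range * (9 * 2 ^ u) = 27 * 2 ^ k := by rw [← hm, hrange, hKc]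
        have h2 : Nat.card f.range = 2 ^ (k - u) * 3 := by
          have h3 : (27 : ℕ) * 2 ^ k = 2 ^ (k - u) * 3 * (9 * 2 ^ u) := by
            rw [show 2 ^ k = 2 ^ (k - u) * 2 ^ u by rw [← pow_add, Nat.sub_add_cancel hu]]
            ring
          exact Nat.eq_of_mul_eq_mul_right (by positivity) (h1.trans h3)
        rw [R.card_eq_multiplicity, h2, factorization_eq Nat.prime_two (by norm_num)]
        have h4 : 2 ≤ k - u := by
          by_contra hlt
          have : 2 ^ (k - u) ≤ 2 ^ 1 := Nat.pow_le_pow_right (by norm_num) (by omega)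
          omega
        calc 4 = 2 ^ 2 := by norm_num
          _ ≤ _ := Nat.pow_le_pow_right (by norm_num) h4
      obtain ⟨a, ha, hinv⟩ := exists_inversion (E := D) I.nine
        (fun x => Subtype.ext (h.pow_three P (I.le x.2)))
        (I := (R : Subgroup f.range).map f.range.subtype) (R.2.map _)
        (by rw [card_map_of_injective f.range.subtype_injective]; exact hR4)
      obtain ⟨⟨g, hg⟩, hga⟩ := MonoidHom.mem_range.1 (map_subtype_le _ ha)
      have hgd : ∀ d ∈ D, g * d * g⁻¹ = d⁻¹ := by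
        intro d hd
        have h1 := hinv ⟨d, hd⟩
        rw [← hga] at h1
        exact congrArg Subtype.val h1
      have hcen : ∀ x ∈ K, ⁅g, x⁆ ∈ C := by
        intro x hx
        have hK1 : ⁅g, x⁆ ∈ K :=
          Subgroup.mul_mem _ (Subgroup.mul_mem _ (Subgroup.mul_mem _ hg hx) (Subgroup.inv_mem _ hg))
            (Subgroup.inv_mem _ hx)
        refine ⟨hK1,
          mem_centralizer_iff.2 fun d hd => ?_⟩
        have e1 : x⁻¹ * d * x ∈ D := (mem_normalizer_iff''.1 hx d).1 hd
        have e2 : g⁻¹ * (x * (g * (x⁻¹ * d * x) * g⁻¹) * x⁻¹) * g = d := by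
          rw [hgd _ e1]
          have e3 := hgd d hd
          calc g⁻¹ * (x * (x⁻¹ * d * x)⁻¹ * x⁻¹) * g = g⁻¹ * d⁻¹ * g := by group
            _ = g⁻¹ * (g * d * g⁻¹) * g := by rw [e3]
            _ = d := by group
        rw [commutatorElement_def]
        have e4 : g * x * g⁻¹ * x⁻¹ * d = d * (g * x * g⁻¹ * x⁻¹) := by
          have e5 : g * x * g⁻¹ * x⁻¹ * d * (g * x * g⁻¹ * x⁻¹)⁻¹ = d := by
            have e6 : g⁻¹ * (x⁻¹ * d * x) * g = (x⁻¹ * d * x)⁻¹ := by
              have e7 := hgd _ (inv_mem e1)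
              rw [inv_inv] at e7
              calc g⁻¹ * (x⁻¹ * d * x) * g = g⁻¹ * (g * (x⁻¹ * d * x)⁻¹ * g⁻¹) * g := by rw [e7]
                _ = _ := by group
            calc g * x * g⁻¹ * x⁻¹ * d * (g * x * g⁻¹ * x⁻¹)⁻¹
                = g * (x * (g⁻¹ * (x⁻¹ * d * x) * g) * x⁻¹) * g⁻¹ := by group
              _ = g * d⁻¹ * g⁻¹ := by rw [e6]; group
              _ = d := by rw [hgd _ (inv_mem hd), inv_inv]
          exact mul_inv_eq_iff_eq_mul.1 e5
        exact e4.symm
      -- `g P g⁻¹` lies in `C P`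
      set X := C ⊔ (P : Subgroup G) with hX
      have hXK : X ≤ K := sup_le hCK hPK
      have hgPX : ((g • P : Sylow 3 G) : Subgroup G) ≤ X := by
        intro y hy
        rw [Sylow.coe_subgroup_smul, Subgroup.mem_pointwise_smul_iff_inv_smul_mem, MulAut.smul_def,
          MulAut.inv_def, MulAut.conj_symm_apply] at hy
        rw [show y = ⁅g, g⁻¹ * y * g⁆ * (g⁻¹ * y * g) by rw [commutatorElement_def]; group]
        exact mul_mem (mem_sup_left (hcen _ (hPK hy))) (mem_sup_right hy)
      obtain ⟨⟨x, hxX⟩, hx⟩ := exists_smul_eq X (P.subtype le_sup_right) ((g • P).subtype hgPX)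
      rw [Sylow.smul_subtype (le_sup_right : (P : Subgroup G) ≤ X) ⟨x, hxX⟩] at hx
      have hxg : x • P = g • P := Sylow.subtype_injective hx
      have hx' : x ∈ (X : Set G) := hxX
      rw [hX, coe_mul_of_right_le_normalizer_left C (P : Subgroup G) (hPK.trans hKC)] at hx'
      obtain ⟨c, hc, p, hp, rfl⟩ := hx'
      have hcg : c⁻¹ * g ∈ NP P := by
        have h1 : (c⁻¹ * g) • P = P := by
          rw [mul_smul, ← hxg, ← mul_smul, inv_mul_cancel_left]
          exact Sylow.smul_eq_iff_mem_normalizer.2 (le_normalizer (H := (P : Subgroup G)) hp)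
        exact Sylow.smul_eq_iff_mem_normalizer.1 h1
      have hgK : c⁻¹ * g ∈ K := mul_mem (inv_mem (hCK hc)) hg
      have hcgP : c⁻¹ * g ∈ (P : Subgroup G) := hcomm _ hgK hcg fun y hy => by
        have e1 := hCn c⁻¹ (inv_mem (hCK hc)) _ (hcen y (hPK hy))
        have e2 := hCn y (hPK hy) c (hc)
        have e3 := mul_mem (mul_mem e1 (inv_mem hc)) e2
        have e4 : ⁅c⁻¹ * g, y⁆ = c⁻¹ * ⁅g, y⁆ * (c⁻¹)⁻¹ * c⁻¹ * (y * c * y⁻¹) := by
          simp only [commutatorElement_def]; group
        rw [e4]; exact e3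
      have hd1 : ∀ d ∈ D, d = 1 := by
        intro d hd
        have hact : ∀ e ∈ D, (c⁻¹ * g) * e * (c⁻¹ * g)⁻¹ = e⁻¹ := fun e he => by
          have h1 := mem_centralizer_iff.1 (inv_mem hc : c⁻¹ ∈ C).2 e⁻¹ (inv_mem he)
          calc (c⁻¹ * g) * e * (c⁻¹ * g)⁻¹ = c⁻¹ * (g * e * g⁻¹) * c := by group
            _ = c⁻¹ * e⁻¹ * c := by rw [hgd e he]
            _ = e⁻¹ * c⁻¹ * c := by rw [h1]
            _ = e⁻¹ := by group
        set z := c⁻¹ * g
        have h3 := h.pow_three P hcgP
        have a1 := hact d hd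
        have a2 := hact _ (inv_mem hd)
        rw [inv_inv] at a2
        have hd2 : d = d⁻¹ := by
          calc d = z ^ 3 * d * (z ^ 3)⁻¹ := by rw [h3]; group
            _ = z * (z * (z * d * z⁻¹) * z⁻¹) * z⁻¹ := by
              simp only [pow_succ, pow_zero, one_mul, mul_inv_rev, mul_assoc]
            _ = z * (z * d⁻¹ * z⁻¹) * z⁻¹ := by rw [a1]
            _ = d⁻¹ := by rw [a2, a1]
        have h4 : orderOf d ∣ Nat.gcd 2 3 := Nat.dvd_gcd
          (orderOf_dvd_of_pow_eq_one (by rw [pow_two]; exact mul_eq_one_iff_eq_inv.2 hd2))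
          (orderOf_dvd_of_pow_eq_one (h.pow_three P (I.le hd)))
        exact orderOf_eq_one_iff.1 (Nat.dvd_one.1 (h4.trans (by norm_num)))
      have := I.nine
      rw [(Subgroup.eq_bot_iff_forall D).2 hd1, card_bot] at this
      omega
    have hKbound : Nat.card K ≤ 54 * 2 ^ u := by
      rw [← hrange, hm]
      nlinarith [Nat.two_pow_pos u]
    have hcount := I.count
    rw [← hKdef] at hcount
    have hu4 : u ≤ 4 := hu.trans hk
    rw [hUc] at hUmod
    interval_cases u <;> norm_num at hUmod
    · rcases hn416 with e | e <;> rcases hc27 with e' | e' <;> rw [e, e'] at hcount <;> omega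
    · refine h.four_case hnc hN I ?_ hUc (hUC.trans hCK) (hUC.trans inf_le_right)
        (fun g hg => hUn g (hKC hg)) hUN
      rcases hn416 with e | e
      · exact e
      · rcases hc27 with e' | e' <;> rw [e, e'] at hcount <;> omega
    · exact h.no_sixteen hUc P hPU

end Hyp

end CfsgLib.G2Recog
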