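import Cfsg.Agent.G2TwoRecog.Standard

/-!
# Uniqueness of the simple group of order 6048

A simple group of order 6048 without elements of order 9, 16 or 21 is isomorphic to one fixed
permutation group of degree 28; so any two of them are isomorphic.
-/

set_option autoImplicit false
set_option linter.style.haveILetI false
set_option linter.unusedSectionVars false
set_option maxRecDepth 10000

namespace CfsgLib.G2Recog

open Subgroup MulAction
open scoped commutatorElement Pointwise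

/-- The generators of the model: translations, the two-point stabiliser and an involution. -/
def gens (s : Nat) : Set (Equiv.Perm (Fin 28)) :=
  {σ | (∃ u, u < 27 ∧ ∀ i, (σ i).val = T 1 u i.val) ∨ (∃ k, k < 8 ∧ ∀ i, (σ i).val = hs 3 k i.val) ∨
    ∀ i, (σ i).val + 1 = get s i.val}

/-- The permutation exchanging the two solutions. -/
def theta : Equiv.Perm (Fin 28) where
  toFun i := Fin.ofNat 28 (hs 3 1 i.val)
  invFun i := Fin.ofNat 28 (hs 3 7 i.val)
  left_inv := by decide +kernel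
  right_inv := by decide +kernel

theorem theta_val : ∀ i : Fin 28, (theta i).val = hs 3 1 i.val ∧ (theta.symm i).val = hs 3 7 i.val := by
  decide +kernel

theorem mulP_invP_left : ∀ e, e < 2 → ∀ p, p < 27 → mulP e (invP p) p = 0 := by decide +kernel

theorem conj_T : ∀ u, u < 27 → ∃ v, v < 27 ∧ ∀ i : Fin 28, hs 3 1 (T 1 u (hs 3 7 i.val)) = T 1 v i.val := by
  decide +kernel

theorem conj_hs : ∀ k, k < 8 → ∃ j, j < 8 ∧ ∀ i : Fin 28, hs 3 1 (hs 3 k (hs 3 7 i.val)) = hs 3 j i.val := by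
  decide +kernel

theorem conj_T' : ∀ u, u < 27 → ∃ v, v < 27 ∧ ∀ i : Fin 28, hs 3 7 (T 1 u (hs 3 1 i.val)) = T 1 v i.val := by
  decide +kernel

theorem conj_hs' : ∀ k, k < 8 → ∃ j, j < 8 ∧ ∀ i : Fin 28, hs 3 7 (hs 3 k (hs 3 1 i.val)) = hs 3 j i.val := by
  decide +kernel

theorem conj_sol : ∀ i : Fin 28, hs 3 1 (get sol1 (hs 3 7 i.val) - 1) + 1 = get sol2 i.val ∧
    hs 3 7 (get sol2 (hs 3 1 i.val) - 1) + 1 = get sol1 i.val := by decide +kernel

theorem kind_three : kind 3 = 1 := rfl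

/-- The model group. -/
def Model : Subgroup (Equiv.Perm (Fin 28)) := Subgroup.closure (gens sol1)

theorem gens_conj : (MulAut.conj theta).toMonoidHom '' gens sol1 = gens sol2 := by
  apply Set.Subset.antisymm
  · rintro _ ⟨σ, hσ, rfl⟩
    have hval : ∀ i, ((MulAut.conj theta σ) i).val = hs 3 1 (σ (theta.symm i)).val := fun i =>
      (theta_val _).1
    rcases hσ with ⟨u, hu, hσ⟩ | ⟨k, hk, hσ⟩ | hσ
    · obtain ⟨v, hv, h⟩ := conj_T u hu
      exact Or.inl ⟨v, hv, fun i => by
        show ((MulAut.conj theta σ) i).val = _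
        rw [hval, hσ, (theta_val i).2]; exact h i⟩
    · obtain ⟨j, hj, h⟩ := conj_hs k hk
      exact Or.inr (Or.inl ⟨j, hj, fun i => by
        show ((MulAut.conj theta σ) i).val = _
        rw [hval, hσ, (theta_val i).2]; exact h i⟩)
    · refine Or.inr (Or.inr fun i => ?_)
      show ((MulAut.conj theta σ) i).val + 1 = _
      have h1 := hσ (theta.symm i)
      rw [(theta_val i).2] at h1
      rw [hval, ← (conj_sol i).1, ← h1, Nat.add_sub_cancel]
  · intro σ hσ
    refine ⟨(MulAut.conj theta).symm σ, ?_, (MulAut.conj theta).apply_symm_apply σ⟩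
    have hval : ∀ i, ((MulAut.conj theta).symm σ i).val = hs 3 7 (σ (theta i)).val := fun i =>
      (theta_val _).2
    rcases hσ with ⟨u, hu, hσ⟩ | ⟨k, hk, hσ⟩ | hσ
    · obtain ⟨v, hv, h⟩ := conj_T' u hu
      exact Or.inl ⟨v, hv, fun i => by rw [hval, hσ, (theta_val i).1]; exact h i⟩
    · obtain ⟨j, hj, h⟩ := conj_hs' k hk
      exact Or.inr (Or.inl ⟨j, hj, fun i => by rw [hval, hσ, (theta_val i).1]; exact h i⟩)
    · refine Or.inr (Or.inr fun i => ?_)
      have h1 := hσ (theta i)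
      rw [(theta_val i).1] at h1
      rw [hval, ← (conj_sol i).2, ← h1, Nat.add_sub_cancel]

variable {G : Type*} [Group G] [Finite G] [IsSimpleGroup G]

namespace Hyp

variable (h : Hyp G) (hnc : ¬ IsMulCommutative G)
include h hnc

theorem exists_swap (P Q : Sylow 3 G) (hQ : Q ≠ P) :
    ∃ w : G, w * w = 1 ∧ w • P = Q ∧ w • Q = P := by
  obtain ⟨t, ht⟩ := exists_prime_orderOf_dvd_card' (G := G) 2 (by rw [h.card]; norm_num)
  obtain ⟨S, hS⟩ : ∃ S : Sylow 3 G, t • S ≠ S := by
    by_contra! hh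
    rw [h.eq_one_of_fixes hnc hh, orderOf_one] at ht
    norm_num at ht
  obtain ⟨g, rfl⟩ := exists_smul_eq G P S
  set t' := g⁻¹ * t * g with ht'
  have ht2 : t' * t' = 1 := by
    have h2 : t * t = 1 := by rw [← pow_two, ← ht, pow_orderOf_eq_one]
    calc t' * t' = g⁻¹ * (t * t) * g := by rw [ht']; group
      _ = 1 := by rw [h2]; group
  have hne : t' • P ≠ P := fun e => hS (by
    calc t • g • P = g • t' • P := by rw [← mul_smul, ← mul_smul, ht']; congr 1; group
      _ = g • P := by rw [e])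
  obtain ⟨x, hx, hxQ⟩ := h.exists_point hnc hQ hne
  have hxP : x • P = P :=
    Sylow.smul_eq_iff_mem_normalizer.2 (le_normalizer (H := (P : Subgroup G)) hx)
  have hw2 : (x⁻¹ * t' * x) * (x⁻¹ * t' * x) = 1 := by
    calc (x⁻¹ * t' * x) * (x⁻¹ * t' * x) = x⁻¹ * (t' * t') * x := by group
      _ = 1 := by rw [ht2]; group
  have hwP : (x⁻¹ * t' * x) • P = Q := by
    rw [mul_smul, mul_smul, hxP, ← hxQ, ← mul_smul, inv_mul_cancel, one_smul]
  refine ⟨x⁻¹ * t' * x, hw2, hwP, ?_⟩
  conv_lhs => rw [← hwP]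
  rw [← mul_smul, hw2, one_smul]

theorem nonempty_model : Nonempty (G ≃* Model) := by
  classical
  haveI := Fintype.ofFinite (Sylow 3 G)
  obtain ⟨P⟩ : Nonempty (Sylow 3 G) := inferInstance
  obtain ⟨⟨Q, hQ⟩⟩ : Nonempty {Q : Sylow 3 G // Q ≠ P} :=
    (Nat.card_pos_iff.1 (by rw [h.count hnc P]; norm_num)).1
  obtain ⟨c, φ, hc, F, hfwd, hbwd⟩ := h.exists_standard hnc P Q hQ
  obtain ⟨w, hw2, hwP, hwQ⟩ := h.exists_swap hnc P Q hQ
  set H := NP P ⊓ NP Q with hH
  have hφP : ∀ p, φ p • P = P := fun p =>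
    Sylow.smul_eq_iff_mem_normalizer.2 (le_normalizer (H := (P : Subgroup G)) (F.mem p))
  have hfix : ∀ g ∈ H, g • P = P ∧ g • Q = Q := fun g hg =>
    ⟨Sylow.smul_eq_iff_mem_normalizer.2 hg.1, Sylow.smul_eq_iff_mem_normalizer.2 hg.2⟩
  let pt : Fin 28 → Sylow 3 G := fun i => if i.val < 27 then φ i.val • Q else P
  have hne : ∀ p, φ p • Q ≠ P := fun p e => hQ (smul_left_cancel (φ p) (e.trans (hφP p).symm))
  have hptinj : Function.Injective pt := by
    intro i j e
    by_cases hi : i.val < 27 <;> by_cases hj : j.val < 27 <;> simp only [pt, hi, hj, if_true, if_false] at e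
    · exact Fin.ext (F.inj _ hi _ hj (congrArg Subtype.val
        (h.regular hnc P Q hQ (a₁ := ⟨φ i.val, F.mem _⟩) (a₂ := ⟨φ j.val, F.mem _⟩) e)))
    · exact absurd e (hne _)
    · exact absurd e.symm (hne _)
    · exact Fin.ext (by omega)
  let ι : Fin 28 ≃ Sylow 3 G := Equiv.ofBijective pt (hptinj.bijective_of_nat_card_le (by
    rw [(h.sylow_facts hnc P).2.1, Nat.card_eq_fintype_card, Fintype.card_fin]))
  let ρ : G →* Equiv.Perm (Fin 28) :=
    MonoidHom.mk' (fun g => (ι.trans (MulAction.toPerm g)).trans ι.symm) fun a b => Equiv.ext fun i => by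
      simp [mul_smul]
  have hρ : ∀ g i, ι (ρ g i) = g • ι i := fun g i => by simp [ρ]
  have hι : ∀ (n : Nat) (hn : n < 27), ι ⟨n, by omega⟩ = φ n • Q := fun n hn => by simp [ι, pt, hn]
  have hι27 : ι ⟨27, by norm_num⟩ = P := by simp [ι, pt]
  have hι0 : ι ⟨0, by norm_num⟩ = Q := by rw [hι 0 (by norm_num), F.map_zero, one_smul]
  have hρinj : Function.Injective ρ := by
    refine (injective_iff_map_eq_one ρ).2 fun g hg => h.eq_one_of_fixes hnc fun S => ?_
    obtain ⟨i, rfl⟩ := ι.surjective S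
    rw [← hρ g i, hg]
    rfl
  have hTval : ∀ p, p < 27 → ∀ i, (ρ (φ p) i).val = T (kind c) p i.val := by
    intro p hp i
    have hlt := T_lt (kind c) (kind_lt hc) p (by omega) i.val i.2
    suffices ρ (φ p) i = ⟨_, hlt⟩ by rw [this]
    apply ι.injective
    rw [hρ]
    by_cases hi : i.val < 27
    · have hm := mulP_lt (kind c) F.e_lt p hp i.val hi
      have e1 : (⟨_, hlt⟩ : Fin 28) = ⟨mulP (kind c) p i.val, by omega⟩ := Fin.ext (by simp [T, hi])
      rw [e1, hι _ hm, show i = ⟨i.val, i.2⟩ from rfl, hι i.val hi, F.hom p hp _ hi, mul_smul]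
    · have hi' : i = ⟨27, by norm_num⟩ := Fin.ext (show i.val = 27 by omega)
      subst hi'
      have e1 : (⟨_, hlt⟩ : Fin 28) = ⟨27, by norm_num⟩ := Fin.ext (by simp [T])
      rw [e1, hι27]
      exact hφP p
  have hHval : ∀ g ∈ H, ∀ k, k < 8 → (∀ p, p < 27 → g * φ p * g⁻¹ = φ (hs c k p)) →
      ∀ i, (ρ g i).val = hs c k i.val := by
    intro g hg k hk hgk i
    have hlt := hs_lt c hc k hk i.val i.2
    suffices ρ g i = ⟨_, hlt⟩ by rw [this]
    apply ι.injective
    rw [hρ]
    by_cases hi : i.val < 27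
    · have hm : hs c k i.val < 27 := by
        have : ∀ c, c < 8 → ∀ k, k < 8 → ∀ p, p < 27 → hs c k p < 27 := by decide +kernel
        exact this c hc k hk _ hi
      rw [hι _ hm, show i = ⟨i.val, i.2⟩ from rfl, hι i.val hi, ← hgk _ hi, mul_smul, mul_smul,
        inv_smul_eq_iff.2 (hfix g hg).2.symm]
    · have hi' : i = ⟨27, by norm_num⟩ := Fin.ext (show i.val = 27 by omega)
      subst hi'
      have e1 : (⟨_, hlt⟩ : Fin 28) = ⟨27, by norm_num⟩ := Fin.ext (by simp [hs, sigA])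
      rw [e1, hι27]
      exact (hfix g hg).1
  let W : Nat → Nat := fun x => if hx : x < 28 then (ρ w ⟨x, hx⟩).val else x
  have hW : ∀ i : Fin 28, W i.val = (ρ w i).val := fun i => by simp [W, i.2]
  have hIsW : IsW c W := by
    refine ⟨fun x hx => by simp only [W, dif_pos hx]; exact Fin.isLt _, fun x hx => ?_, ?_,
      fun k hk => ?_, fun u hu1 hu => ?_⟩
    · rw [hW ⟨x, hx⟩, hW (ρ w ⟨x, hx⟩), ← Equiv.Perm.mul_apply, ← map_mul, hw2, map_one]
      rfl
    · have e1 : ρ w ⟨27, by norm_num⟩ = ⟨0, by norm_num⟩ := ι.injective (by rw [hρ, hι27, hι0, hwP])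
      have e2 := hW ⟨27, by norm_num⟩
      rw [e1] at e2
      exact e2
    · obtain ⟨g, hg, hgk⟩ := hfwd k hk
      have hconj : w * g * w ∈ H :=
        ⟨Sylow.smul_eq_iff_mem_normalizer.1 (by rw [mul_smul, mul_smul, hwP, (hfix g hg).2, hwQ]),
          Sylow.smul_eq_iff_mem_normalizer.1 (by rw [mul_smul, mul_smul, hwQ, (hfix g hg).1, hwP])⟩
      obtain ⟨j, hj, hj'⟩ := hbwd _ hconj
      refine ⟨j, hj, fun x hx => ?_⟩
      have e1 := hHval _ hconj j hj hj' ⟨x, hx⟩
      rw [map_mul, map_mul, Equiv.Perm.mul_apply, Equiv.Perm.mul_apply] at e1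
      rw [hW ⟨x, hx⟩, ← hHval g hg k hk hgk, hW]
      exact e1
    · have ha : W u < 27 := by
        by_contra hge
        have e2 := hW ⟨u, by omega⟩
        have hlt := (ρ w ⟨u, by omega⟩).isLt
        change W u = _ at e2
        have e3 : ρ w ⟨u, by omega⟩ = ⟨27, by norm_num⟩ := Fin.ext (show _ = 27 by omega)
        have e4 : ι ⟨u, by omega⟩ = ι ⟨0, by norm_num⟩ := by
          have e6 : w • ι ⟨u, by omega⟩ = P := by rw [← hρ, e3, hι27]
          refine (Eq.trans ?_ hι0.symm)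
          calc ι ⟨u, by omega⟩ = w • w • ι ⟨u, by omega⟩ := by rw [← mul_smul, hw2, one_smul]
            _ = w • P := by rw [e6]
            _ = Q := hwP
        have e5 := congrArg Fin.val (ι.injective e4)
        simp at e5
        omega
      set g := w * φ (invP (W u)) * w * φ u * w with hg
      have hgP : g • P = P := by
        have e2 : w • φ u • Q = φ (W u) • Q := by
          have e3 := hρ w ⟨u, by omega⟩
          rw [hι u hu] at e3
          have e4 : ρ w ⟨u, by omega⟩ = ⟨W u, by omega⟩ := Fin.ext (hW ⟨u, by omega⟩).symm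
          rw [e4, hι _ ha] at e3
          exact e3.symm
        rw [hg]
        simp only [mul_smul]
        rw [hwP, e2, ← mul_smul (φ (invP (W u))), ← F.hom _ (invP_lt _ ha) _ ha,
          mulP_invP_left _ F.e_lt _ ha, F.map_zero, one_smul, hwQ]
      have hgQ : g • Q ≠ P := fun e => hQ (smul_left_cancel g (e.trans hgP.symm))
      obtain ⟨x, hx, hxQ⟩ := h.exists_point hnc hQ hgQ
      obtain ⟨b, hb, rfl⟩ := F.surj x hx
      have hmem : (φ b)⁻¹ * g ∈ H :=
        ⟨Sylow.smul_eq_iff_mem_normalizer.1 (by rw [mul_smul, hgP, inv_smul_eq_iff, hφP b]),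
          Sylow.smul_eq_iff_mem_normalizer.1 (by rw [mul_smul, ← hxQ, inv_smul_smul])⟩
      obtain ⟨j, hj, hj'⟩ := hbwd _ hmem
      refine ⟨b, j, hb, hj, fun y hy => ?_⟩
      have e1 : ρ g ⟨y, hy⟩ = ρ (φ b) (ρ ((φ b)⁻¹ * g) ⟨y, hy⟩) := by
        rw [← Equiv.Perm.mul_apply, ← map_mul, mul_inv_cancel_left]
      have e2 := congrArg Fin.val e1
      rw [hTval b hb, hHval _ hmem j hj hj', hg] at e2
      simp only [map_mul, Equiv.Perm.mul_apply] at e2
      rw [← e2, hW ⟨y, hy⟩, ← hTval u hu, hW, ← hTval _ (invP_lt _ ha), hW]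
  obtain ⟨hc3, hsol⟩ := search hc hIsW
  subst hc3
  obtain ⟨s, hs12, hsv⟩ : ∃ s, (s = sol1 ∨ s = sol2) ∧ ∀ x, x < 28 → W x + 1 = get s x := by
    rcases hsol with h1 | h1
    exacts [⟨sol1, Or.inl rfl, h1⟩, ⟨sol2, Or.inr rfl, h1⟩]
  rw [kind_three] at hTval
  have hwgen : ρ w ∈ gens s := Or.inr (Or.inr fun i => by rw [← hW]; exact hsv i.val i.2)
  have hPgen : ∀ x ∈ (P : Subgroup G), ρ x ∈ gens s := fun x hx => by
    obtain ⟨p, hp, rfl⟩ := F.surj x hx
    exact Or.inl ⟨p, hp, hTval p hp⟩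
  have hHgen : ∀ g ∈ H, ρ g ∈ gens s := fun g hg => by
    obtain ⟨k, hk, hk'⟩ := hbwd g hg
    exact Or.inr (Or.inl ⟨k, hk, hHval g hg k hk hk'⟩)
  have hrange : ρ.range = Subgroup.closure (gens s) := by
    refine le_antisymm ?_ ((closure_le _).2 ?_)
    · set R := (Subgroup.closure (gens s)).comap ρ with hR
      have hPR : (P : Subgroup G) ≤ R := fun x hx => subset_closure (hPgen x hx)
      have hHR : H ≤ R := fun g hg => subset_closure (hHgen g hg)
      have hwR : w ∈ R := subset_closure hwgen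
      have hNR : NP P ≤ R := by
        have e1 : NP P ⊓ R = NP P := by
          refine eq_of_le_of_card_ge inf_le_left ?_
          rw [h.normalizer_card hnc P]
          refine Nat.le_of_dvd Nat.card_pos ?_
          exact (by norm_num : Nat.Coprime 27 8).mul_dvd_of_dvd_of_dvd
            (h.card_sylow P ▸ card_dvd_of_le (le_inf le_normalizer hPR))
            (h.stab_card hnc P Q hQ ▸ card_dvd_of_le (le_inf inf_le_left hHR))
        exact inf_eq_left.1 e1
      have htop : ∀ g, g ∈ R := by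
        intro g
        obtain ⟨r, hr, hrg⟩ : ∃ r ∈ R, r • P = g • P := by
          by_cases hgP : g • P = P
          · exact ⟨1, one_mem _, by rw [one_smul, hgP]⟩
          · obtain ⟨x, hx, hxg⟩ := h.exists_point hnc hQ hgP
            exact ⟨x * w, mul_mem (hPR hx) hwR, by rw [mul_smul, hwP, hxg]⟩
        have : r⁻¹ * g ∈ NP P := Sylow.smul_eq_iff_mem_normalizer.1 (by
          rw [mul_smul, ← hrg, inv_smul_smul])
        simpa using mul_mem hr (hNR this)
      rintro _ ⟨g, rfl⟩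
      exact htop g
    · rintro σ (⟨p, hp, hσ⟩ | ⟨k, hk, hσ⟩ | hσ)
      · exact ⟨φ p, Equiv.ext fun i => Fin.ext ((hTval p hp i).trans (hσ i).symm)⟩
      · obtain ⟨g, hg, hgk⟩ := hfwd k hk
        exact ⟨g, Equiv.ext fun i => Fin.ext ((hHval g hg k hk hgk i).trans (hσ i).symm)⟩
      · refine ⟨w, Equiv.ext fun i => Fin.ext ?_⟩
        have e1 := hsv i.val i.2
        rw [hW, ← hσ i] at e1
        omega
  let e₁ : G ≃* Subgroup.closure (gens s) :=
    (MonoidHom.ofInjective hρinj).trans (MulEquiv.subgroupCongr hrange)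
  rcases hs12 with rfl | rfl
  · exact ⟨e₁⟩
  · have e2 : Model.map (MulAut.conj theta).toMonoidHom = Subgroup.closure (gens sol2) := by
      rw [Model, MonoidHom.map_closure, gens_conj]
    exact ⟨e₁.trans (((MulAut.conj theta).subgroupMap Model).trans (MulEquiv.subgroupCongr e2)).symm⟩

end Hyp

end CfsgLib.G2Recog
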