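import Mathlib

/-!
# Elements of order 7 in groups of order `2^a 3^b 7` without elements of order 14 or 21
-/

set_option autoImplicit false
set_option linter.style.haveILetI false

namespace CfsgLib.G2Recog

open Subgroup

variable {G : Type*} [Group G] [Finite G] {a b : ℕ} (hG : Nat.card G = 2 ^ a * 3 ^ b * 7)
  (h14 : ∀ g : G, orderOf g ≠ 14) (h21 : ∀ g : G, orderOf g ≠ 21) {x : G} (hx : orderOf x = 7)
include hG h14 h21 hx

theorem centralizer_seven : centralizer ({x} : Set G) = zpowers x := by
  set C := centralizer ({x} : Set G) with hC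
  have hle : zpowers x ≤ C := zpowers_le.2 (mem_centralizer_singleton_iff.2 rfl)
  have hno : ∀ q : ℕ, q.Prime → q = 2 ∨ q = 3 → ¬ q ∣ Nat.card C := by
    intro q hq hq23 hd
    haveI := Fact.mk hq
    obtain ⟨⟨u, huC⟩, hu⟩ := exists_prime_orderOf_dvd_card' (G := C) q hd
    rw [Subgroup.orderOf_mk] at hu
    have hc : Commute u x := mem_centralizer_singleton_iff.1 huC
    have := hc.orderOf_mul_eq_mul_orderOf_of_coprime (by
      rcases hq23 with rfl | rfl <;> rw [hu, hx] <;> norm_num)
    rw [hu, hx] at this
    rcases hq23 with rfl | rfl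
    · exact h14 _ this
    · exact h21 _ this
  have h1 : Nat.card C ∣ 7 := by
    refine Nat.Coprime.dvd_of_dvd_mul_left ?_ (hG ▸ card_subgroup_dvd_card C)
    exact Nat.Coprime.mul_right
      (Nat.Coprime.pow_right a ((Nat.prime_two.coprime_iff_not_dvd.2 (hno 2 Nat.prime_two (Or.inl rfl))).symm))
      (Nat.Coprime.pow_right b ((Nat.prime_three.coprime_iff_not_dvd.2 (hno 3 Nat.prime_three (Or.inr rfl))).symm))
  exact (eq_of_le_of_card_ge hle (by rw [Nat.card_zpowers, hx]; exact Nat.le_of_dvd (by norm_num) h1)).symm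

theorem normalizerHom_ker :
    (zpowers x).normalizerMonoidHom.ker = (zpowers x).subgroupOf (normalizer (zpowers x : Set G)) := by
  rw [normalizerMonoidHom_ker]
  congr 1
  rw [Subgroup.zpowers_eq_closure, centralizer_closure, centralizer_seven hG h14 h21 hx,
    Subgroup.zpowers_eq_closure]

/-- The normalizer of a subgroup of order 7 has order dividing 42. -/
theorem exists_normalizer_card :
    ∃ k, k ∣ 6 ∧ Nat.card (normalizer (zpowers x : Set G)) = 7 * k ∧
      Nat.card (zpowers x).normalizerMonoidHom.range = k := by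
  refine ⟨Nat.card (zpowers x).normalizerMonoidHom.range, ?_, ?_, rfl⟩
  · have h := card_subgroup_dvd_card (zpowers x).normalizerMonoidHom.range
    rw [IsCyclic.card_mulAut, Nat.card_zpowers, hx] at h
    exact h.trans (dvd_of_eq (by decide))
  · rw [← Subgroup.index_ker, normalizerHom_ker hG h14 h21 hx]
    conv_lhs => rw [← card_mul_index ((zpowers x).subgroupOf (normalizer (zpowers x : Set G)))]
    rw [Nat.card_congr (subgroupOfEquivOfLe le_normalizer).toEquiv, Nat.card_zpowers, hx]

end CfsgLib.G2Recog
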