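import Cfsg.Agent.G2TwoRecog.Regular
import Cfsg.Agent.G2TwoRecog.Seven

/-!
# Automorphisms of the simple groups of order 6048

An automorphism squaring to the inner automorphism of an element of order 8 does not exist, nor does
a nontrivial involutory automorphism fixing an element of order 7: both act on the 28 Sylow
3-subgroups, and a point stabiliser's Sylow subgroup is regular on the other points.
-/

set_option autoImplicit false
set_option linter.style.haveILetI false
set_option linter.unusedSectionVars false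

namespace CfsgLib.G2Recog

open Subgroup MulAction
open scoped Pointwise

variable {G : Type*} [Group G] [Finite G]

theorem aut_smul_smul (α : MulAut G) (g : G) (R : Sylow 3 G) : α • (g • R) = α g • (α • R) := by
  rw [Sylow.smul_def, Sylow.smul_def, ← mul_smul, ← mul_smul]
  congr 1
  refine MulEquiv.ext fun x => ?_
  simp [MulAut.mul_apply]

theorem conj_smul_eq (g : G) (R : Sylow 3 G) : MulAut.conj g • R = g • R := rfl

variable [IsSimpleGroup G]

namespace Hyp

variable (h : Hyp G) (hnc : ¬ IsMulCommutative G)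
include h hnc

/-- An automorphism fixing two points fixes as many others as it fixes elements of `P`. -/
theorem card_fixed_aut {α : MulAut G} {P Q : Sylow 3 G} (hQ : Q ≠ P) (hP : α • P = P) (hQ' : α • Q = Q) :
    Nat.card {R : Sylow 3 G // α • R = R} =
      Nat.card ((P : Subgroup G) ⊓ α.toMonoidHom.eqLocus (MonoidHom.id G) : Subgroup G) + 1 := by
  classical
  set C := (P : Subgroup G) ⊓ α.toMonoidHom.eqLocus (MonoidHom.id G) with hC
  have hαx : ∀ x ∈ (P : Subgroup G), α x ∈ (P : Subgroup G) := fun x hx => by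
    have h1 := Subgroup.smul_mem_pointwise_smul x α (P : Subgroup G) hx
    rw [← Sylow.pointwise_smul_def, hP] at h1
    exact h1
  have hmove : ∀ x ∈ (P : Subgroup G), α • (x • Q) = x • Q ↔ α x = x := by
    intro x hx
    rw [aut_smul_smul, hQ']
    exact ⟨fun e => congrArg Subtype.val (h.regular hnc P Q hQ (a₁ := ⟨_, hαx x hx⟩) (a₂ := ⟨x, hx⟩) e),
      fun e => by rw [e]⟩
  have hneP : ∀ x ∈ (P : Subgroup G), x • Q ≠ P := fun x hx e => hQ (smul_left_cancel x
    (e.trans (Sylow.smul_eq_iff_mem_normalizer.2 (le_normalizer (H := (P : Subgroup G)) hx)).symm))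
  have e2 : Nat.card C = Nat.card {R : Sylow 3 G | α • R = R ∧ R ≠ P} := by
    refine Nat.card_congr (Equiv.ofBijective
      (fun x : C => ⟨(x : G) • Q, (hmove x x.2.1).2 x.2.2, hneP x x.2.1⟩) ⟨fun a b e => ?_, ?_⟩)
    · exact Subtype.ext (congrArg (fun t : (P : Subgroup G) => (t : G))
        (h.regular hnc P Q hQ (a₁ := ⟨a, a.2.1⟩) (a₂ := ⟨b, b.2.1⟩) (congrArg Subtype.val e)))
    · rintro ⟨R, hR, hRP⟩
      obtain ⟨x, hx, rfl⟩ := h.exists_point hnc hQ hRP
      exact ⟨⟨x, hx, (hmove x hx).1 hR⟩, rfl⟩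
  rw [e2]
  show Nat.card {R : Sylow 3 G | α • R = R} = _
  rw [Nat.card_coe_set_eq, Nat.card_coe_set_eq, ← Set.ncard_insert_of_notMem (a := P) (by simp)]
  congr 1
  ext R
  by_cases hR : R = P
  · subst hR; simp [hP]
  · simp [hR]

omit hnc in
/-- An involutory automorphism fixes an even number of points. -/
theorem fixed_even {α : MulAut G} (hα : α * α = 1) (hnc' : ¬ IsMulCommutative G) :
    2 ∣ Nat.card {R : Sylow 3 G // α • R = R} := by
  obtain ⟨P⟩ : Nonempty (Sylow 3 G) := inferInstance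
  have hp : IsPGroup 2 (zpowers α) := by
    intro g
    obtain ⟨i, hi⟩ := Subgroup.mem_zpowers_iff.1 g.2
    refine ⟨1, Subtype.ext ?_⟩
    rw [pow_one, Subgroup.coe_pow, ← hi, ← zpow_natCast, ← zpow_mul, mul_comm, zpow_mul,
      zpow_natCast, pow_two, hα, one_zpow, Subgroup.coe_one]
  have h1 := hp.card_modEq_card_fixedPoints (Sylow 3 G)
  rw [(h.sylow_facts hnc' P).2.1] at h1
  have h2 : Nat.card (fixedPoints (zpowers α) (Sylow 3 G)) = Nat.card {R : Sylow 3 G // α • R = R} := by
    refine Nat.card_congr (Equiv.subtypeEquivRight fun R => ⟨fun hR => hR ⟨α, mem_zpowers α⟩, fun hR g => ?_⟩)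
    obtain ⟨i, hi⟩ := Subgroup.mem_zpowers_iff.1 g.2
    have hmem : α ∈ stabilizer (MulAut G) R := hR
    have := zpow_mem hmem i
    rw [hi] at this
    exact this
  rw [h2] at h1
  exact (Nat.modEq_zero_iff_dvd).1 (h1.symm.trans (by decide))

/-- An involutory automorphism fixing an element of order 7 is trivial. -/
theorem aut_eq_one_of_fix_seven (h14 : ∀ g : G, orderOf g ≠ 14) {α : MulAut G} (hα : α * α = 1)
    {y : G} (hy : orderOf y = 7) (hαy : α y = y) : α = 1 := by
  classical
  haveI : Fact (Nat.Prime 7) := ⟨by norm_num⟩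
  have hG : Nat.card G = 2 ^ 5 * 3 ^ 3 * 7 := by rw [h.card]; norm_num
  have hC := centralizer_seven hG h14 h.no21 hy
  obtain ⟨k, hk, hN, -⟩ := exists_normalizer_card hG h14 h.no21 hy
  obtain ⟨P⟩ : Nonempty (Sylow 7 G) := inferInstance
  have hP : Nat.card (P : Subgroup G) = 7 := by
    rw [P.card_eq_multiplicity, h.card, show (6048 : ℕ) = 7 ^ 1 * 864 by norm_num,
      factorization_eq (by norm_num) (by norm_num), pow_one]
  let Q : Sylow 7 G := Sylow.ofCard (zpowers y) (by
    rw [Nat.card_zpowers, hy, ← P.card_eq_multiplicity, hP])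
  have hmul := (Q.card_eq_index_normalizer).symm ▸
    (normalizer ((Q : Subgroup G) : Set G)).card_mul_index
  rw [show Nat.card (normalizer ((Q : Subgroup G) : Set G)) = 7 * k from hN, h.card] at hmul
  have hmod : Nat.card (Sylow 7 G) % 7 = 1 :=
    Eq.trans (card_sylow_modEq_one 7 G) (Nat.mod_eq_of_lt (by norm_num))
  have hk3 : k = 3 := by
    have : k ≤ 6 := Nat.le_of_dvd (by norm_num) hk
    interval_cases k <;> omega
  subst hk3
  obtain ⟨⟨z, hzN⟩, hz⟩ := exists_prime_orderOf_dvd_card' (G := normalizer (zpowers y : Set G)) 3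
    (by rw [hN]; exact dvd_mul_left 3 7)
  rw [Subgroup.orderOf_mk] at hz
  have hαz : α z = z := by
    have hfix : ∀ c ∈ zpowers y, α c = c := by
      rintro c ⟨i, rfl⟩
      simp only [map_zpow, hαy]
    have hzy : z * y * z⁻¹ ∈ zpowers y := (mem_normalizer_iff.1 hzN y).1 (mem_zpowers y)
    have e1 : α z * y * (α z)⁻¹ = z * y * z⁻¹ := by
      conv_rhs => rw [← hfix _ hzy]
      rw [map_mul, map_mul, map_inv, hαy]
    have hc : z⁻¹ * α z ∈ zpowers y := by
      rw [← hC, mem_centralizer_singleton_iff, ← mul_inv_eq_iff_eq_mul]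
      calc z⁻¹ * α z * y * (z⁻¹ * α z)⁻¹ = z⁻¹ * (α z * y * (α z)⁻¹) * z := by group
        _ = y := by rw [e1]; group
    obtain ⟨c, hcm, hcz⟩ : ∃ c ∈ zpowers y, α z = z * c := ⟨_, hc, (mul_inv_cancel_left z (α z)).symm⟩
    have h2 : α (α z) = z := by rw [← MulAut.mul_apply, hα, MulAut.one_apply]
    rw [hcz, map_mul, hfix c hcm, hcz, mul_assoc, mul_eq_left] at h2
    have hc1 : c = 1 := by
      have d1 : orderOf c ∣ 7 := hy ▸ Nat.card_zpowers y ▸ Subgroup.orderOf_dvd_natCard _ hcm
      have d2 : orderOf c ∣ 2 := orderOf_dvd_of_pow_eq_one (by rw [pow_two]; exact h2)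
      exact orderOf_eq_one_iff.1 (Nat.dvd_one.1 ((by norm_num : Nat.gcd 7 2 = 1) ▸ Nat.dvd_gcd d1 d2))
    rw [hcz, hc1, mul_one]
  -- a fixed point
  haveI : Fact (Nat.Prime 3) := ⟨Nat.prime_three⟩
  obtain ⟨R, hR⟩ := (IsPGroup.of_card (p := 3) (n := 1) (G := zpowers z)
    (by rw [Nat.card_zpowers, hz, pow_one])).exists_le_sylow
  have hzR : z ∈ (R : Subgroup G) := hR (mem_zpowers z)
  have hRfix : α • R = R := by
    by_contra hne
    have h1 := Subgroup.smul_mem_pointwise_smul z α (R : Subgroup G) hzR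
    rw [← Sylow.pointwise_smul_def, MulAut.smul_def, hαz] at h1
    have h2 : z ∈ (R : Subgroup G) ⊓ ((α • R : Sylow 3 G) : Subgroup G) := ⟨hzR, h1⟩
    rw [eq_bot_of_card_eq _ (h.inter_one hnc R (α • R) hne), mem_bot] at h2
    rw [h2, orderOf_one] at hz
    norm_num at hz
  -- seven divides the number of fixed points
  let p : SubMulAction (zpowers y) (Sylow 3 G) :=
    { carrier := {S | α • S = S}
      smul_mem' := fun g S hS => by
        show α • ((g : G) • S) = (g : G) • S
        rw [aut_smul_smul, hS]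
        obtain ⟨i, hi⟩ := Subgroup.mem_zpowers_iff.1 g.2
        rw [← hi, map_zpow, hαy] }
  have h7 : 7 ∣ Nat.card {S : Sylow 3 G // α • S = S} := by
    refine dvd_card_of_orbits (M := zpowers y) (X := p) fun S => ?_
    have h1 := index_stabilizer_mul (M := zpowers y) S
    rw [Nat.card_zpowers, hy] at h1
    rcases (Nat.dvd_prime (by norm_num : Nat.Prime 7)).1 (Dvd.intro _ h1) with e | e
    · exfalso
      have e1 : Nat.card (stabilizer (zpowers y) S) = Nat.card (zpowers y) := by
        rw [e, one_mul] at h1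
        rw [h1, Nat.card_zpowers, hy]
      have hy' : (⟨y, mem_zpowers y⟩ : zpowers y) ∈ stabilizer (zpowers y) S :=
        eq_top_of_card_eq _ e1 ▸ mem_top _
      have e2 : y • (S : Sylow 3 G) = S := congrArg Subtype.val hy'
      have e3 := (Subgroup.orderOf_dvd_natCard _ (Sylow.smul_eq_iff_mem_normalizer.1 e2)).trans
        (dvd_of_eq (h.normalizer_card hnc _))
      rw [hy] at e3
      norm_num at e3
    · exact dvd_of_eq e.symm
  have h2 := h.fixed_even hα hnc
  obtain ⟨P'⟩ : Nonempty (Sylow 3 G) := inferInstance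
  have hle : Nat.card {S : Sylow 3 G // α • S = S} ≤ 28 := by
    rw [← (h.sylow_facts hnc P').2.1]
    exact Finite.card_subtype_le _
  have hpos : 0 < Nat.card {S : Sylow 3 G // α • S = S} :=
    haveI : Nonempty {S : Sylow 3 G // α • S = S} := ⟨⟨R, hRfix⟩⟩
    Nat.card_pos
  obtain ⟨T, hT, hTR⟩ : ∃ T : Sylow 3 G, α • T = T ∧ T ≠ R := by
    by_contra! hh
    haveI : Subsingleton {S : Sylow 3 G // α • S = S} :=
      ⟨fun a b => Subtype.ext ((hh a a.2).trans (hh b b.2).symm)⟩
    have := (Finite.card_le_one_iff_subsingleton).2 (inferInstance : Subsingleton {S : Sylow 3 G // α • S = S})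
    omega
  have h3 := h.card_fixed_aut hnc hTR hRfix hT
  set C := ((R : Subgroup G) ⊓ α.toMonoidHom.eqLocus (MonoidHom.id G) : Subgroup G)
  have hd : Nat.card C ∣ 27 := h.card_sylow R ▸ card_dvd_of_le inf_le_left
  have h28 : Nat.card {S : Sylow 3 G // α • S = S} = Nat.card (Sylow 3 G) := by
    rw [(h.sylow_facts hnc P').2.1]
    have : Nat.card C ≤ 27 := Nat.le_of_dvd (by norm_num) hd
    rw [h3] at h7 h2 hle ⊢
    generalize Nat.card C = c at h7 h2 hle hd this ⊢
    interval_cases c <;> omega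
  have hall : ∀ S : Sylow 3 G, α • S = S := fun S => by
    haveI := Fintype.ofFinite (Sylow 3 G)
    obtain ⟨S', hS'⟩ := (Subtype.val_injective.bijective_of_nat_card_le (le_of_eq h28.symm)).2 S
    exact hS' ▸ S'.2
  refine MulEquiv.ext fun g => ?_
  have hg : ∀ S : Sylow 3 G, ((α g)⁻¹ * g) • S = S := fun S => by
    rw [mul_smul, inv_smul_eq_iff]
    have e := aut_smul_smul α g S
    rw [hall, hall] at e
    exact e
  exact inv_mul_eq_one.1 (h.eq_one_of_fixes hnc hg)

/-- No automorphism squares to conjugation by an element of order 8. -/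
theorem no_sqrt_eight {α : MulAut G} {u : G} (hu : orderOf u = 8) (hα : α * α = MulAut.conj u) : False := by
  classical
  set t := u ^ 4 with ht
  have hto : orderOf t = 2 := by rw [ht, orderOf_pow, hu]; rfl
  have hinj : Function.Injective (MulAut.conj : G →* MulAut G) := by
    refine (injective_iff_map_eq_one _).2 fun g hg => h.eq_one_of_fixes hnc fun S => ?_
    rw [← conj_smul_eq, hg, one_smul]
  have hα8 : α ^ 8 = MulAut.conj t := by
    rw [show 8 = 2 * 4 from rfl, pow_mul, pow_two, hα, ← map_pow]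
  have hα16 : α ^ 16 = 1 := by
    rw [show 16 = 8 * 2 from rfl, pow_mul, hα8, ← map_pow, ← hto, pow_orderOf_eq_one, map_one]
  have hne : α ^ 8 ≠ 1 := fun e => by
    rw [hα8, ← map_one MulAut.conj] at e
    rw [hinj e, orderOf_one] at hto
    norm_num at hto
  have ho : orderOf α = 16 :=
    haveI : Fact (Nat.Prime 2) := ⟨Nat.prime_two⟩
    orderOf_eq_prime_pow (p := 2) (n := 3) hne hα16
  let p : SubMulAction (zpowers α) (Sylow 3 G) :=
    { carrier := {S | t • S ≠ S}
      smul_mem' := fun g S hS e => hS (by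
        obtain ⟨i, hi⟩ := Subgroup.mem_zpowers_iff.1 g.2
        have e' : α ^ 8 • ((g : MulAut G) • S) = (g : MulAut G) • S := by rw [hα8]; exact e
        rw [← hi, ← mul_smul, ((Commute.refl α).pow_left 8 |>.zpow_right i).eq, mul_smul,
          smul_left_cancel_iff, hα8] at e'
        exact e') }
  have h16 : 16 ∣ Nat.card {S : Sylow 3 G // t • S ≠ S} := by
    refine dvd_card_of_orbits (M := zpowers α) (X := p) fun S => ?_
    have h1 := index_stabilizer_mul (M := zpowers α) S
    rw [Nat.card_zpowers, ho] at h1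
    suffices hs : Nat.card (stabilizer (zpowers α) S) = 1 by rw [hs, mul_one] at h1; rw [h1]
    by_contra hs
    haveI : Fact (Nat.Prime 2) := ⟨Nat.prime_two⟩
    have h2 : 2 ∣ Nat.card (stabilizer (zpowers α) S) := by
      obtain ⟨j, -, hj⟩ := (Nat.dvd_prime_pow Nat.prime_two).1
        (Dvd.intro_left _ h1 : Nat.card (stabilizer (zpowers α) S) ∣ 2 ^ 4)
      rw [hj] at hs ⊢
      exact dvd_pow_self 2 fun e => hs (by rw [e, pow_zero])
    obtain ⟨⟨⟨g, hg⟩, hgS⟩, hg2⟩ := exists_prime_orderOf_dvd_card' (G := stabilizer (zpowers α) S) 2 h2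
    rw [Subgroup.orderOf_mk, Subgroup.orderOf_mk] at hg2
    obtain ⟨i, rfl⟩ := Subgroup.mem_zpowers_iff.1 hg
    have h16i : (16 : ℤ) ∣ i * 2 := by
      have : α ^ (i * 2) = 1 := by
        rw [zpow_mul, show (2 : ℤ) = ((2 : ℕ) : ℤ) from rfl, zpow_natCast, ← hg2, pow_orderOf_eq_one]
      rw [← orderOf_dvd_iff_zpow_eq_one, ho] at this
      exact_mod_cast this
    obtain ⟨m, hm⟩ : (8 : ℤ) ∣ i := by omega
    have he : α ^ i = α ^ 8 := by
      rcases Int.even_or_odd m with ⟨r, hr⟩ | ⟨r, hr⟩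
      · exfalso
        have : α ^ i = 1 := by
          rw [hm, hr, show 8 * (r + r) = ((16 : ℕ) : ℤ) * r by push_cast; ring, zpow_mul, zpow_natCast,
            hα16, one_zpow]
        rw [this, orderOf_one] at hg2
        norm_num at hg2
      · rw [hm, hr, show 8 * (2 * r + 1) = ((16 : ℕ) : ℤ) * r + ((8 : ℕ) : ℤ) by push_cast; ring, zpow_add,
          zpow_mul, zpow_natCast, zpow_natCast, hα16, one_zpow, one_mul]
    have e1 : (α ^ i) • (S : Sylow 3 G) = S := congrArg Subtype.val hgS
    rw [he, hα8] at e1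
    exact S.2 e1
  obtain ⟨P'⟩ : Nonempty (Sylow 3 G) := inferInstance
  haveI := Fintype.ofFinite (Sylow 3 G)
  have hsplit : Nat.card {S : Sylow 3 G // t • S ≠ S} +
      Nat.card {S : Sylow 3 G // MulAut.conj t • S = S} = 28 := by
    rw [← (h.sylow_facts hnc P').2.1, ← Nat.card_congr (Equiv.sumCompl fun S : Sylow 3 G => t • S = S),
      Nat.card_sum, add_comm]
    rfl
  by_cases hfix : ∃ P : Sylow 3 G, t • P = P
  · obtain ⟨P, hP⟩ := hfix
    have h2 := h.fixed_even (α := MulAut.conj t) (by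
      rw [← map_mul, ← pow_two, ← hto, pow_orderOf_eq_one, map_one]) hnc
    obtain ⟨Q, hQ, hQP⟩ : ∃ Q : Sylow 3 G, t • Q = Q ∧ Q ≠ P := by
      by_contra! hh
      haveI : Subsingleton {S : Sylow 3 G // MulAut.conj t • S = S} :=
        ⟨fun a b => Subtype.ext ((hh a a.2).trans (hh b b.2).symm)⟩
      haveI : Nonempty {S : Sylow 3 G // MulAut.conj t • S = S} := ⟨⟨P, hP⟩⟩
      rw [Nat.card_unique] at h2
      norm_num at h2
    have h3 := h.card_fixed_aut hnc hQP (α := MulAut.conj t) hP hQ
    have he : (P : Subgroup G) ⊓ (MulAut.conj t).toMonoidHom.eqLocus (MonoidHom.id G) =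
        (P : Subgroup G) ⊓ centralizer ({t} : Set G) := by
      ext x
      simp only [mem_inf, mem_centralizer_singleton_iff, and_congr_right_iff]
      intro _
      show t * x * t⁻¹ = x ↔ x * t = t * x
      rw [mul_inv_eq_iff_eq_mul, eq_comm]
    rw [he, h.fixed_card hnc P Q hQP hto (Sylow.smul_eq_iff_mem_normalizer.1 hP)
      (Sylow.smul_eq_iff_mem_normalizer.1 hQ)] at h3
    omega
  · haveI : IsEmpty {S : Sylow 3 G // MulAut.conj t • S = S} := ⟨fun S => hfix ⟨S.1, S.2⟩⟩
    rw [Nat.card_of_isEmpty (α := {S : Sylow 3 G // MulAut.conj t • S = S}), add_zero] at hsplit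
    omega

end Hyp

end CfsgLib.G2Recog
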