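import Cfsg.Agent.G2TwoRecog.InterLarge

/-!
# The action on the 28 Sylow 3-subgroups

A Sylow 3-subgroup acts regularly on the 27 others, it contains its centralizer in its normalizer,
and an involution fixing two points fixes exactly three elements of the Sylow subgroup.
-/

set_option autoImplicit false
set_option linter.style.haveILetI false
set_option linter.unusedSectionVars false

namespace CfsgLib.G2Recog

open Subgroup MulAction
open scoped commutatorElement Pointwise

variable {G : Type*} [Group G] [Finite G] [IsSimpleGroup G]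

namespace Hyp

variable (h : Hyp G) (hnc : ¬ IsMulCommutative G)
include h hnc

theorem normalizer_card (P : Sylow 3 G) : Nat.card (NP P) = 216 := (h.sylow_facts hnc P).1

theorem count (P : Sylow 3 G) : Nat.card {Q : Sylow 3 G // Q ≠ P} = 27 := by
  classical
  haveI := Fintype.ofFinite (Sylow 3 G)
  have h1 := (h.sylow_facts hnc P).2.1
  rw [Nat.card_eq_fintype_card] at h1
  rw [Nat.card_eq_fintype_card, Fintype.card_subtype_compl, Fintype.card_subtype_eq, h1]

theorem rest_cases (P : Sylow 3 G) :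
    (∀ Q : Sylow 3 G, Q ≠ P → Nat.card ((P : Subgroup G) ⊓ Q : Subgroup G) = 1) ∨
      ∀ Q : Sylow 3 G, Q ≠ P → Nat.card ((P : Subgroup G) ⊓ Q : Subgroup G) = 3 := by
  by_contra hne
  push_neg at hne
  obtain ⟨⟨Q, hQ, hQ1⟩, R, hR, hR3⟩ := hne
  have hq := (h.sylow_facts hnc P).2.2 Q hQ
  have hr := (h.sylow_facts hnc P).2.2 R hR
  simp only [List.mem_cons, List.not_mem_nil, or_false] at hq hr
  have hQc : Nat.card ((P : Subgroup G) ⊓ Q : Subgroup G) = 3 := hq.resolve_left hQ1
  have hRc : Nat.card ((P : Subgroup G) ⊓ R : Subgroup G) = 1 := hr.resolve_right hR3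
  have oQ := h.orbit_card P Q
  have oR := h.orbit_card P R
  rw [hQc] at oQ
  rw [hRc, mul_one] at oR
  have hfix : ∀ p : (P : Subgroup G), p • P = P := fun p =>
    Sylow.smul_eq_iff_mem_normalizer.2 (le_normalizer (H := (P : Subgroup G)) p.2)
  have hne : ∀ S ∈ orbit (P : Subgroup G) R, S ≠ P := by
    rintro _ ⟨p, rfl⟩ e
    exact hR (smul_left_cancel p (e.trans (hfix p).symm))
  have hinj : Function.Injective (fun S : orbit (P : Subgroup G) R =>
      (⟨S.1, hne S.1 S.2⟩ : {S : Sylow 3 G // S ≠ P})) := fun a b e =>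
    Subtype.ext (congrArg (fun t : {S : Sylow 3 G // S ≠ P} => t.1) e)
  have hbij : Function.Bijective (fun S : orbit (P : Subgroup G) R =>
      (⟨S.1, hne S.1 S.2⟩ : {S : Sylow 3 G // S ≠ P})) :=
    hinj.bijective_of_nat_card_le (by rw [h.count hnc P]; omega)
  obtain ⟨⟨S, hS⟩, hSQ⟩ := hbij.2 ⟨Q, hQ⟩
  have hSQ' : S = Q := congrArg Subtype.val hSQ
  subst hSQ'
  rw [orbit_eq_iff.2 hS] at oQ
  omega

/-- A central subgroup of order 3 is no intersection. -/
theorem not_central {P Q : Sylow 3 G} (hQP : Q ≠ P)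
    (h3 : Nat.card ((P : Subgroup G) ⊓ Q : Subgroup G) = 3)
    (hz : (P : Subgroup G) ≤ centralizer (((P : Subgroup G) ⊓ Q : Subgroup G) : Set G)) : False := by
  set L := (P : Subgroup G) ⊓ Q with hL
  set M := normalizer (L : Set G) with hM
  have hPM : (P : Subgroup G) ≤ M := hz.trans (Subgroup.centralizer_le_normalizer _)
  obtain ⟨n, hn1, hn2, hn3⟩ := h.card_over P hPM
  obtain ⟨j, hj, hjc⟩ := h.card_cases (h.card_sylow P ▸ card_dvd_of_le hPM)
    (h.le_normalizer_ne_top h3 (by norm_num) (by norm_num))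
  have hQM : (Q : Subgroup G) ≤ M := by
    have hp3 : IsPGroup 3 (L.subgroupOf Q) := Q.2.to_subgroup _
    haveI := Q.2.isNilpotent
    have hlt : L.subgroupOf Q < ⊤ := by
      rw [lt_top_iff_ne_top]
      intro e
      rw [subgroupOf_eq_top] at e
      have := card_dvd_of_le e
      rw [h.card_sylow Q, h3] at this
      norm_num at this
    have hgrow := Group.normalizerCondition_of_isNilpotent (L.subgroupOf Q) hlt
    rw [← subgroupOf_normalizer_eq inf_le_right] at hgrow
    have h9 : 9 ∣ Nat.card (M ⊓ Q : Subgroup G) := by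
      have hc := Nat.card_congr (subgroupOfEquivOfLe (inf_le_right : M ⊓ Q ≤ Q)).toEquiv
      have hlc : Nat.card (L.subgroupOf Q) = 3 :=
        (Nat.card_congr (subgroupOfEquivOfLe inf_le_right).toEquiv).trans h3
      have hd : Nat.card (M ⊓ Q : Subgroup G) ∣ 3 ^ 3 :=
        (card_dvd_of_le inf_le_right).trans (dvd_of_eq (h.card_sylow Q))
      obtain ⟨i, hi, hi'⟩ := (Nat.dvd_prime_pow Nat.prime_three).1 hd
      have hlt2 : Nat.card (L.subgroupOf Q) < Nat.card ((M ⊓ Q).subgroupOf Q) := by
        have e : (M ⊓ Q).subgroupOf Q = M.subgroupOf Q := inf_subgroupOf_right M Q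
        rw [e]
        exact Set.Finite.card_lt_card (Set.toFinite _) hgrow
      rw [hlc, hc, hi'] at hlt2
      rw [hi']
      exact dvd_trans (by norm_num : 9 ∣ 3 ^ 2) (pow_dvd_pow 3 (by
        by_contra hlt'
        have : 3 ^ i ≤ 3 ^ 1 := Nat.pow_le_pow_right (by norm_num) (by omega)
        omega))
    obtain ⟨R, hR⟩ := (show IsPGroup 3 ((M ⊓ Q : Subgroup G).subgroupOf M) from
      (Q.2.to_le inf_le_right).of_equiv (subgroupOfEquivOfLe inf_le_left).symm).exists_le_sylow
    have hRc : Nat.card (R : Subgroup M) = 27 := by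
      rw [R.card_eq_multiplicity, hjc, show 27 * 2 ^ j = 3 ^ 3 * 2 ^ j by norm_num,
        factorization_eq Nat.prime_three (fun e => by
          have := Nat.prime_three.dvd_of_dvd_pow e
          norm_num at this)]
      norm_num
    let R' : Sylow 3 G := Sylow.ofCard ((R : Subgroup M).map M.subtype) (by
      rw [card_map_of_injective M.subtype_injective, hRc, ← P.card_eq_multiplicity, h.card_sylow P])
    have hR' : R' = Q := by
      by_contra hne
      have h1 := (h.sylow_facts hnc Q).2.2 R' hne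
      have h2 : 9 ∣ Nat.card ((Q : Subgroup G) ⊓ R' : Subgroup G) := by
        refine h9.trans (card_dvd_of_le (le_inf inf_le_right ?_))
        intro x hx
        exact ⟨⟨x, hx.1⟩, hR (mem_subgroupOf.2 hx), rfl⟩
      simp only [List.mem_cons, List.not_mem_nil, or_false] at h1
      rcases h1 with e | e <;> rw [e] at h2 <;> norm_num at h2
    rw [← hR']
    exact map_subtype_le _
  -- the others inside `M` form orbits of length nine
  let p : SubMulAction (P : Subgroup G) (Sylow 3 G) :=
    { carrier := {S | (S : Subgroup G) ≤ M ∧ S ≠ P}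
      smul_mem' := fun g S hS => by
        have hg : (g : G) ∈ M := hPM g.2
        have hgP : g • P = P :=
          Sylow.smul_eq_iff_mem_normalizer.2 (le_normalizer (H := (P : Subgroup G)) g.2)
        refine ⟨fun x hx => ?_, fun e => hS.2 (smul_left_cancel g (e.trans hgP.symm))⟩
        have hx' : x ∈ (((g : G) • S : Sylow 3 G) : Subgroup G) := hx
        rw [Sylow.coe_subgroup_smul, Subgroup.mem_pointwise_smul_iff_inv_smul_mem, MulAut.smul_def,
          MulAut.inv_def, MulAut.conj_symm_apply] at hx'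
        have := Subgroup.mul_mem _ (Subgroup.mul_mem _ hg (hS.1 hx')) (Subgroup.inv_mem _ hg)
        simpa [mul_assoc] using this }
  have h9 : 9 ∣ Nat.card p := dvd_card_of_orbits (M := (P : Subgroup G)) fun x => by
    rw [← Nat.card_image_of_injective Subtype.val_injective, SubMulAction.val_image_orbit]
    have h1 := h.orbit_card P (x : Sylow 3 G)
    have h2 := (h.sylow_facts hnc P).2.2 _ x.2.2
    simp only [List.mem_cons, List.not_mem_nil, or_false] at h2
    rcases h2 with e | e <;> rw [e] at h1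
    · exact ⟨3, by omega⟩
    · exact ⟨1, by omega⟩
  have hp : Nat.card p + 1 = n := by
    classical
    haveI := Fintype.ofFinite (Sylow 3 G)
    rw [← hn3]
    show Nat.card {S : Sylow 3 G // (S : Subgroup G) ≤ M ∧ S ≠ P} + 1 = _
    rw [Nat.card_eq_fintype_card, Nat.card_eq_fintype_card, Fintype.card_subtype,
      Fintype.card_subtype, ← Finset.card_insert_of_notMem (a := P) (by simp)]
    congr 1
    ext S
    by_cases hS : S = P
    · subst hS; simp [hPM]
    · simp [hS]
  have hppos : 0 < Nat.card p := by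
    haveI : Nonempty p := ⟨⟨Q, hQM, hQP⟩⟩
    exact Nat.card_pos
  rw [hjc] at hn1
  have hc : 27 ∣ Nat.card (M ⊓ NP P : Subgroup G) :=
    h.card_sylow P ▸ card_dvd_of_le (le_inf hPM le_normalizer)
  obtain ⟨d, hd⟩ := hc
  rw [hd] at hn1
  obtain ⟨q, hq⟩ := h9
  interval_cases j
  all_goals
    have hd0 : 0 < d := by rcases Nat.eq_zero_or_pos d with rfl | h0 <;> omega
    have hdn : n ≤ 16 := by nlinarith
    interval_cases n <;> omega

omit hnc in
/-- An involution is an even permutation of the Sylow 3-subgroups. -/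
theorem sign_eq_one (hnc : ¬ IsMulCommutative G) [Fintype (Sylow 3 G)] [DecidableEq (Sylow 3 G)]
    (g : G) : Equiv.Perm.sign (MulAction.toPermHom G (Sylow 3 G) g) = 1 := by
  let f : G →* ℤˣ := Equiv.Perm.sign.comp (MulAction.toPermHom G (Sylow 3 G))
  rcases Subgroup.Normal.eq_bot_or_eq_top (inferInstance : f.ker.Normal) with e | e
  · exact absurd ⟨⟨fun a b => (MonoidHom.ker_eq_bot_iff f).1 e (by
      rw [map_mul, map_mul, mul_comm])⟩⟩ hnc
  · exact MonoidHom.mem_ker.1 (e ▸ mem_top g : g ∈ f.ker)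

theorem eq_one_of_fixes {g : G} (hg : ∀ S : Sylow 3 G, g • S = S) : g = 1 := by
  rcases Subgroup.Normal.eq_bot_or_eq_top
    (inferInstance : (MulAction.toPermHom G (Sylow 3 G)).ker.Normal) with e | e
  · exact (MonoidHom.ker_eq_bot_iff _).1 e (by
      ext S
      simp [hg S])
  · exfalso
    obtain ⟨P⟩ : Nonempty (Sylow 3 G) := inferInstance
    haveI : Subsingleton (Sylow 3 G) := ⟨fun S T => by
      obtain ⟨x, hx⟩ := exists_smul_eq G S T
      have hxk : x ∈ (MulAction.toPermHom G (Sylow 3 G)).ker := e ▸ mem_top x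
      have h1 : (MulAction.toPermHom G (Sylow 3 G)) x S = S := by
        rw [MonoidHom.mem_ker.1 hxk]; rfl
      exact h1.symm.trans hx⟩
    have := (h.sylow_facts hnc P).2.1
    have h2 := Finite.card_le_one_iff_subsingleton.2 (inferInstance : Subsingleton (Sylow 3 G))
    omega

/-- No involution centralizes a Sylow 3-subgroup. -/
theorem no_cent {P : Sylow 3 G} {u : G} (hu : orderOf u = 2)
    (hc : u ∈ centralizer ((P : Subgroup G) : Set G)) : False := by
  classical
  haveI := Fintype.ofFinite (Sylow 3 G)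
  set σ := MulAction.toPermHom G (Sylow 3 G) u with hσ
  have hσ2 : σ ^ 2 = 1 := by rw [hσ, ← map_pow, ← hu, pow_orderOf_eq_one, map_one]
  have huP : u • P = P :=
    Sylow.smul_eq_iff_mem_normalizer.2 (Subgroup.centralizer_le_normalizer _ hc)
  let p : SubMulAction (P : Subgroup G) (Sylow 3 G) :=
    { carrier := {S | u • S = S ∧ S ≠ P}
      smul_mem' := fun g S hS => by
        have hgP : g • P = P :=
          Sylow.smul_eq_iff_mem_normalizer.2 (le_normalizer (H := (P : Subgroup G)) g.2)
        refine ⟨?_, fun e => hS.2 (smul_left_cancel g (e.trans hgP.symm))⟩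
        show u • ((g : G) • S) = (g : G) • S
        rw [← mul_smul, ← mem_centralizer_iff.1 hc (g : G) g.2, mul_smul, hS.1] }
  have h9 : 9 ∣ Nat.card p := dvd_card_of_orbits (M := (P : Subgroup G)) fun x => by
    rw [← Nat.card_image_of_injective Subtype.val_injective, SubMulAction.val_image_orbit]
    have h1 := h.orbit_card P (x : Sylow 3 G)
    have h2 := (h.sylow_facts hnc P).2.2 _ x.2.2
    simp only [List.mem_cons, List.not_mem_nil, or_false] at h2
    rcases h2 with e | e <;> rw [e] at h1
    · exact ⟨3, by omega⟩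
    · exact ⟨1, by omega⟩
  have hfix : Fintype.card (Function.fixedPoints σ) = Nat.card p + 1 := by
    rw [← Nat.card_eq_fintype_card]
    show _ = Nat.card {S : Sylow 3 G | u • S = S ∧ S ≠ P} + 1
    rw [Nat.card_coe_set_eq, Nat.card_coe_set_eq, ← Set.ncard_insert_of_notMem (a := P) (by simp)]
    congr 1
    ext S
    by_cases hS : S = P
    · subst hS; simp [Function.IsFixedPt, hσ, huP]
    · simp [Function.IsFixedPt, hσ, hS]
  have hs := h.sign_eq_one hnc u
  rw [← hσ, Equiv.Perm.sign_of_pow_two_eq_one hσ2] at hs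
  have h28 : Fintype.card (Sylow 3 G) = 28 := by
    rw [← Nat.card_eq_fintype_card]; exact (h.sylow_facts hnc P).2.1
  have heven : Even ((28 - (Nat.card p + 1)) / 2) := by
    rw [hfix, h28] at hs
    rcases Nat.even_or_odd ((28 - (Nat.card p + 1)) / 2) with e | e
    · exact e
    · rw [e.neg_one_pow] at hs
      exact absurd hs (by decide)
  have hdvd : 2 ∣ 28 - (Nat.card p + 1) := by
    have h1 := σ.card_fixedPoints
    have h2 := σ.sum_cycleType
    have h3 := Equiv.Perm.cycleType_of_pow_prime_eq_one (p := 2) hσ2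
    rw [h3, Multiset.sum_replicate, smul_eq_mul] at h2
    rw [hfix, h28] at h1
    rw [h3, Multiset.sum_replicate, smul_eq_mul] at h1
    have h4 : Nat.card p + 1 ≤ 28 := by
      rw [← hfix, ← h28]; exact set_fintype_card_le_univ _
    exact ⟨σ.cycleType.card, by omega⟩
  have hle : Nat.card p ≤ 27 := h.count hnc P ▸
    Nat.card_le_card_of_injective (fun S : p => (⟨S.1, S.2.2⟩ : {S : Sylow 3 G // S ≠ P}))
      (fun a b e => Subtype.ext (congrArg (fun t : {S : Sylow 3 G // S ≠ P} => t.1) e))
  obtain ⟨q, hq⟩ := h9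
  have hqc : q = 3 := by
    rw [hq] at hle hdvd heven
    have : q ≤ 3 := by omega
    obtain ⟨k, hk⟩ := hdvd
    obtain ⟨l, hl⟩ := heven
    interval_cases q <;> omega
  subst hqc
  have hall : ∀ S : Sylow 3 G, u • S = S := by
    intro S
    by_cases hS : S = P
    · rw [hS, huP]
    · have hinj : Function.Injective (fun S : p => (⟨S.1, S.2.2⟩ : {S : Sylow 3 G // S ≠ P})) :=
        fun a b e => Subtype.ext (congrArg (fun t : {S : Sylow 3 G // S ≠ P} => t.1) e)
      obtain ⟨T, hT⟩ := (hinj.bijective_of_nat_card_le (by rw [h.count hnc P]; omega)).2 ⟨S, hS⟩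
      have : T.1 = S := congrArg (fun t : {S : Sylow 3 G // S ≠ P} => t.1) hT
      rw [← this]
      exact T.2.1
  rw [h.eq_one_of_fixes hnc hall, orderOf_one] at hu
  norm_num at hu

/-- In the normalizer of `P`, the centralizer of `P` is inside `P`. -/
theorem centralizer_le (P : Sylow 3 G) : centralizer ((P : Subgroup G) : Set G) ≤ (P : Subgroup G) := by
  have hCN : centralizer ((P : Subgroup G) : Set G) ≤ NP P := Subgroup.centralizer_le_normalizer _
  have h2 : ¬ 2 ∣ Nat.card (centralizer ((P : Subgroup G) : Set G)) := by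
    intro hd
    obtain ⟨u, hu⟩ := exists_prime_orderOf_dvd_card' (G := centralizer ((P : Subgroup G) : Set G)) 2 hd
    exact h.no_cent hnc (Subgroup.orderOf_coe u ▸ hu) u.2
  have hd : Nat.card (centralizer ((P : Subgroup G) : Set G)) ∣ 3 ^ 3 := by
    have h1 : Nat.card (centralizer ((P : Subgroup G) : Set G)) ∣ 8 * 3 ^ 3 := by
      have := card_dvd_of_le hCN
      rwa [h.normalizer_card hnc P] at this
    have hcop : Nat.Coprime (Nat.card (centralizer ((P : Subgroup G) : Set G))) 8 := by
      rw [show (8 : ℕ) = 2 ^ 3 by norm_num]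
      exact (Nat.prime_two.coprime_iff_not_dvd.2 h2).symm.pow_right 3
    exact hcop.dvd_of_dvd_mul_left h1
  obtain ⟨i, hi, hi'⟩ := (Nat.dvd_prime_pow Nat.prime_three).1 hd
  have hp : IsPGroup 3 (centralizer ((P : Subgroup G) : Set G)) := IsPGroup.of_card hi'
  exact fun x hx => ((hp.inf_normalizer_sylow P).le ⟨hx, hCN hx⟩).2

/-- Distinct Sylow 3-subgroups meet trivially. -/
theorem inter_one (P Q : Sylow 3 G) (hne : Q ≠ P) :
    Nat.card ((P : Subgroup G) ⊓ Q : Subgroup G) = 1 := by
  classical
  rcases h.rest_cases hnc P with h1 | h3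
  · exact h1 Q hne
  exfalso
  -- a Sylow 2-subgroup of the normalizer fixes another point
  obtain ⟨H, hH⟩ := Sylow.exists_subgroup_card_pow_prime (G := NP P) 2 (n := 3)
    (by rw [h.normalizer_card hnc P]; norm_num)
  set H' := H.map (NP P).subtype with hH'
  have hH'c : Nat.card H' = 2 ^ 3 := (card_map_of_injective (NP P).subtype_injective).trans hH
  have hH'N : H' ≤ NP P := map_subtype_le _
  have hHp : IsPGroup 2 H' := IsPGroup.of_card hH'c
  let p : SubMulAction H' (Sylow 3 G) :=
    { carrier := {S | S ≠ P}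
      smul_mem' := fun g S hS e => hS (smul_left_cancel g (e.trans
        (Sylow.smul_eq_iff_mem_normalizer.2 (hH'N g.2)).symm)) }
  obtain ⟨⟨R, hR⟩, hfix⟩ : (fixedPoints H' p).Nonempty := by
    refine hHp.nonempty_fixed_point_of_prime_not_dvd_card p ?_
    show ¬ 2 ∣ Nat.card {S : Sylow 3 G // S ≠ P}
    rw [h.count hnc P]
    norm_num
  set L := (P : Subgroup G) ⊓ R with hLdef
  have hL : Nat.card L = 3 := h3 R hR
  have hLP : L ≤ (P : Subgroup G) := inf_le_left
  have hHL : ∀ g ∈ H', ∀ x ∈ L, g * x * g⁻¹ ∈ L := by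
    intro g hg x hx
    refine ⟨(mem_normalizer_iff.1 (hH'N hg) x).1 hx.1, ?_⟩
    have e1 : g • R = R := congrArg Subtype.val (hfix ⟨g, hg⟩)
    exact (mem_normalizer_iff.1 (Sylow.smul_eq_iff_mem_normalizer.1 e1) x).1 hx.2
  -- `L` with the centre
  set Z := (Subgroup.center (P : Subgroup G)).map (P : Subgroup G).subtype with hZ
  have hZcent : ∀ z ∈ Z, ∀ x ∈ (P : Subgroup G), x * z = z * x := by
    rintro z ⟨z', hz', rfl⟩ x hx
    exact congrArg Subtype.val (Subgroup.mem_center_iff.1 hz' ⟨x, hx⟩)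
  have hZP : Z ≤ (P : Subgroup G) := map_subtype_le _
  have hnotcen : ¬ (P : Subgroup G) ≤ centralizer (L : Set G) := h.not_central hnc hR hL
  have hLZ : ¬ L ≤ Z := fun hle => hnotcen fun x hx => mem_centralizer_iff.2 fun l hl =>
    (hZcent l (hle hl) x hx).symm
  obtain ⟨l, hl, hlZ⟩ : ∃ l ∈ L, l ∉ Z := by
    by_contra hall; push_neg at hall; exact hLZ hall
  have hl1 : l ≠ 1 := fun e => hlZ (e ▸ one_mem _)
  have hLz : L = zpowers l := by
    refine (eq_of_le_of_card_ge (zpowers_le.2 hl) ?_).symm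
    rw [hL, Nat.card_zpowers]
    exact ((Nat.prime_three.eq_one_or_self_of_dvd _
      (orderOf_dvd_of_pow_eq_one (h.pow_three P (hLP hl)))).resolve_left
        (fun e => hl1 (orderOf_eq_one_iff.1 e))).ge
  set C := (P : Subgroup G) ⊓ centralizer ({l} : Set G) with hC
  have hC9 : Nat.card C = 9 := by
    have hd : Nat.card C ∣ 3 ^ 3 := (card_dvd_of_le inf_le_left).trans (dvd_of_eq (h.card_sylow P))
    obtain ⟨i, hi, hi'⟩ := (Nat.dvd_prime_pow Nat.prime_three).1 hd
    have hZne : Z ≠ ⊥ := by
      haveI : Nontrivial (P : Subgroup G) := Finite.one_lt_card_iff_nontrivial.1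
        (by rw [h.card_sylow P]; norm_num)
      haveI := P.2.center_nontrivial
      intro e
      rw [hZ, Subgroup.map_eq_bot_iff_of_injective _ (P : Subgroup G).subtype_injective] at e
      exact (Subgroup.nontrivial_iff_ne_bot _).1 inferInstance e
    have hlC : l ∈ C := ⟨hLP hl, mem_centralizer_singleton_iff.2 rfl⟩
    have hZC : Z ≤ C := fun z hz => ⟨hZP hz, mem_centralizer_singleton_iff.2
      ((hZcent z hz l (hLP hl)).symm)⟩
    rw [hi']
    interval_cases i
    · exact absurd (eq_bot_of_card_eq C (by simpa using hi') ▸ hlC : l ∈ (⊥ : Subgroup G))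
        (by rwa [mem_bot])
    · exfalso
      obtain ⟨z, hz, hz1⟩ := (Subgroup.bot_or_exists_ne_one Z).resolve_left hZne
      have e1 : zpowers l = C := eq_of_le_of_card_ge (zpowers_le.2 hlC) (by
        rw [hi', ← hLz, hL]; norm_num)
      have e2 : zpowers z = C := eq_of_le_of_card_ge (zpowers_le.2 (hZC hz)) (by
        rw [hi', Nat.card_zpowers, pow_one]
        exact ((Nat.prime_three.eq_one_or_self_of_dvd _
          (orderOf_dvd_of_pow_eq_one (h.pow_three P (hZP hz)))).resolve_left
            (fun e => hz1 (orderOf_eq_one_iff.1 e))).ge)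
      exact hlZ ((zpowers_le.2 hz : zpowers z ≤ Z) (e2.ge (e1.le (mem_zpowers l))))
    · norm_num
    · refine absurd ?_ hnotcen
      intro x hx
      have hxC : x ∈ C := (eq_of_le_of_card_ge inf_le_left
        (by rw [hi', h.card_sylow P]; norm_num) : C = (P : Subgroup G)).ge hx
      rw [hLz, centralizer_eq_iInf]
      simp only [mem_iInf]
      intro y hy
      rw [SetLike.mem_coe, mem_zpowers_iff] at hy
      obtain ⟨k, rfl⟩ := hy
      rw [mem_centralizer_singleton_iff]
      exact (show Commute x l from mem_centralizer_singleton_iff.1 hxC.2).zpow_right k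
  have hCP : C ≤ (P : Subgroup G) := inf_le_left
  have hPC := h.le_normalizer_of_nine hC9 P hCP
  haveI : IsMulCommutative C :=
    IsPGroup.isMulCommutative_of_card_eq_prime_sq (p := 3) (by rw [hC9]; norm_num)
  have hHC : ∀ g ∈ H', ∀ x ∈ C, g * x * g⁻¹ ∈ C := by
    intro g hg x hx
    refine ⟨(mem_normalizer_iff.1 (hH'N hg) x).1 hx.1, mem_centralizer_singleton_iff.2 ?_⟩
    have h1 : g⁻¹ * l * g ∈ L := by simpa using hHL g⁻¹ (inv_mem hg) l hl
    rw [hLz] at h1
    obtain ⟨k, hk⟩ := mem_zpowers_iff.1 h1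
    have h2 : Commute x (g⁻¹ * l * g) :=
      hk ▸ (show Commute x l from mem_centralizer_singleton_iff.1 hx.2).zpow_right k
    calc g * x * g⁻¹ * l = g * (x * (g⁻¹ * l * g)) * g⁻¹ := by group
      _ = g * ((g⁻¹ * l * g) * x) * g⁻¹ := by rw [h2.eq]
      _ = l * (g * x * g⁻¹) := by group
  -- an element fixing `l` and `P / C`
  obtain ⟨x, hxP, hxC⟩ : ∃ x ∈ (P : Subgroup G), x ∉ C := by
    by_contra hall
    push_neg at hall
    have := card_dvd_of_le (hall : (P : Subgroup G) ≤ C)
    rw [h.card_sylow P, hC9] at this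
    norm_num at this
  let K1 : Subgroup H' := (centralizer ({l} : Set G)).subgroupOf H'
  have hK1 : 4 ≤ Nat.card K1 := by
    have h1 := K1.card_mul_index
    have h2 : K1.index ≤ 2 := by
      rw [Subgroup.index]
      refine le_trans (Nat.card_le_card_of_injective (fun q : H' ⧸ K1 =>
        Quotient.liftOn' q (fun g => ((g : G) * l * (g : G)⁻¹ == l : Bool)) ?_) ?_) (by simp)
      · intro a b hab
        rw [QuotientGroup.leftRel_apply, mem_subgroupOf, mem_centralizer_singleton_iff] at hab
        have e : (a : G) * l * (a : G)⁻¹ = (b : G) * l * (b : G)⁻¹ := by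
          push_cast at hab
          calc (a : G) * l * (a : G)⁻¹
              = (a : G) * (l * ((a : G)⁻¹ * b)) * (b : G)⁻¹ := by group
            _ = (a : G) * (((a : G)⁻¹ * b) * l) * (b : G)⁻¹ := by rw [hab]
            _ = (b : G) * l * (b : G)⁻¹ := by group
        rw [e]
      · intro q r
        induction q using QuotientGroup.induction_on with
        | H a =>
          induction r using QuotientGroup.induction_on with
          | H b =>
            intro e
            have e' : ((a : G) * l * (a : G)⁻¹ == l) = ((b : G) * l * (b : G)⁻¹ == l) := e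
            have two : ∀ g : H', (g : G) * l * (g : G)⁻¹ = l ∨ (g : G) * l * (g : G)⁻¹ = l⁻¹ := by
              intro g
              have h3 := hHL g g.2 l hl
              rw [hLz] at h3
              obtain ⟨k, hk⟩ := mem_zpowers_iff.1 h3
              rw [← zpow_mod_orderOf l k] at hk
              have ho : orderOf l = 3 := by rw [← Nat.card_zpowers, ← hLz, hL]
              rw [ho] at hk
              have k0 := Int.emod_nonneg k (show ((3 : ℕ) : ℤ) ≠ 0 by norm_num)
              have k3 := Int.emod_lt_of_pos k (show (0 : ℤ) < ((3 : ℕ) : ℤ) by norm_num)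
              generalize k % ((3 : ℕ) : ℤ) = r at k0 k3 hk
              interval_cases r
              · exfalso
                rw [zpow_zero] at hk
                exact hl1 (by
                  have := hk.symm
                  rw [mul_inv_eq_one] at this
                  simpa using this)
              · exact Or.inl (by rw [← hk, zpow_one])
              · refine Or.inr ?_
                rw [← hk, zpow_two, ← mul_eq_one_iff_eq_inv, ← pow_two, ← pow_succ]
                exact h.pow_three P (hLP hl)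
            have hab : (a : G) * l * (a : G)⁻¹ = (b : G) * l * (b : G)⁻¹ := by
              rcases two a with ha | ha <;> rcases two b with hb | hb <;>
                rw [ha, hb] at e' ⊢ <;> first
                | rfl
                | (simp only [beq_self_eq_true, eq_comm (a := true), beq_iff_eq] at e'; exact e'.symm)
                | (simp only [beq_self_eq_true, beq_iff_eq] at e'; exact e')
            rw [QuotientGroup.eq, mem_subgroupOf, mem_centralizer_singleton_iff]
            push_cast
            calc (a : G)⁻¹ * b * l = (a : G)⁻¹ * ((b : G) * l * (b : G)⁻¹) * b := by group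
              _ = (a : G)⁻¹ * ((a : G) * l * (a : G)⁻¹) * b := by rw [hab]
              _ = l * ((a : G)⁻¹ * b) := by group
    rw [hH'c] at h1
    nlinarith
  -- the action on `P / C`
  have hmodC : ∀ g : H', (g : G) * x * (g : G)⁻¹ * x⁻¹ ∈ C ∨ (g : G) * x * (g : G)⁻¹ * x ∈ C := by
    intro g
    have hy : (g : G) * x * (g : G)⁻¹ ∈ (P : Subgroup G) := (mem_normalizer_iff.1 (hH'N g.2) x).1 hxP
    have hyC : (g : G) * x * (g : G)⁻¹ ∉ C := fun hh => hxC (by
      have := hHC (g : G)⁻¹ (inv_mem g.2) _ hh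
      simpa [mul_assoc] using this)
    haveI : (C.subgroupOf P).Normal := (normal_subgroupOf_iff_le_normalizer hCP).2 hPC
    have hq : Nat.card ((P : Subgroup G) ⧸ C.subgroupOf P) = 3 := by
      have h1 := (C.subgroupOf P).card_mul_index
      rw [Nat.card_congr (subgroupOfEquivOfLe hCP).toEquiv, hC9, h.card_sylow P] at h1
      rw [← Subgroup.index]
      omega
    let X : (P : Subgroup G) ⧸ C.subgroupOf P := QuotientGroup.mk ⟨x, hxP⟩
    let Y : (P : Subgroup G) ⧸ C.subgroupOf P := QuotientGroup.mk ⟨_, hy⟩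
    have hX : X ≠ 1 := fun e => hxC (mem_subgroupOf.1 ((QuotientGroup.eq_one_iff _).1 e))
    have hY : Y ≠ 1 := fun e => hyC (mem_subgroupOf.1 ((QuotientGroup.eq_one_iff _).1 e))
    have hXY : Y * X⁻¹ = 1 ∨ Y * X = 1 := by
      haveI : Fintype ((P : Subgroup G) ⧸ C.subgroupOf P) := Fintype.ofFinite _
      by_contra hno
      push_neg at hno
      have hcard : ({1, X, X⁻¹, Y} : Finset _).card ≤ 3 := by
        have h1 := Finset.card_le_univ ({1, X, X⁻¹, Y} : Finset ((P : Subgroup G) ⧸ C.subgroupOf P))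
        rw [← Nat.card_eq_fintype_card] at h1
        omega
      have hXX : X ≠ X⁻¹ := fun e => hX (by
        have h3 : X ^ 3 = 1 := by
          have h2 := pow_card_eq_one' (x := X)
          simp only [hq] at h2
          exact h2
        rw [pow_succ, pow_two, mul_eq_one_iff_eq_inv.2 e, one_mul] at h3
        exact h3)
      rw [Finset.card_insert_of_notMem, Finset.card_insert_of_notMem, Finset.card_insert_of_notMem,
        Finset.card_singleton] at hcard
      · omega
      · simp only [Finset.mem_singleton]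
        exact fun e => hno.2 (by rw [← e, inv_mul_cancel])
      · simp only [Finset.mem_insert, Finset.mem_singleton, not_or]
        exact ⟨hXX, fun e => hno.1 (by rw [← e, mul_inv_cancel])⟩
      · simp only [Finset.mem_insert, Finset.mem_singleton, not_or]
        exact ⟨hX.symm, fun e => hX (inv_eq_one.1 e.symm), hY.symm⟩
    exact hXY.imp (fun e => mem_subgroupOf.1 ((QuotientGroup.eq_one_iff
        (⟨_, hy⟩ * ⟨x, hxP⟩⁻¹ : (P : Subgroup G))).1 e))
      (fun e => mem_subgroupOf.1 ((QuotientGroup.eq_one_iff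
        (⟨_, hy⟩ * ⟨x, hxP⟩ : (P : Subgroup G))).1 e))
  obtain ⟨u, hu1, huK, hux⟩ : ∃ u : H', u ≠ 1 ∧ (u : G) * l = l * u ∧
      (u : G) * x * (u : G)⁻¹ * x⁻¹ ∈ C := by
    have hmem : ∀ g : H', g ∈ K1 → (g : G) * l = l * g := fun g hg =>
      mem_centralizer_singleton_iff.1 (mem_subgroupOf.1 hg)
    haveI := Fintype.ofFinite K1
    obtain ⟨a, b, ha, hb, hab⟩ : ∃ a b : K1, a ≠ 1 ∧ b ≠ 1 ∧ a ≠ b := by
      obtain ⟨a, -, ha⟩ : ∃ a ∈ (Finset.univ : Finset K1), a ≠ 1 :=
        Finset.exists_mem_ne (by rw [Finset.card_univ, ← Nat.card_eq_fintype_card]; omega) 1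
      obtain ⟨b, hb⟩ : ∃ b : K1, b ≠ 1 ∧ b ≠ a := by
        by_contra! hno
        have hsub : (Finset.univ : Finset K1) ⊆ {1, a} := fun b _ => by
          by_cases hb : b = 1
          · simp [hb]
          · simp [hno b hb]
        have := (Finset.card_le_card hsub).trans Finset.card_le_two
        rw [Finset.card_univ, ← Nat.card_eq_fintype_card] at this
        omega
      exact ⟨a, b, ha, hb.1, hb.2.symm⟩
    rcases hmodC a with h1 | h1
    · exact ⟨a, fun e => ha (Subtype.ext e), hmem _ a.2, h1⟩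
    rcases hmodC b with h2 | h2
    · exact ⟨b, fun e => hb (Subtype.ext e), hmem _ b.2, h2⟩
    refine ⟨(a : H')⁻¹ * b, fun e => hab (Subtype.ext (inv_mul_eq_one.1 e)),
      hmem _ (mul_mem (inv_mem a.2) b.2), ?_⟩
    push_cast
    have h3 := hHC _ (inv_mem (a : H').2) _ (mul_mem (inv_mem h1) (inv_mem (inv_mem h2)))
    have h4 : ((a : H') : G)⁻¹ * ((((a : H') : G) * x * ((a : H') : G)⁻¹ * x)⁻¹ *
        ((((b : H') : G) * x * ((b : H') : G)⁻¹ * x)⁻¹)⁻¹) * (((a : H') : G)⁻¹)⁻¹ =
        (((a : H') : G)⁻¹ * x⁻¹ * ((a : H') : G)) * x⁻¹ *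
          (((a : H') : G)⁻¹ * ((b : H') : G) * x * ((b : H') : G)⁻¹ * ((a : H') : G)) *
          (((a : H') : G)⁻¹ * x * ((a : H') : G)) := by group
    rw [h4] at h3
    -- conjugate back by `w = a⁻¹ x a`
    set w := ((a : H') : G)⁻¹ * x * ((a : H') : G) with hw
    have hwP : w ∈ (P : Subgroup G) := by
      have := (mem_normalizer_iff.1 (inv_mem (hH'N (a : H').2)) x).1 hxP
      simpa [hw] using this
    have h5 := (mem_normalizer_iff.1 (hPC hwP) _).1 h3
    have hwx : w * x ∈ C := by
      have e := hHC _ (inv_mem (a : H').2) _ h1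
      have e2 : ((a : H') : G)⁻¹ * (((a : H') : G) * x * ((a : H') : G)⁻¹ * x) *
          (((a : H') : G)⁻¹)⁻¹ = x * w := by rw [hw]; group
      rw [e2] at e
      have e3 := (mem_normalizer_iff''.1 (hPC hxP) _).1 e
      simpa [mul_assoc] using e3
    set v := ((a : H') : G)⁻¹ * ((b : H') : G) * x * ((b : H') : G)⁻¹ * ((a : H') : G) with hv
    have e6 : ((a : H') : G)⁻¹ * ((b : H') : G) * x * (((a : H') : G)⁻¹ * ((b : H') : G))⁻¹ = v := by
      rw [hv]; group
    rw [e6]
    have e7 : w * ((((a : H') : G)⁻¹ * x⁻¹ * ((a : H') : G)) * x⁻¹ * v * w) * w⁻¹ = x⁻¹ * v := by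
      rw [hw]; group
    rw [e7] at h5
    have h6 := (mem_normalizer_iff.1 (hPC hxP) _).1 h5
    simpa [mul_assoc] using h6
  -- it centralizes `C`
  have huN : (u : G) ∈ NP P := hH'N u.2
  have hcC : ∀ y ∈ C, (u : G) * y = y * u := by
    have hstab : ∀ y ∈ C, (u : G) * y * (u : G)⁻¹ ∈ C := hHC u u.2
    set m := x * l * x⁻¹ * l⁻¹ with hm
    have hmC : m ∈ C := by
      have := (mem_normalizer_iff.1 (hPC hxP) l).1 ⟨hLP hl, mem_centralizer_singleton_iff.2 rfl⟩
      exact mul_mem this (inv_mem ⟨hLP hl, mem_centralizer_singleton_iff.2 rfl⟩)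
    set d := (u : G) * x * (u : G)⁻¹ * x⁻¹ with hd
    have hum : (u : G) * m = m * u := by
      have hdl : Commute d l := mem_centralizer_singleton_iff.1 hux.2
      have hul : (u : G) * l * (u : G)⁻¹ = l := by rw [huK, mul_inv_cancel_right]
      have hxlC : x * l * x⁻¹ ∈ C :=
        (mem_normalizer_iff.1 (hPC hxP) l).1 ⟨hLP hl, mem_centralizer_singleton_iff.2 rfl⟩
      have hdx : Commute d (x * l * x⁻¹) :=
        congrArg Subtype.val (mul_comm' (⟨d, hux⟩ : C) ⟨_, hxlC⟩)
      have e : (u : G) * m * (u : G)⁻¹ = m := by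
        calc (u : G) * m * (u : G)⁻¹
            = ((u : G) * x * (u : G)⁻¹) * ((u : G) * l * (u : G)⁻¹) *
              ((u : G) * x * (u : G)⁻¹)⁻¹ * ((u : G) * l * (u : G)⁻¹)⁻¹ := by rw [hm]; group
          _ = (d * x) * l * (d * x)⁻¹ * l⁻¹ := by rw [hul, hd]; group
          _ = d * (x * l * x⁻¹) * d⁻¹ * l⁻¹ := by group
          _ = m := by rw [hdx.eq, mul_inv_cancel_right, hm]
      exact mul_inv_eq_iff_eq_mul.1 e
    have hml : ¬ m ∈ zpowers l := by
      intro hmem
      -- then `x` normalises `⟨l⟩` and so centralises it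
      have hxl : x * l * x⁻¹ ∈ zpowers l := by
        have := mul_mem hmem (mem_zpowers l)
        simpa [hm, mul_assoc] using this
      have ho : orderOf l = 3 := by rw [← Nat.card_zpowers, ← hLz, hL]
      obtain ⟨k, hk⟩ := mem_zpowers_iff.1 hxl
      rw [← zpow_mod_orderOf l k, ho] at hk
      have k0 := Int.emod_nonneg k (show ((3 : ℕ) : ℤ) ≠ 0 by norm_num)
      have k3 := Int.emod_lt_of_pos k (show (0 : ℤ) < ((3 : ℕ) : ℤ) by norm_num)
      generalize k % ((3 : ℕ) : ℤ) = r at k0 k3 hk
      interval_cases r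
      · rw [zpow_zero] at hk
        exact hl1 (by simpa using (mul_inv_eq_one.1 hk.symm))
      · rw [zpow_one] at hk
        exact hxC ⟨hxP, mem_centralizer_singleton_iff.2 (mul_inv_eq_iff_eq_mul.1 hk.symm)⟩
      · have h2 : x * l * x⁻¹ = l⁻¹ := by
          rw [← hk, zpow_two, ← mul_eq_one_iff_eq_inv, ← pow_two, ← pow_succ]
          exact h.pow_three P (hLP hl)
        have h3 : l = l⁻¹ := by
          calc l = x ^ 3 * l * (x ^ 3)⁻¹ := by rw [h.pow_three P hxP]; group
            _ = x * (x * (x * l * x⁻¹) * x⁻¹) * x⁻¹ := by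
              simp only [pow_succ, pow_zero, one_mul, mul_inv_rev, mul_assoc]
            _ = x * (x * l⁻¹ * x⁻¹) * x⁻¹ := by rw [h2]
            _ = x * (x * l * x⁻¹)⁻¹ * x⁻¹ := by group
            _ = x * l * x⁻¹ := by conv_lhs => rw [h2, inv_inv]
            _ = l⁻¹ := h2
        have h4 : orderOf l ∣ 2 :=
          orderOf_dvd_of_pow_eq_one (by rw [pow_two]; exact mul_eq_one_iff_eq_inv.2 h3)
        rw [ho] at h4
        norm_num at h4
    have hfixC : C ≤ centralizer ({(u : G)} : Set G) := by
      have hgen : zpowers l ⊔ zpowers m = C := by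
        have hlC : l ∈ C := ⟨hLP hl, mem_centralizer_singleton_iff.2 rfl⟩
        refine eq_of_le_of_card_ge (sup_le (zpowers_le.2 hlC) (zpowers_le.2 hmC)) ?_
        have h1 : Nat.card (zpowers l ⊔ zpowers m : Subgroup G) ∣ 3 ^ 2 := by
          refine (card_dvd_of_le (sup_le (zpowers_le.2 hlC) (zpowers_le.2 hmC))).trans ?_
          rw [hC9]; norm_num
        obtain ⟨i, hi, hi'⟩ := (Nat.dvd_prime_pow Nat.prime_three).1 h1
        rw [hC9]
        change 9 ≤ Nat.card (zpowers l ⊔ zpowers m : Subgroup G)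
        rw [hi']
        interval_cases i
        · have := card_dvd_of_le (le_sup_left : zpowers l ≤ zpowers l ⊔ zpowers m)
          rw [hi', ← hLz, hL] at this
          norm_num at this
        · have e1 : zpowers l = zpowers l ⊔ zpowers m := eq_of_le_of_card_ge le_sup_left (by
            rw [hi', ← hLz, hL]; norm_num)
          exact absurd (e1.ge (mem_sup_right (mem_zpowers m))) hml
        · norm_num
      rw [← hgen]
      exact sup_le (zpowers_le.2 (mem_centralizer_singleton_iff.2 huK.symm))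
        (zpowers_le.2 (mem_centralizer_singleton_iff.2 hum.symm))
    intro y hy
    exact (mem_centralizer_singleton_iff.1 (hfixC hy)).symm
  -- it centralizes `P`
  set d := (u : G) * x * (u : G)⁻¹ * x⁻¹ with hd
  have hpow : ∀ k : ℕ, (u : G) ^ k * x * ((u : G) ^ k)⁻¹ = d ^ k * x := by
    intro k
    induction k with
    | zero => simp
    | succ k ih =>
      have hud : Commute (u : G) (d ^ k) := Commute.pow_right (hcC d hux) k
      calc (u : G) ^ (k + 1) * x * ((u : G) ^ (k + 1))⁻¹
          = (u : G) * ((u : G) ^ k * x * ((u : G) ^ k)⁻¹) * (u : G)⁻¹ := by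
            rw [pow_succ' (u : G) k]; group
        _ = (u : G) * d ^ k * x * (u : G)⁻¹ := by rw [ih]; group
        _ = d ^ k * ((u : G) * x * (u : G)⁻¹) := by rw [hud.eq]; group
        _ = d ^ (k + 1) * x := by rw [pow_succ, hd]; group
  have hd1 : d = 1 := by
    have h8 : (u : G) ^ 8 = 1 := by
      have : orderOf (u : G) ∣ 8 := by
        have h1 := orderOf_dvd_card_of_mem u.2
        rwa [hH'c] at h1
      exact orderOf_dvd_iff_pow_eq_one.1 this
    have h9 := hpow 8
    rw [h8, one_mul, inv_one, mul_one] at h9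
    have h10 : d ^ 8 = 1 := mul_eq_right.1 h9.symm
    have h11 : d ^ 3 = 1 := h.pow_three P (hCP hux)
    calc d = d ^ 9 * (d ^ 8)⁻¹ := by group
      _ = 1 := by rw [h10, show d ^ 9 = (d ^ 3) ^ 3 by rw [← pow_mul], h11]; simp
  have huP : (u : G) ∈ centralizer ((P : Subgroup G) : Set G) := by
    have hgenP : C ⊔ zpowers x = (P : Subgroup G) := by
      refine eq_of_le_of_card_ge (sup_le hCP (zpowers_le.2 hxP)) ?_
      have h1 : Nat.card (C ⊔ zpowers x : Subgroup G) ∣ 3 ^ 3 :=
        (card_dvd_of_le (sup_le hCP (zpowers_le.2 hxP))).trans (dvd_of_eq (h.card_sylow P))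
      obtain ⟨i, hi, hi'⟩ := (Nat.dvd_prime_pow Nat.prime_three).1 h1
      rw [h.card_sylow P, hi']
      by_contra hlt
      have : 3 ^ i ≤ 9 := by
        by_contra hh
        have : i = 3 := by
          by_contra
          have : 3 ^ i ≤ 3 ^ 2 := Nat.pow_le_pow_right (by norm_num) (by omega)
          omega
        subst this
        omega
      have e1 : C = C ⊔ zpowers x :=
        eq_of_le_of_card_ge le_sup_left (by rw [hC9, hi']; exact this)
      exact hxC (e1.ge (mem_sup_right (mem_zpowers x)))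
    rw [← SetLike.mem_coe, ← hgenP]
    rw [SetLike.mem_coe, mem_centralizer_iff]
    have hsup : C ⊔ zpowers x ≤ centralizer ({(u : G)} : Set G) := by
      refine sup_le (fun y hy => mem_centralizer_singleton_iff.2 (hcC y hy).symm)
        (zpowers_le.2 (mem_centralizer_singleton_iff.2 ?_))
      have h12 := hpow 1
      rw [pow_one, pow_one, hd1, one_mul] at h12
      exact (mul_inv_eq_iff_eq_mul.1 h12).symm
    exact fun y hy => mem_centralizer_singleton_iff.1 (hsup hy)
  have h3' := h.centralizer_le hnc P huP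
  have hu8 : orderOf (u : G) ∣ Nat.gcd 8 3 := Nat.dvd_gcd (by
    have h1 := orderOf_dvd_card_of_mem u.2
    rwa [hH'c] at h1) (orderOf_dvd_of_pow_eq_one (h.pow_three P h3'))
  exact hu1 (Subtype.ext (orderOf_eq_one_iff.1 (Nat.dvd_one.1 (hu8.trans (by norm_num)))))

/-- A point stabiliser's Sylow 3-subgroup is regular on the other points. -/
theorem regular (P Q : Sylow 3 G) (hQ : Q ≠ P) :
    Function.Injective (fun x : (P : Subgroup G) => (x : G) • Q) := by
  intro a b e
  have e' : (a : G) • Q = (b : G) • Q := e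
  have h1 : ((b : G)⁻¹ * a) • Q = Q := by rw [mul_smul, e', ← mul_smul, inv_mul_cancel, one_smul]
  have h2 : (b : G)⁻¹ * a ∈ (P : Subgroup G) ⊓ NP Q :=
    ⟨Subgroup.mul_mem _ (Subgroup.inv_mem _ b.2) a.2, Sylow.smul_eq_iff_mem_normalizer.1 h1⟩
  have h3 : (b : G)⁻¹ * a ∈ (P : Subgroup G) ⊓ Q := (IsPGroup.inf_normalizer_sylow P.2 Q).le h2
  rw [eq_bot_of_card_eq _ (h.inter_one hnc P Q hQ), mem_bot, inv_mul_eq_one] at h3
  exact Subtype.ext h3.symm

theorem exists_point {P Q S : Sylow 3 G} (hQ : Q ≠ P) (hS : S ≠ P) :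
    ∃ x ∈ (P : Subgroup G), x • Q = S := by
  have hne : ∀ x : (P : Subgroup G), (x : G) • Q ≠ P := fun x e => hQ (smul_left_cancel (x : G)
    (e.trans (Sylow.smul_eq_iff_mem_normalizer.2 (le_normalizer (H := (P : Subgroup G)) x.2)).symm))
  have hinj : Function.Injective
      (fun x : (P : Subgroup G) => (⟨(x : G) • Q, hne x⟩ : {S : Sylow 3 G // S ≠ P})) :=
    fun a b e => h.regular hnc P Q hQ (congrArg (fun t : {S : Sylow 3 G // S ≠ P} => t.1) e)
  obtain ⟨x, hx⟩ := (hinj.bijective_of_nat_card_le (by rw [h.count hnc P, h.card_sylow P])).2 ⟨S, hS⟩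
  exact ⟨x, x.2, congrArg (fun t : {S : Sylow 3 G // S ≠ P} => t.1) hx⟩

/-- The two-point stabiliser has order 8. -/
theorem stab_card (P Q : Sylow 3 G) (hQ : Q ≠ P) :
    Nat.card (NP P ⊓ NP Q : Subgroup G) = 8 := by
  have horb : Nat.card (orbit (NP P) Q) = 27 := by
    refine le_antisymm ?_ ?_
    · rw [← h.count hnc P]
      refine Nat.card_le_card_of_injective (fun S : orbit (NP P) Q =>
        (⟨S.1, ?_⟩ : {S : Sylow 3 G // S ≠ P})) (fun a b e =>
          Subtype.ext (congrArg (fun t : {S : Sylow 3 G // S ≠ P} => t.1) e))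
      obtain ⟨g, hg⟩ := S.2
      rw [← hg]
      exact fun e => hQ (smul_left_cancel (g : G)
        (e.trans (Sylow.smul_eq_iff_mem_normalizer.2 g.2).symm))
    · rw [← h.card_sylow P]
      exact Nat.card_le_card_of_injective (fun x : (P : Subgroup G) =>
        (⟨(x : G) • Q, ⟨⟨x, le_normalizer (H := (P : Subgroup G)) x.2⟩, rfl⟩⟩ : orbit (NP P) Q))
        fun a b e => h.regular hnc P Q hQ (congrArg Subtype.val e)
  have h1 := index_stabilizer_mul (M := NP P) Q
  rw [horb, h.normalizer_card hnc P] at h1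
  have e : stabilizer (NP P) Q = (NP P ⊓ NP Q).subgroupOf (NP P) := by
    ext g
    rw [mem_stabilizer_iff, mem_subgroupOf]
    exact Iff.trans (Sylow.smul_eq_iff_mem_normalizer (g := (g : G)))
      ⟨fun h => ⟨g.2, h⟩, fun h => h.2⟩
  rw [e, Nat.card_congr (subgroupOfEquivOfLe inf_le_left).toEquiv] at h1
  omega

/-- An involution of a two-point stabiliser fixes exactly three elements of `P`. -/
theorem fixed_card (P Q : Sylow 3 G) (hQ : Q ≠ P) {u : G} (hu : orderOf u = 2)
    (huP : u ∈ NP P) (huQ : u ∈ NP Q) :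
    Nat.card ((P : Subgroup G) ⊓ centralizer ({u} : Set G) : Subgroup G) = 3 := by
  classical
  haveI := Fintype.ofFinite (Sylow 3 G)
  set σ := MulAction.toPermHom G (Sylow 3 G) u with hσ
  have hσ2 : σ ^ 2 = 1 := by rw [hσ, ← map_pow, ← hu, pow_orderOf_eq_one, map_one]
  have huP' : u • P = P := Sylow.smul_eq_iff_mem_normalizer.2 huP
  have huQ' : u • Q = Q := Sylow.smul_eq_iff_mem_normalizer.2 huQ
  set C := (P : Subgroup G) ⊓ centralizer ({u} : Set G) with hC
  have hmove : ∀ x ∈ (P : Subgroup G), u • (x • Q) = x • Q ↔ x ∈ centralizer ({u} : Set G) := by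
    intro x hx
    rw [mem_centralizer_singleton_iff]
    have hux : u * x * u⁻¹ ∈ (P : Subgroup G) := (mem_normalizer_iff.1 huP x).1 hx
    have e1 : u • (x • Q) = (u * x * u⁻¹) • Q := by
      rw [mul_smul, mul_smul]
      congr 2
      exact (inv_smul_eq_iff.2 huQ'.symm).symm
    rw [e1]
    constructor
    · intro e
      have h2 : u * x * u⁻¹ = x :=
        congrArg Subtype.val (h.regular hnc P Q hQ (a₁ := ⟨_, hux⟩) (a₂ := ⟨x, hx⟩) e)
      exact (mul_inv_eq_iff_eq_mul.1 h2).symm
    · intro e
      rw [show u * x * u⁻¹ = x by rw [← e, mul_inv_cancel_right]]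
  have hneP : ∀ x ∈ (P : Subgroup G), x • Q ≠ P := fun x hx e => hQ (smul_left_cancel x
    (e.trans (Sylow.smul_eq_iff_mem_normalizer.2 (le_normalizer (H := (P : Subgroup G)) hx)).symm))
  have hfix : Fintype.card (Function.fixedPoints σ) = Nat.card C + 1 := by
    have e2 : Nat.card C = Nat.card {S : Sylow 3 G // u • S = S ∧ S ≠ P} := by
      refine Nat.card_congr (Equiv.ofBijective
        (fun x : C => ⟨(x : G) • Q, (hmove x x.2.1).2 x.2.2, hneP x x.2.1⟩) ⟨fun a b e => ?_, ?_⟩)
      · exact Subtype.ext (congrArg (fun t : (P : Subgroup G) => (t : G))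
          (h.regular hnc P Q hQ (a₁ := ⟨a, a.2.1⟩) (a₂ := ⟨b, b.2.1⟩) (congrArg Subtype.val e)))
      · rintro ⟨S, hS, hSP⟩
        obtain ⟨x, hx, rfl⟩ := h.exists_point hnc hQ hSP
        exact ⟨⟨x, hx, (hmove x hx).1 hS⟩, rfl⟩
    rw [← Nat.card_eq_fintype_card, e2]
    show _ = Nat.card {S : Sylow 3 G | u • S = S ∧ S ≠ P} + 1
    rw [Nat.card_coe_set_eq, Nat.card_coe_set_eq, ← Set.ncard_insert_of_notMem (a := P) (by simp)]
    congr 1
    ext S
    by_cases hS : S = P
    · subst hS; simp [Function.IsFixedPt, hσ, huP']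
    · simp [Function.IsFixedPt, hσ, hS]
  have hs := h.sign_eq_one hnc u
  rw [← hσ, Equiv.Perm.sign_of_pow_two_eq_one hσ2] at hs
  have h28 : Fintype.card (Sylow 3 G) = 28 := by
    rw [← Nat.card_eq_fintype_card]; exact (h.sylow_facts hnc P).2.1
  have heven : Even ((28 - (Nat.card C + 1)) / 2) := by
    rw [hfix, h28] at hs
    rcases Nat.even_or_odd ((28 - (Nat.card C + 1)) / 2) with e | e
    · exact e
    · rw [e.neg_one_pow] at hs
      exact absurd hs (by decide)
  have hd : Nat.card C ∣ 3 ^ 3 := (card_dvd_of_le inf_le_left).trans (dvd_of_eq (h.card_sylow P))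
  obtain ⟨i, hi, hi'⟩ := (Nat.dvd_prime_pow Nat.prime_three).1 hd
  rw [hi'] at heven ⊢
  interval_cases i
  · norm_num [Nat.even_iff] at heven
  · norm_num
  · norm_num [Nat.even_iff] at heven
  · have e : C = (P : Subgroup G) := eq_of_le_of_card_ge inf_le_left (by
      rw [hi', h.card_sylow P]; norm_num)
    exact (h.no_cent hnc hu (mem_centralizer_iff.2 fun x hx =>
      mem_centralizer_singleton_iff.1 (e.ge hx).2)).elim

end Hyp

end CfsgLib.G2Recog
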