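import Mathlib
import Cfsg.Agent.G2TwoRecog.Data

/-!
# The search for the involution exchanging two points

A doubly transitive group of degree 28 and order 6048 has a point stabiliser which is a group of
order 27 extended by a group of order 8. In coordinates the 27 other points are the numbers below
27 and the fixed point is 27. An involution exchanging 27 and 0 is, up to two possibilities,
impossible in seven of the eight cases; the refutation trees of `Data` show this.
-/

set_option autoImplicit false

namespace CfsgLib.G2Recog

/-- All numbers below `n` satisfy `f`. -/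
def allB : Nat → (Nat → Bool) → Bool
  | 0, _ => true
  | n + 1, f => f n && allB n f

/-- Some number below `n` satisfies `f`. -/
def anyB : Nat → (Nat → Bool) → Bool
  | 0, _ => false
  | n + 1, f => f n || anyB n f

theorem allB_iff {f : Nat → Bool} : ∀ {n : Nat}, allB n f = true ↔ ∀ i, i < n → f i = true
  | 0 => by simp [allB]
  | n + 1 => by
    rw [allB, Bool.and_eq_true, allB_iff]
    exact ⟨fun h i hi => (Nat.lt_succ_iff_lt_or_eq.1 hi).elim (h.2 i) fun e => e ▸ h.1,
      fun h => ⟨h n (by omega), fun i hi => h i (by omega)⟩⟩

theorem anyB_iff {f : Nat → Bool} : ∀ {n : Nat}, anyB n f = true ↔ ∃ i, i < n ∧ f i = true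
  | 0 => by simp [anyB]
  | n + 1 => by
    rw [anyB, Bool.or_eq_true, anyB_iff]
    constructor
    · rintro (h | ⟨i, hi, h⟩)
      · exact ⟨n, by omega, h⟩
      · exact ⟨i, by omega, h⟩
    · rintro ⟨i, hi, h⟩
      rcases Nat.lt_succ_iff_lt_or_eq.1 hi with hi | rfl
      · exact Or.inr ⟨i, hi, h⟩
      · exact Or.inl h

/-- The number of the point with coordinates `a, b, c`. -/
def pc (a b c : Nat) : Nat := a + 3 * b + 9 * c

/-- The product in the group of order 27 of kind `e`. -/
def mulP (e p q : Nat) : Nat :=
  pc ((p % 3 + q % 3) % 3) ((p / 3 % 3 + q / 3 % 3) % 3)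
    ((p / 9 + q / 9 + e * 2 * ((p % 3) * (q / 3 % 3) + 2 * ((q % 3) * (p / 3 % 3)))) % 3)

/-- The inverse in the group of order 27. -/
def invP (p : Nat) : Nat := pc ((3 - p % 3) % 3) ((3 - p / 3 % 3) % 3) ((3 - p / 9) % 3)

/-- The translations, fixing the point 27. -/
def T (e u x : Nat) : Nat := if x < 27 then mulP e u x else x

/-- The automorphism given by a matrix code `a + 3 b + 9 c + 27 d + 81 det`. -/
def sigA (m x : Nat) : Nat :=
  if x < 27 then
    pc ((m % 3 * (x % 3) + m / 3 % 3 * (x / 3 % 3)) % 3)
      ((m / 9 % 3 * (x % 3) + m / 27 % 3 * (x / 3 % 3)) % 3) (m / 81 * (x / 9) % 3)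
  else x

/-- The matrix codes of the elements of the five subgroups of order 8. -/
def mats : List Nat :=
  [109, 201, 148, 187, 137, 240, 134, 176, 109, 226, 148, 197, 137, 209, 134, 220, 109, 160,
    148, 102, 137, 122, 134, 96, 109, 120, 148, 106, 137, 159, 134, 95, 109, 241, 148, 183, 137,
    203, 134, 177]

/-- The kind of the group of order 27 in a case. -/
def kind (c : Nat) : Nat := if c < 6 then c / 3 else 0

/-- The row of a case in the table of matrix codes. -/
def row (c : Nat) : Nat := if c < 6 then c % 3 else c - 3

/-- The elements of the two-point stabiliser in a case. -/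
def hs (c k x : Nat) : Nat := sigA (mats.getD (8 * row c + k) 0) x

/-- Two maps agree on the 28 points. -/
def eqP (f g : Nat → Nat) : Bool := allB 28 fun x => f x == g x

theorem eqP_iff {f g : Nat → Nat} : eqP f g = true ↔ ∀ x, x < 28 → f x = g x := by
  simp [eqP, allB_iff]

/-- The image of the `k`-th element, when the generators go to the `i`-th and `j`-th ones. -/
def img (c i j k x : Nat) : Nat :=
  let y := if k % 2 == 0 then x else hs c i x
  match k / 2 with
  | 0 => y
  | 1 => hs c j y
  | 2 => hs c j (hs c j y)
  | _ => hs c j (hs c j (hs c j y))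

/-- The pair of images is not that of an involutory automorphism. -/
def badPair (c i j : Nat) : Bool :=
  anyB 8 (fun m =>
    anyB 8 (fun k =>
      (eqP (hs c m) (fun x => hs c k (hs c 1 x)) && !eqP (img c i j m) (fun x => img c i j k (hs c i x))) ||
      (eqP (hs c m) (fun x => hs c k (hs c 2 x)) && !eqP (img c i j m) (fun x => img c i j k (hs c j x))))) ||
    !eqP (img c i j i) (hs c 1) || !eqP (img c i j j) (hs c 2)

/-- The entry of a table at `x`: zero if unknown, one more than the value otherwise. -/
def get (w x : Nat) : Nat := (w >>> (5 * x)) &&& 31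

/-- Write a value at an unknown entry. -/
def setE (w x v : Nat) : Nat := w ||| ((v + 1) <<< (5 * x))

/-- Record values and close up under the two generators. -/
def put (c i j : Nat) : Nat → Nat → List (Nat × Nat) → Option Nat
  | 0, w, _ => some w
  | _ + 1, w, [] => some w
  | n + 1, w, (x, y) :: r =>
    if get w x == 0 then
      let w1 := setE w x y
      if get w1 y == 0 then
        put c i j n (setE w1 y x)
          ((hs c 1 x, hs c i y) :: (hs c 2 x, hs c j y) :: (hs c 1 y, hs c i x) ::
            (hs c 2 y, hs c j x) :: r)
      else if get w1 y == x + 1 then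
        put c i j n w1
          ((hs c 1 x, hs c i y) :: (hs c 2 x, hs c j y) :: (hs c 1 y, hs c i x) ::
            (hs c 2 y, hs c j x) :: r)
      else none
    else if get w x == y + 1 then put c i j n w r else none

/-- One more than the value of the composite map at `x`, zero if unknown. -/
def comp3 (c w u a x : Nat) : Nat :=
  let y := get w x
  if y == 0 then 0 else
    let z := get w (T (kind c) u (y - 1))
    if z == 0 then 0 else get w (T (kind c) (invP a) (z - 1))

/-- Some listed point separates the composite from a given affine map. -/
def sepB (c w u a b k : Nat) : Nat → Nat → Bool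
  | 0, _ => false
  | n + 1, s =>
    (decide (s % 32 < 28) && !(comp3 c w u a (s % 32) == 0) &&
      !(comp3 c w u a (s % 32) == T (kind c) b (hs c k (s % 32)) + 1)) ||
      sepB c w u a b k n (s / 32)

/-- A leaf shows that the composite map is not affine. -/
def leafOK (c w u n s : Nat) : Bool :=
  decide (1 ≤ u) && decide (u < 27) && !(get w u == 0) &&
    (let a := get w u - 1
     let b := comp3 c w u a 0
     !(b == 0) && (b == 28 || allB 8 fun k => sepB c w u a (b - 1) k n s))

/-- Iterate a stream consumer. -/
def foldS (f : Nat → Nat → Option Nat) : Nat → Nat → Option Nat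
  | 0, s => some s
  | n + 1, s => (foldS f n s).bind (f (n + 1))

/-- The entries of a table are those of a solution. -/
def isSol (c w : Nat) : Bool :=
  c == 3 && ((allB 28 fun x => get w x == get sol1 x && !(get w x == 0)) ||
    (allB 28 fun x => get w x == get sol2 x && !(get w x == 0)))

/-- Check a refutation tree and return the rest of the stream. -/
def check (c i j : Nat) : Nat → Nat → Nat → Option Nat
  | 0, _, _ => none
  | n + 1, w, s =>
    if s % 32 == 0 then
      if leafOK c w (s / 32 % 32) (s / 1024 % 32) (s / 32768) then
        some (s >>> (5 * (3 + s / 1024 % 32)))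
      else none
    else if s % 32 == 1 then
      if decide (1 ≤ s / 32 % 32) && decide (s / 32 % 32 < 27) then
        foldS (fun q t => match put c i j 200 w [(s / 32 % 32, q)] with
          | none => some t
          | some w' => check c i j n w' t) 26 (s / 1024)
      else none
    else if isSol c w then some (s / 32) else none

/-- The table knowing only the exchange of 27 and 0. -/
def w0 : Nat := setE (setE 0 0 27) 27 0

/-- The stream of a case and pair. -/
def certOf (m : Nat) : Nat := ((certs.find? fun p => p.1 == m).map Prod.snd).getD 0

/-- The whole search in one case. -/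
def caseOK (c : Nat) : Bool :=
  allB 64 fun m => badPair c (m / 8) (m % 8) ||
    (check c (m / 8) (m % 8) 30 w0 (certOf (64 * c + m))).isSome

end CfsgLib.G2Recog
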