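import Cfsg.Agent.G2TwoRecog.Search

/-!
# Soundness of the search

If a map of the 28 points has the properties of an involution of a doubly transitive group
exchanging the points 27 and 0, then it is one of the two stored solutions and the case is the
fourth one.
-/

set_option autoImplicit false
set_option maxRecDepth 10000

namespace CfsgLib.G2Recog

theorem hs_lt : ∀ c, c < 8 → ∀ k, k < 8 → ∀ x, x < 28 → hs c k x < 28 := by decide +kernel

theorem T_lt : ∀ e, e < 2 → ∀ u, u < 28 → ∀ x, x < 28 → T e u x < 28 := by decide +kernel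

theorem invP_lt : ∀ a, a < 27 → invP a < 27 := by decide +kernel

theorem hs_zero : ∀ c, c < 8 → ∀ k, k < 8 → hs c k 0 = 0 := by decide +kernel

theorem T_zero : ∀ e, e < 2 → ∀ b, b < 27 → T e b 0 = b := by decide +kernel

theorem hs_decomp : ∀ c, c < 8 → ∀ k, k < 8 → ∀ x, x < 28 → img c 1 2 k x = hs c k x := by
  decide +kernel

theorem case_all : ∀ c, c < 8 → caseOK c = true := by
  intro c hc
  interval_cases c
  · decide +kernel
  · decide +kernel
  · decide +kernel
  · decide +kernel
  · decide +kernel
  · decide +kernel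
  · decide +kernel
  · decide +kernel

theorem kind_lt {c : Nat} (hc : c < 8) : kind c < 2 := by unfold kind; split <;> omega

/-- The properties of the involution. -/
structure IsW (c : Nat) (W : Nat → Nat) : Prop where
  lt : ∀ x, x < 28 → W x < 28
  invol : ∀ x, x < 28 → W (W x) = x
  top : W 27 = 0
  norm : ∀ k, k < 8 → ∃ j, j < 8 ∧ ∀ x, x < 28 → W (hs c k (W x)) = hs c j x
  trans : ∀ u, 1 ≤ u → u < 27 → ∃ b j, b < 27 ∧ j < 8 ∧ ∀ x, x < 28 →
    W (T (kind c) (invP (W u)) (W (T (kind c) u (W x)))) = T (kind c) b (hs c j x)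

/-- A table is correct about a map. -/
def Rep (w : Nat) (W : Nat → Nat) : Prop := ∀ x, x < 28 → get w x ≠ 0 → get w x = W x + 1

variable {c : Nat} {W : Nat → Nat}

theorem get_or (w z x : Nat) : get (w ||| z) x = get w x ||| get z x := by
  simp only [get, Nat.shiftRight_or_distrib, Nat.and_or_distrib_right]

theorem get_shift : ∀ x, x < 28 → ∀ v, v < 28 → ∀ i, i < 28 →
    get ((v + 1) <<< (5 * x)) i = if i = x then v + 1 else 0 := by decide +kernel

theorem rep_setE {w x v : Nat} (hw : Rep w W) (hx : x < 28) (hv : v < 28) (h0 : get w x = 0)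
    (hWx : W x = v) : Rep (setE w x v) W := by
  intro i hi hne
  rw [setE, get_or, get_shift x hx v hv i hi] at hne ⊢
  by_cases h : i = x
  · subst h
    rw [if_pos rfl, h0, Nat.zero_or, hWx]
  · rw [if_neg h, Nat.or_zero] at hne ⊢
    exact hw i hi hne

theorem rep_w0 (h : IsW c W) : Rep w0 W := by
  have h0 : W 0 = 27 := by
    have := h.invol 27 (by norm_num)
    rwa [h.top] at this
  refine rep_setE (rep_setE (fun i hi hne => ?_) (by norm_num) (by norm_num) ?_ h0)
    (by norm_num) (by norm_num) (by decide +kernel) h.top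
  · exact absurd (by simp [get]) hne
  · simp [get]

theorem put_sound (hc : c < 8) (h : IsW c W) {i j : Nat} (hi : i < 8) (hj : j < 8)
    (h1 : ∀ x, x < 28 → W (hs c 1 x) = hs c i (W x))
    (h2 : ∀ x, x < 28 → W (hs c 2 x) = hs c j (W x)) :
    ∀ (n w : Nat) (l : List (Nat × Nat)), Rep w W → (∀ p ∈ l, p.1 < 28 ∧ W p.1 = p.2) →
      ∃ w', put c i j n w l = some w' ∧ Rep w' W := by
  intro n
  induction n with
  | zero => exact fun w l hw _ => ⟨w, by rw [put], hw⟩
  | succ n ih =>
    intro w l hw hl
    match l with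
    | [] => exact ⟨w, by rw [put], hw⟩
    | (x, y) :: r =>
      obtain ⟨hx, hxy⟩ := hl (x, y) List.mem_cons_self
      have hy : y < 28 := by have := h.lt x hx; simp only at hxy; rw [hxy] at this; exact this
      have hyx : W y = x := by have := h.invol x hx; simp only at hxy; rw [hxy] at this; exact this
      have hr : ∀ p ∈ r, p.1 < 28 ∧ W p.1 = p.2 := fun p hp => hl p (List.mem_cons_of_mem _ hp)
      have hpush : ∀ p ∈ (hs c 1 x, hs c i y) :: (hs c 2 x, hs c j y) :: (hs c 1 y, hs c i x) ::
          (hs c 2 y, hs c j x) :: r, p.1 < 28 ∧ W p.1 = p.2 := by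
        intro p hp
        simp only [List.mem_cons] at hp
        rcases hp with rfl | rfl | rfl | rfl | hp
        · exact ⟨hs_lt c hc 1 (by norm_num) x hx, by rw [h1 x hx, hxy]⟩
        · exact ⟨hs_lt c hc 2 (by norm_num) x hx, by rw [h2 x hx, hxy]⟩
        · exact ⟨hs_lt c hc 1 (by norm_num) y hy, by rw [h1 y hy, hyx]⟩
        · exact ⟨hs_lt c hc 2 (by norm_num) y hy, by rw [h2 y hy, hyx]⟩
        · exact hr p hp
      rw [put]
      by_cases hg : get w x = 0
      · have hw1 : Rep (setE w x y) W := rep_setE hw hx hy hg hxy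
        by_cases hg2 : get (setE w x y) y = 0
        · simp only [hg, hg2, beq_self_eq_true, if_true]
          exact ih _ _ (rep_setE hw1 hy hx hg2 hyx) hpush
        · have he : get (setE w x y) y = x + 1 := by rw [hw1 y hy hg2, hyx]
          simp only [hg, he, beq_self_eq_true, if_true,
            beq_iff_eq, Nat.succ_ne_zero, if_false]
          exact ih _ _ hw1 hpush
      · have he : get w x = y + 1 := by rw [hw x hx hg, hxy]
        simp only [he, beq_self_eq_true, if_true, beq_iff_eq, Nat.succ_ne_zero, if_false]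
        exact ih _ _ hw hr

theorem comp3_sound (hc : c < 8) (h : IsW c W) {w u x : Nat} (hw : Rep w W) (hu : u < 27)
    (ha : W u < 27) (hx : x < 28) (hne : comp3 c w u (W u) x ≠ 0) :
    comp3 c w u (W u) x =
      W (T (kind c) (invP (W u)) (W (T (kind c) u (W x)))) + 1 := by
  have hk := kind_lt hc
  unfold comp3 at hne ⊢
  simp only [beq_iff_eq] at hne ⊢
  by_cases h1 : get w x = 0
  · simp [h1] at hne
  rw [if_neg h1] at hne ⊢
  have e1 : get w x - 1 = W x := by rw [hw x hx h1]; rfl
  rw [e1] at hne ⊢
  have hy : T (kind c) u (W x) < 28 := T_lt _ hk _ (by omega) _ (h.lt x hx)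
  by_cases h2 : get w (T (kind c) u (W x)) = 0
  · simp [h2] at hne
  rw [if_neg h2] at hne ⊢
  have e2 : get w (T (kind c) u (W x)) - 1 = W (T (kind c) u (W x)) := by rw [hw _ hy h2]; rfl
  rw [e2] at hne ⊢
  exact hw _ (T_lt _ hk _ (by have := invP_lt _ ha; omega) _ (h.lt _ hy)) hne

theorem sepB_sound (hc : c < 8) (h : IsW c W) {w u b k : Nat} (hw : Rep w W) (hu : u < 27)
    (ha : W u < 27)
    (hall : ∀ x, x < 28 →
      W (T (kind c) (invP (W u)) (W (T (kind c) u (W x)))) = T (kind c) b (hs c k x)) :
    ∀ n s, sepB c w u (W u) b k n s = false := by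
  intro n
  induction n with
  | zero => intro s; rw [sepB]
  | succ n ih =>
    intro s
    rw [sepB, ih, Bool.or_false]
    by_cases hp : s % 32 < 28
    · by_cases h0 : comp3 c w u (W u) (s % 32) = 0
      · simp [h0]
      · have := comp3_sound hc h hw hu ha hp h0
        rw [hall _ hp] at this
        simp [this]
    · simp [hp]

theorem leaf_false (hc : c < 8) (h : IsW c W) {w u n s : Nat} (hw : Rep w W) :
    leafOK c w u n s = false := by
  by_contra hne
  rw [Bool.not_eq_false] at hne
  simp only [leafOK, Bool.and_eq_true, Bool.not_eq_true', beq_eq_false_iff_ne, decide_eq_true_eq,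
    Bool.or_eq_true, beq_iff_eq, allB_iff] at hne
  obtain ⟨⟨⟨hu1, hu⟩, hgu⟩, hb, hrest⟩ := hne
  have ha0 : get w u - 1 = W u := by rw [hw u (by omega) hgu]; rfl
  rw [ha0] at hb hrest
  obtain ⟨b, j, hb27, hj, hall⟩ := h.trans u hu1 hu
  have ha : W u < 27 := by
    have h1 := h.lt u (by omega)
    rcases Nat.lt_succ_iff_lt_or_eq.1 h1 with h2 | h2
    · exact h2
    · have h3 := h.invol u (by omega)
      rw [h2, h.top] at h3
      omega
  have e := comp3_sound hc h hw hu ha (by norm_num : 0 < 28) hb
  rw [hall 0 (by norm_num), hs_zero c hc j hj, T_zero _ (kind_lt hc) b hb27] at e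
  rcases hrest with h28 | hsep
  · omega
  · have h1 := hsep j hj
    rw [e, Nat.add_sub_cancel, sepB_sound hc h hw hu ha hall] at h1
    exact Bool.false_ne_true h1

/-- The conclusion of the search. -/
def Concl (c : Nat) (W : Nat → Nat) : Prop :=
  c = 3 ∧ ((∀ x, x < 28 → W x + 1 = get sol1 x) ∨ ∀ x, x < 28 → W x + 1 = get sol2 x)

theorem sol_sound {w : Nat} (hw : Rep w W) (hs : isSol c w = true) : Concl c W := by
  simp only [isSol, Bool.and_eq_true, Bool.or_eq_true, beq_iff_eq, allB_iff,
    Bool.not_eq_true', beq_eq_false_iff_ne] at hs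
  refine ⟨hs.1, hs.2.imp ?_ ?_⟩ <;>
    exact fun h x hx => by rw [← hw x hx (h x hx).2]; exact (h x hx).1

theorem check_sound (hc : c < 8) (h : IsW c W) {i j : Nat} (hi : i < 8) (hj : j < 8)
    (h1 : ∀ x, x < 28 → W (hs c 1 x) = hs c i (W x))
    (h2 : ∀ x, x < 28 → W (hs c 2 x) = hs c j (W x)) :
    ∀ (n w s r : Nat), check c i j n w s = some r → Rep w W → Concl c W := by
  intro n
  induction n with
  | zero => intro w s r hr; simp [check] at hr
  | succ n ih =>
    intro w s r hr hw
    rw [check] at hr
    split at hr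
    · rw [leaf_false hc h hw] at hr
      simp at hr
    · split at hr
      · split at hr
        · next hp =>
          simp only [Bool.and_eq_true, decide_eq_true_eq] at hp
          set p := s / 32 % 32
          have hWp : 1 ≤ W p ∧ W p ≤ 26 := by
            have h3 := h.invol p (by omega)
            have h4 := h.lt p (by omega)
            have h0 : W 0 = 27 := by
              have := h.invol 27 (by norm_num)
              rwa [h.top] at this
            constructor
            · by_contra hz
              rw [show W p = 0 by omega, h0] at h3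
              omega
            · by_contra hz
              rw [show W p = 27 by omega, h.top] at h3
              omega
          have key : ∀ (m t r : Nat), foldS (fun q t => match put c i j 200 w [(p, q)] with
              | none => some t
              | some w' => check c i j n w' t) m t = some r → W p ≤ m → Concl c W := by
            intro m
            induction m with
            | zero => intro t r _ hle; omega
            | succ m ihm =>
              intro t r hfold hle
              rw [foldS, Option.bind_eq_some_iff] at hfold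
              obtain ⟨t', ht', hf⟩ := hfold
              rcases Nat.lt_or_ge m (W p) with hlt | hge
              · obtain ⟨w', hput, hw'⟩ := put_sound hc h hi hj h1 h2 200 w [(p, m + 1)] hw
                  (fun q hq => by
                    rw [List.mem_singleton] at hq
                    subst hq
                    exact ⟨show p < 28 by omega, show W p = m + 1 by omega⟩)
                rw [hput] at hf
                exact ih w' t' r hf hw'
              · exact ihm t t' ht' hge
          exact key 26 _ r hr hWp.2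
        · simp at hr
      · split at hr
        · next hsol => exact sol_sound hw hsol
        · simp at hr

/-- The images of all elements under conjugation by the involution. -/
theorem img_eq (hc : c < 8) (h : IsW c W) {i j : Nat} (hi : i < 8) (hj : j < 8)
    (h1 : ∀ x, x < 28 → W (hs c 1 x) = hs c i (W x))
    (h2 : ∀ x, x < 28 → W (hs c 2 x) = hs c j (W x)) {k x : Nat} (hk : k < 8) (hx : x < 28) :
    W (hs c k (W x)) = img c i j k x := by
  have hwx := h.lt x hx
  have l1 : ∀ z, z < 28 → hs c 1 z < 28 := hs_lt c hc 1 (by norm_num)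
  have l2 : ∀ z, z < 28 → hs c 2 z < 28 := hs_lt c hc 2 (by norm_num)
  rw [← hs_decomp c hc k hk (W x) hwx]
  interval_cases k <;>
    simp [img, h1, h2, h.invol x hx, l1 _ hwx, l2 _ hwx, hwx, l2 _ (l1 _ hwx), l2 _ (l2 _ hwx),
      l2 _ (l2 _ (l1 _ hwx))]

theorem not_badPair (hc : c < 8) (h : IsW c W) {i j : Nat} (hi : i < 8) (hj : j < 8)
    (h1 : ∀ x, x < 28 → W (hs c 1 x) = hs c i (W x))
    (h2 : ∀ x, x < 28 → W (hs c 2 x) = hs c j (W x)) : badPair c i j = false := by
  have hg : ∀ {k x : Nat}, k < 8 → x < 28 → W (hs c k (W x)) = img c i j k x :=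
    fun hk hx => img_eq hc h hi hj h1 h2 hk hx
  have step : ∀ g v, g < 8 → v < 8 → (∀ x, x < 28 → W (hs c g x) = hs c v (W x)) →
      ∀ m k, m < 8 → k < 8 → (∀ x, x < 28 → hs c m x = hs c k (hs c g x)) →
      ∀ x, x < 28 → img c i j m x = img c i j k (hs c v x) := by
    intro g v hg8 hv hgv m k hm hk e x hx
    have hwx := h.lt x hx
    have hv' := hs_lt c hc v hv x hx
    rw [← hg hm hx, e _ hwx, ← hg hk hv']
    congr 2
    rw [← h.invol (hs c g (W x)) (hs_lt c hc g hg8 _ hwx), hgv _ hwx, h.invol x hx]
  have self : ∀ g v, g < 8 → v < 8 → (∀ x, x < 28 → W (hs c g x) = hs c v (W x)) →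
      ∀ x, x < 28 → img c i j v x = hs c g x := by
    intro g v hg8 hv hgv x hx
    rw [← hg hv hx, ← hgv x hx, h.invol _ (hs_lt c hc g hg8 x hx)]
  by_contra hne
  rw [Bool.not_eq_false] at hne
  simp only [badPair, Bool.or_eq_true, anyB_iff, Bool.and_eq_true, Bool.not_eq_true',
    eqP_iff] at hne
  rcases hne with (⟨m, hm, k, hk, ⟨e, hb⟩ | ⟨e, hb⟩⟩ | hb) | hb
  · rw [eqP_iff.2 (step 1 i (by norm_num) hi h1 m k hm hk e)] at hb
    exact Bool.false_ne_true hb.symm
  · rw [eqP_iff.2 (step 2 j (by norm_num) hj h2 m k hm hk e)] at hb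
    exact Bool.false_ne_true hb.symm
  · rw [eqP_iff.2 (self 1 i (by norm_num) hi h1)] at hb
    exact Bool.false_ne_true hb.symm
  · rw [eqP_iff.2 (self 2 j (by norm_num) hj h2)] at hb
    exact Bool.false_ne_true hb.symm

/-- The involution is one of the two stored ones, in the fourth case. -/
theorem search (hc : c < 8) (h : IsW c W) : Concl c W := by
  obtain ⟨i, hi, hi'⟩ := h.norm 1 (by norm_num)
  obtain ⟨j, hj, hj'⟩ := h.norm 2 (by norm_num)
  have cv : ∀ g v, (∀ x, x < 28 → W (hs c g (W x)) = hs c v x) →
      ∀ x, x < 28 → W (hs c g x) = hs c v (W x) := fun g v e x hx => by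
    rw [← e _ (h.lt x hx), h.invol x hx]
  have h1 := cv 1 i hi'
  have h2 := cv 2 j hj'
  have := case_all c hc
  simp only [caseOK, allB_iff, Bool.or_eq_true] at this
  have h3 := this (8 * i + j) (by omega)
  rw [show (8 * i + j) / 8 = i by omega, show (8 * i + j) % 8 = j by omega,
    not_badPair hc h hi hj h1 h2] at h3
  rcases h3 with h3 | h3
  · simp at h3
  obtain ⟨r, hr⟩ := Option.isSome_iff_exists.1 h3
  exact check_sound hc h hi hj h1 h2 30 w0 _ r hr (rep_w0 h)

end CfsgLib.G2Recog
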