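import Cfsg.Agent.G2TwoRecog.Frame

/-!
# The two-point stabiliser in standard coordinates
-/

set_option autoImplicit false
set_option linter.style.haveILetI false
set_option linter.unusedSectionVars false

namespace CfsgLib.G2Recog

open Subgroup MulAction
open scoped commutatorElement Pointwise

theorem mulP_neg : ∀ e, e < 2 → ∀ p, p < 27 → negP p < 27 := fun _ _ p hp => (negP_facts p hp).1

theorem ext_parts : ∀ e, e < 2 → ∀ p, p < 27 →
    pwP e 1 (p % 3) < 27 ∧ pwP e 3 (p / 3 % 3) < 27 ∧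
      pwP e 9 ((p / 9 + e * (p % 3) * (p / 3 % 3)) % 3) < 27 := by decide +kernel

theorem mOf_basic : mOf 1 3 9 = 109 ∧ mOf (negP 1) (negP 3) (negP 9) = 137 ∧ invP 1 = negP 1 ∧
    invP 3 = negP 3 ∧ negP 9 = 9 := by decide +kernel

theorem fixCount_eq (m : Nat) : ∀ n, fixCount m n = ((Finset.range n).filter fun p => sigA m p = p).card
  | 0 => rfl
  | n + 1 => by
    rw [fixCount, fixCount_eq m n, Finset.range_add_one, Finset.filter_insert]
    by_cases h : sigA m n = n
    · rw [if_pos h, Finset.card_insert_of_notMem (by simp)]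
      simp [h]
      omega
    · rw [if_neg h]
      simp [h]

variable {G : Type*} [Group G] [Finite G] [IsSimpleGroup G]

namespace Hyp

variable (h : Hyp G) (hnc : ¬ IsMulCommutative G)
include h hnc

/-- A frame in which the two-point stabiliser is one of the eight tables. -/
theorem exists_standard (P Q : Sylow 3 G) (hQ : Q ≠ P) :
    ∃ (c : Nat) (φ : Nat → G), c < 8 ∧ Frame P (kind c) φ ∧
      (∀ k, k < 8 → ∃ g ∈ NP P ⊓ NP Q, ∀ p, p < 27 → g * φ p * g⁻¹ = φ (hs c k p)) ∧
      ∀ g ∈ NP P ⊓ NP Q, ∃ k, k < 8 ∧ ∀ p, p < 27 → g * φ p * g⁻¹ = φ (hs c k p) := by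
  classical
  obtain ⟨e, φ, u, F, huH, hucomm, hneg⟩ := h.exists_frame hnc P Q hQ
  set H := NP P ⊓ NP Q with hH
  have hHc : Nat.card H = 8 := h.stab_card hnc P Q hQ
  have he := F.e_lt
  let β : G → Nat → Nat := fun g p =>
    if hx : ∃ q, q < 27 ∧ φ q = g * φ p * g⁻¹ then hx.choose else 0
  have hβ : ∀ g ∈ H, ∀ p, β g p < 27 ∧ φ (β g p) = g * φ p * g⁻¹ := by
    intro g hg p
    have hx := F.surj _ ((mem_normalizer_iff.1 hg.1 (φ p)).1 (F.mem p))
    simp only [β, dif_pos hx]
    exact hx.choose_spec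
  have hval : ∀ g ∈ H, ∀ p q, p < 27 → q < 27 → φ q = g * φ p * g⁻¹ → β g p = q := fun g hg p q _ hq e =>
    F.inj _ (hβ g hg p).1 q hq ((hβ g hg p).2.trans e.symm)
  have hβmul : ∀ g ∈ H, ∀ p, p < 27 → ∀ q, q < 27 → β g (mulP e p q) = mulP e (β g p) (β g q) :=
    fun g hg p hp q hq => hval g hg _ _ (mulP_lt e he p hp q hq)
      (mulP_lt e he _ (hβ g hg p).1 _ (hβ g hg q).1)
      (by rw [F.hom _ (hβ g hg p).1 _ (hβ g hg q).1, (hβ g hg p).2, (hβ g hg q).2, F.hom p hp q hq]; group)
  have hβ0 : ∀ g ∈ H, β g 0 = 0 := fun g hg => hval g hg 0 0 (by norm_num) (by norm_num)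
    (by rw [F.map_zero]; group)
  have hβinj : ∀ g ∈ H, ∀ p, p < 27 → ∀ q, q < 27 → β g p = β g q → p = q := by
    intro g hg p hp q hq e1
    refine F.inj p hp q hq ?_
    have e2 := (hβ g hg p).2
    rw [e1, (hβ g hg q).2] at e2
    exact (mul_left_cancel (mul_right_cancel e2)).symm
  have hβinv : ∀ g ∈ H, ∀ p, p < 27 → β g (invP p) = invP (β g p) := fun g hg p hp =>
    hval g hg _ _ (invP_lt p hp) (invP_lt _ (hβ g hg p).1)
      (by rw [F.map_inv (hβ g hg p).1, (hβ g hg p).2, F.map_inv hp]; group)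
  have hβneg : ∀ g ∈ H, ∀ p, p < 27 → β g (negP p) = negP (β g p) := fun g hg p hp =>
    hval g hg _ _ (negP_facts p hp).1 (negP_facts _ (hβ g hg p).1).1
      (by
        rw [← hneg _ (hβ g hg p).1, (hβ g hg p).2, ← hneg p hp]
        calc u * (g * φ p * g⁻¹) * u⁻¹ = (u * g) * φ p * (u * g)⁻¹ := by group
          _ = (g * u) * φ p * (g * u)⁻¹ := by rw [hucomm g hg]
          _ = _ := by group)
  let K : G → Nat := fun g => mOf (β g 1) (β g 3) (β g 9)
  have hK : ∀ g ∈ H, validB (K g) = true ∧ (e = 0 ∨ K g / 81 = detB (K g)) ∧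
      ∀ p, p < 27 → β g p = sigA (K g) p := by
    intro g hg
    obtain ⟨m1, m2, m3, m4, m5⟩ := mOf_basic
    have l1 : β g 1 < 9 := (negP_facts _ (hβ g hg 1).1).2.1 (by
      rw [← hβneg g hg 1 (by norm_num), ← hβinv g hg 1 (by norm_num), m3])
    have l3 : β g 3 < 9 := (negP_facts _ (hβ g hg 3).1).2.1 (by
      rw [← hβneg g hg 3 (by norm_num), ← hβinv g hg 3 (by norm_num), m4])
    have l9 : β g 9 = 9 ∨ β g 9 = 18 := by
      rcases (negP_facts _ (hβ g hg 9).1).2.2 (by rw [← hβneg g hg 9 (by norm_num), m5]) with e9 | e9 | e9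
      · have := hβinj g hg 9 (by norm_num) 0 (by norm_num) (e9.trans (hβ0 g hg).symm)
        omega
      · exact Or.inl e9
      · exact Or.inr e9
    have hpw : ∀ v, v < 27 → ∀ n, n < 3 → β g (pwP e v n) = pwP e (β g v) n := by
      intro v hv n hn
      interval_cases n
      · exact hβ0 g hg
      · rfl
      · exact hβmul g hg v hv v hv
    have hext : ∀ p, p < 27 → β g p = extP e (β g 1) (β g 3) (β g 9) p := by
      intro p hp
      conv_lhs => rw [← ext_basic e he p hp]
      obtain ⟨p1, p2, p3⟩ := ext_parts e he p hp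
      rw [extP, extP, hβmul g hg _ (mulP_lt e he _ p1 _ p2) _ p3, hβmul g hg _ p1 _ p2,
        hpw 1 (by norm_num) _ (Nat.mod_lt _ (by norm_num)),
        hpw 3 (by norm_num) _ (Nat.mod_lt _ (by norm_num)),
        hpw 9 (by norm_num) _ (Nat.mod_lt _ (by norm_num))]
    have hc := aut_check e he _ l1 _ l3 _ l9
    simp only [autB, Bool.or_eq_true, anyB_iff, Bool.and_eq_true, Bool.not_eq_true',
      beq_iff_eq, beq_eq_false_iff_ne, allB_iff] at hc
    rcases hc with (⟨p, hp, hp0, hp1⟩ | hb) | ⟨⟨hv, hd⟩, hall⟩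
    · rw [← hext p hp] at hp1
      exact absurd (hβinj g hg p hp 0 (by norm_num) (hp1.trans (hβ0 g hg).symm)) hp0
    · refine absurd ?_ hb
      rw [← hext _ (mulP_lt e he 3 (by norm_num) 1 (by norm_num)), ← hext 3 (by norm_num),
        ← hext 1 (by norm_num), hβmul g hg 3 (by norm_num) 1 (by norm_num)]
    · exact ⟨hv, hd, fun p hp => (hext p hp).trans (hall p hp)⟩
  have hKact : ∀ g ∈ H, ∀ p, p < 27 → g * φ p * g⁻¹ = φ (sigA (K g) p) := fun g hg p hp => by
    rw [← (hK g hg).2.2 p hp]; exact (hβ g hg p).2.symm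
  have hKlt : ∀ g ∈ H, K g < 243 := fun g hg => by
    have := (hK g hg).1
    simp only [validB, Bool.and_eq_true, decide_eq_true_eq] at this
    exact this.1.1
  have hKmul : ∀ g ∈ H, ∀ g' ∈ H, K (g * g') = cmul (K g) (K g') := by
    intro g hg g' hg'
    have hcomp : ∀ p, p < 27 → β (g * g') p = sigA (K g) (sigA (K g') p) := by
      intro p hp
      rw [← (hK g' hg').2.2 p hp, ← (hK g hg).2.2 _ (hβ g' hg' p).1]
      refine hval _ (mul_mem hg hg') _ _ hp (hβ g hg _).1 ?_
      rw [(hβ g hg _).2, (hβ g' hg' p).2]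
      group
    show mOf _ _ _ = mOf _ _ _
    rw [hcomp 1 (by norm_num), hcomp 3 (by norm_num), hcomp 9 (by norm_num)]
  have hK1 : K 1 = 109 := by
    show mOf _ _ _ = _
    rw [hval 1 (one_mem _) 1 1 (by norm_num) (by norm_num) (by group),
      hval 1 (one_mem _) 3 3 (by norm_num) (by norm_num) (by group),
      hval 1 (one_mem _) 9 9 (by norm_num) (by norm_num) (by group)]
    exact mOf_basic.1
  have hKu : K u = 137 := by
    show mOf _ _ _ = _
    rw [hval u huH 1 _ (by norm_num) (negP_facts 1 (by norm_num)).1 (hneg 1 (by norm_num)).symm,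
      hval u huH 3 _ (by norm_num) (negP_facts 3 (by norm_num)).1 (hneg 3 (by norm_num)).symm,
      hval u huH 9 _ (by norm_num) (negP_facts 9 (by norm_num)).1 (hneg 9 (by norm_num)).symm]
    exact mOf_basic.2.1
  have h8 : ∀ g ∈ H, g ^ 8 = 1 := fun g hg => by
    have := orderOf_dvd_card_of_mem hg
    rw [hHc] at this
    exact orderOf_dvd_iff_pow_eq_one.1 this
  have hKinj : ∀ g ∈ H, ∀ g' ∈ H, K g = K g' → g = g' := by
    intro g hg g' hg' e1
    have hm : g'⁻¹ * g ∈ H := mul_mem (inv_mem hg') hg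
    have hcen : g'⁻¹ * g ∈ centralizer ((P : Subgroup G) : Set G) := mem_centralizer_iff.2 fun x hx => by
      obtain ⟨p, hp, rfl⟩ := F.surj x hx
      have e2 : g * φ p * g⁻¹ = g' * φ p * g'⁻¹ := by rw [hKact g hg p hp, hKact g' hg' p hp, e1]
      have e3 : g'⁻¹ * g * φ p * (g'⁻¹ * g)⁻¹ = φ p := by
        calc g'⁻¹ * g * φ p * (g'⁻¹ * g)⁻¹ = g'⁻¹ * (g * φ p * g⁻¹) * g' := by group
          _ = φ p := by rw [e2]; group
      exact (mul_inv_eq_iff_eq_mul.1 e3).symm
    have hd : orderOf (g'⁻¹ * g) ∣ Nat.gcd 8 3 := Nat.dvd_gcd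
      (orderOf_dvd_of_pow_eq_one (h8 _ hm))
      (orderOf_dvd_of_pow_eq_one (h.pow_three P (h.centralizer_le hnc P hcen)))
    exact (inv_mul_eq_one.1 (orderOf_eq_one_iff.1 (Nat.dvd_one.1 (hd.trans (by norm_num))))).symm
  have hKpow : ∀ g ∈ H, ∀ n : ℕ, K (g ^ n) = cpow (K g) n := by
    intro g hg n
    induction n with
    | zero => rw [pow_zero, hK1, cpow]
    | succ n ih => rw [pow_succ', hKmul g hg _ (pow_mem hg n), ih, cpow]
  have hgood : ∀ g ∈ H, goodB (K g) = true := by
    intro g hg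
    simp only [goodB, Bool.and_eq_true, Bool.or_eq_true, Bool.not_eq_true', beq_eq_false_iff_ne,
      beq_iff_eq]
    refine ⟨(hK g hg).1, ?_⟩
    by_cases hsq : cmul (K g) (K g) = 109
    swap
    · exact Or.inl (Or.inl hsq)
    by_cases hg1 : g = 1
    · exact Or.inl (Or.inr (hg1 ▸ hK1))
    refine Or.inr ?_
    have hg2 : g * g = 1 :=
      hKinj _ (mul_mem hg hg) 1 (one_mem _) (by rw [hKmul g hg g hg, hsq, hK1])
    have hord : orderOf g = 2 := orderOf_eq_prime_iff.2 ⟨by rw [pow_two]; exact hg2, hg1⟩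
    have h3 := h.fixed_card hnc P Q hQ hord hg.1 hg.2
    rw [← h3, fixCount_eq]
    set S := (Finset.range 27).filter fun p => sigA (K g) p = p with hS
    rw [← Nat.card_eq_finsetCard]
    refine Nat.card_congr (Equiv.ofBijective (fun p : S =>
      (⟨φ p.1, F.mem _, ?_⟩ : ((P : Subgroup G) ⊓ centralizer ({g} : Set G) : Subgroup G))) ⟨?_, ?_⟩)
    · have hp := Finset.mem_filter.1 p.2
      have e1 := hKact g hg p.1 (Finset.mem_range.1 hp.1)
      rw [hp.2] at e1
      exact mem_centralizer_singleton_iff.2 (mul_inv_eq_iff_eq_mul.1 e1).symm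
    · intro p q e1
      exact Subtype.ext (F.inj _ (Finset.mem_range.1 (Finset.mem_filter.1 p.2).1) _
        (Finset.mem_range.1 (Finset.mem_filter.1 q.2).1) (congrArg Subtype.val e1))
    · rintro ⟨x, hxP, hxc⟩
      obtain ⟨p, hp, rfl⟩ := F.surj x hxP
      refine ⟨⟨p, Finset.mem_filter.2 ⟨Finset.mem_range.2 hp, ?_⟩⟩, rfl⟩
      have e1 := hKact g hg p hp
      rw [← (mem_centralizer_singleton_iff.1 hxc : φ p * g = g * φ p), mul_inv_cancel_right] at e1
      exact F.inj _ ((code_facts _ (hKlt g hg) (hK g hg).1).2.2.2 p hp) p hp e1.symm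
  -- eight elements in a checked shape
  obtain ⟨L, hLlen, hLmem, hLnd, hLclass⟩ : ∃ L : List G, L.length = 8 ∧ (∀ g ∈ L, g ∈ H) ∧ L.Nodup ∧
      classB (L.map K) = true := by
    by_cases h4 : ∃ a ∈ H, a ^ 4 ≠ 1
    · obtain ⟨a, ha, ha4⟩ := h4
      have hord : orderOf a = 8 :=
        orderOf_eq_prime_pow (p := 2) (n := 2) (by norm_num; exact ha4) (by norm_num; exact h8 a ha)
      refine ⟨(List.range 8).map (a ^ ·), by simp, ?_, ?_, ?_⟩
      · intro g hg
        simp only [List.mem_map] at hg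
        obtain ⟨i, -, rfl⟩ := hg
        exact pow_mem ha i
      · refine List.nodup_range.map_on fun i hi j hj e1 => ?_
        exact pow_injOn_Iio_orderOf (by simpa [hord] using List.mem_range.1 hi)
          (by simpa [hord] using List.mem_range.1 hj) e1
      · have e1 : ((List.range 8).map (a ^ ·)).map K = lstTwo (K a) := by
          rw [List.map_map, lstTwo]
          exact List.map_congr_left fun i _ => hKpow a ha i
        rw [e1]
        refine shape_two _ (hKlt a ha) ?_
        simp only [Bool.and_eq_true, Bool.not_eq_true', beq_eq_false_iff_ne]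
        exact ⟨hgood a ha, fun e2 => ha4 (hKinj _ (pow_mem ha 4) 1 (one_mem _)
          (by rw [hKpow a ha, e2, hK1]))⟩
    · push_neg at h4
      by_cases h2 : ∃ a ∈ H, a ^ 2 ≠ 1
      · obtain ⟨a, ha, ha2⟩ := h2
        have hord : orderOf a = 4 :=
          orderOf_eq_prime_pow (p := 2) (n := 1) (by simpa using ha2) (by simpa using h4 a ha)
        obtain ⟨b, hb, hbz⟩ : ∃ b ∈ H, b ∉ zpowers a := by
          by_contra hh
          push_neg at hh
          have := card_dvd_of_le (hh : H ≤ zpowers a)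
          rw [hHc, Nat.card_zpowers, hord] at this
          norm_num at this
        refine ⟨[1, b, a, a * b, a ^ 2, a ^ 2 * b, a ^ 3, a ^ 3 * b], by simp, ?_, ?_, ?_⟩
        · intro g hg
          simp only [List.mem_cons, List.not_mem_nil, or_false] at hg
          rcases hg with rfl | rfl | rfl | rfl | rfl | rfl | rfl | rfl
          exacts [one_mem _, hb, ha, mul_mem ha hb, pow_mem ha 2, mul_mem (pow_mem ha 2) hb,
            pow_mem ha 3, mul_mem (pow_mem ha 3) hb]
        · have e1 : [1, b, a, a * b, a ^ 2, a ^ 2 * b, a ^ 3, a ^ 3 * b] =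
              (List.range 8).map fun i => a ^ (i / 2) * b ^ (i % 2) := by
            simp [List.range_succ_eq_map]
          rw [e1]
          refine List.nodup_range.map_on fun i hi j hj e2 => ?_
          have hi8 := List.mem_range.1 hi
          have hj8 := List.mem_range.1 hj
          have hpar : i % 2 = j % 2 := by
            have hz : ∀ (s t : ℕ), a ^ s * b = a ^ t → False := fun s t e3 => hbz (by
              rw [show b = (a ^ s)⁻¹ * a ^ t by rw [← e3]; group]
              exact mul_mem (inv_mem (pow_mem (mem_zpowers a) s)) (pow_mem (mem_zpowers a) t))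
            rcases Nat.mod_two_eq_zero_or_one i with hi2 | hi2 <;>
              rcases Nat.mod_two_eq_zero_or_one j with hj2 | hj2 <;> rw [hi2, hj2] at e2 ⊢
            · exact (hz (j / 2) (i / 2) (by simpa using e2.symm)).elim
            · exact (hz (i / 2) (j / 2) (by simpa using e2)).elim
          rw [hpar] at e2
          have := pow_injOn_Iio_orderOf (x := a) (by rw [hord]; show i / 2 < 4; omega)
            (by rw [hord]; show j / 2 < 4; omega) (mul_right_cancel e2)
          omega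
        · have e1 : [1, b, a, a * b, a ^ 2, a ^ 2 * b, a ^ 3, a ^ 3 * b].map K =
              lstOne (K a) (K b) := by
            simp only [List.map_cons, List.map_nil, lstOne]
            rw [hK1, hKmul a ha b hb, hKpow a ha 2, hKmul _ (pow_mem ha 2) b hb, hKpow a ha 2,
              hKpow a ha 3, hKmul _ (pow_mem ha 3) b hb, hKpow a ha 3]
          rw [e1]
          refine shape_one _ (hKlt a ha) ?_ _ (hKlt b hb) (hgood b hb)
          simp only [Bool.and_eq_true, Bool.not_eq_true', beq_eq_false_iff_ne, beq_iff_eq]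
          exact ⟨⟨⟨(hK a ha).1, hgood a ha⟩, by rw [← hKpow a ha, h4 a ha, hK1]⟩,
            fun e2 => ha2 (hKinj _ (pow_mem ha 2) 1 (one_mem _) (by rw [hKpow a ha, e2, hK1]))⟩
      · -- exponent two is impossible
        push_neg at h2
        exfalso
        have hinv : ∀ g ∈ H, g⁻¹ = g := fun g hg =>
          inv_eq_of_mul_eq_one_right (by rw [← pow_two]; exact h2 g hg)
        have hcomm : ∀ g ∈ H, ∀ g' ∈ H, g * g' = g' * g := fun g hg g' hg' => by
          rw [← hinv _ (mul_mem hg hg'), mul_inv_rev, hinv g hg, hinv g' hg']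
        haveI := Fintype.ofFinite H
        have hex : ∀ l : List G, l.length ≤ 4 → ∃ g ∈ H, g ∉ l := by
          intro l hl
          by_contra hh
          push_neg at hh
          have h1 : (Finset.univ.image fun g : H => (g : G)) ⊆ l.toFinset := fun g hg => by
            obtain ⟨g', -, rfl⟩ := Finset.mem_image.1 hg
            exact List.mem_toFinset.2 (hh g' g'.2)
          have h3 := (Finset.card_le_card h1).trans l.toFinset_card_le
          rw [Finset.card_image_of_injective _ Subtype.val_injective, Finset.card_univ,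
            ← Nat.card_eq_fintype_card, hHc] at h3
          omega
        obtain ⟨b, hb, hbl⟩ := hex [1, u] (by norm_num)
        obtain ⟨d, hd, hdl⟩ := hex [1, u, b, u * b] (by norm_num)
        simp only [List.mem_cons, List.not_mem_nil, or_false, not_or] at hbl hdl
        have hrefl : ∀ g ∈ H, g ≠ 1 → g ≠ u → reflB (K g) = true := by
          intro g hg g1 gu
          simp only [reflB, Bool.and_eq_true, Bool.not_eq_true', beq_eq_false_iff_ne, beq_iff_eq]
          refine ⟨⟨⟨hgood g hg, ?_⟩, fun e1 => g1 (hKinj g hg 1 (one_mem _) (by rw [e1, hK1]))⟩,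
            fun e1 => gu (hKinj g hg u huH (by rw [e1, hKu]))⟩
          rw [← hKmul g hg g hg, ← pow_two, h2 g hg, hK1]
        have h3 := no_three _ (hKlt b hb) (hrefl b hb hbl.1 hbl.2) _ (hKlt d hd) (by
          simp only [Bool.and_eq_true, beq_iff_eq]
          exact ⟨hrefl d hd hdl.1 hdl.2.1, by rw [← hKmul b hb d hd, ← hKmul d hd b hb, hcomm b hb d hd]⟩)
        simp only [Bool.or_eq_true, beq_iff_eq] at h3
        rcases h3 with e1 | e1
        · exact hdl.2.2.1 (hKinj d hd b hb e1)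
        · exact hdl.2.2.2 (hKinj d hd _ (mul_mem huH hb) (by rw [e1, hKmul u huH b hb, hKu]))
  have hLall : ∀ g ∈ H, g ∈ L := by
    intro g hg
    haveI := Fintype.ofFinite H
    have h1 : L.toFinset ⊆ Finset.univ.image fun g : H => (g : G) := fun x hx =>
      Finset.mem_image.2 ⟨⟨x, hLmem x (List.mem_toFinset.1 hx)⟩, Finset.mem_univ _, rfl⟩
    have h2 := Finset.eq_of_subset_of_card_le h1 (by
      rw [List.toFinset_card_of_nodup hLnd, hLlen, Finset.card_image_of_injective _ Subtype.val_injective,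
        Finset.card_univ, ← Nat.card_eq_fintype_card, hHc])
    rw [← List.mem_toFinset, h2]
    exact Finset.mem_image.2 ⟨⟨g, hg⟩, Finset.mem_univ _, rfl⟩
  set LK := L.map K with hLK
  have hget : ∀ i, i < 8 → ∃ g ∈ H, LK.getD i 0 = K g ∧ ∀ hi : i < L.length, g = L[i] := by
    intro i hi
    refine ⟨L[i]'(by omega), hLmem _ (List.getElem_mem _), ?_, fun _ => rfl⟩
    rw [hLK, List.getD_eq_getElem _ _ (by simp; omega), List.getElem_map]
  have hin : ∀ g ∈ H, (maskOf LK).testBit (K g) = true := fun g hg => by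
    rw [testBit_maskOf, decide_eq_true_eq, hLK]
    exact List.mem_map_of_mem (hLall g hg)
  simp only [classB, Bool.or_eq_true, List.any_eq_true, beq_iff_eq, Bool.not_eq_true',
    anyB_iff] at hLclass
  obtain ⟨w, hw, hwm⟩ : ∃ w ∈ wits, w.1 = maskOf LK := by
    rcases hLclass with (((hc | hc) | hc) | hc) | hc
    · exact hc
    · exfalso
      rw [← Bool.not_eq_true, allB_iff] at hc
      refine hc fun i hi => ?_
      obtain ⟨g, hg, e1, -⟩ := hget i hi
      rw [e1]
      exact hgood g hg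
    · exfalso
      obtain ⟨i, hi, j, hj, hij⟩ := hc
      obtain ⟨g, hg, e1, g1⟩ := hget i hi
      obtain ⟨g', hg', e2, g2⟩ := hget j (by omega)
      rw [e1, e2] at hij
      have e3 := hKinj g hg g' hg' hij
      rw [g1 (by omega), g2 (by omega)] at e3
      have := hLnd.getElem_inj_iff.1 e3
      omega
    · exfalso
      rw [← hKu, hin u huH] at hc
      exact Bool.false_ne_true hc.symm
    · exfalso
      obtain ⟨i, hi, j, hj, hc⟩ := hc
      obtain ⟨g, hg, e1, -⟩ := hget i hi
      obtain ⟨g', hg', e2, -⟩ := hget j hj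
      rw [e1, e2, ← hKmul g hg g' hg', hin _ (mul_mem hg hg')] at hc
      exact Bool.false_ne_true hc.symm
  obtain ⟨mask, c, m, mi⟩ := w
  have hwit := List.all_eq_true.1 wit_all _ hw
  simp only [witB, Bool.and_eq_true, Bool.or_eq_true, decide_eq_true_eq, anyB_iff, allB_iff,
    Bool.not_eq_true', beq_eq_false_iff_ne, beq_iff_eq] at hwit
  obtain ⟨⟨⟨⟨⟨w1, hc8, hc36⟩, w3⟩, w4⟩, w5⟩, w6⟩ := hwit
  change mask = maskOf LK at hwm
  subst hwm
  have hmem : ∀ m', (m' ∈ (List.range 8).map (conjCode (maskOf LK, c, m, mi))) ↔ m' ∈ LK := by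
    intro m'
    have e1 := congrArg (fun n : Nat => n.testBit m') w1
    simpa [testBit_maskOf] using e1
  have hfwd : ∀ k, k < 8 → ∃ g ∈ H, K g = conjCode (maskOf LK, c, m, mi) k := by
    intro k hk
    have h1 := (hmem _).1 (List.mem_map_of_mem (List.mem_range.2 hk))
    rw [hLK, List.mem_map] at h1
    obtain ⟨g, hg, hgk⟩ := h1
    exact ⟨g, hLmem g hg, hgk⟩
  have hc3 : e = 1 → c < 3 := by
    intro e1
    rcases w3 with w3 | ⟨k, hk, hk'⟩
    · exact w3
    · obtain ⟨g, hg, hgk⟩ := hfwd k hk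
      have h2 := (hK g hg).2.1.resolve_left (by omega)
      rw [hgk] at h2
      exact absurd h2 hk'
  have hc' : ∃ c', c' < 8 ∧ kind c' = e ∧ row c' = row c := by
    have he' : e = 0 ∨ e = 1 := by omega
    rcases he' with rfl | rfl
    · refine ⟨c, hc8, ?_, rfl⟩
      rcases hc36 with hc36 | hc36 <;> simp only [kind] <;> split <;> omega
    · have hc := hc3 rfl
      exact ⟨c + 3, by omega, by simp only [kind]; split <;> omega,
        by simp only [row]; split <;> split <;> omega⟩
  obtain ⟨c', hc'8, hkind, hrow⟩ := hc'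
  let ψ : Nat → G := fun p => φ (sigA m p)
  have conjk : ∀ g ∈ H, ∀ k, k < 8 → K g = conjCode (maskOf LK, c, m, mi) k →
      ∀ p, p < 27 → g * ψ p * g⁻¹ = ψ (hs c' k p) := by
    intro g hg k hk hgk p hp
    show g * φ (sigA m p) * g⁻¹ = φ (sigA m (hs c' k p))
    obtain ⟨⟨⟨b1, b2⟩, b3⟩, b4⟩ := w4 p hp
    rw [hKact g hg _ b1, hgk, w6 k hk _ b1, b4]
    simp only [hs, hrow]
  refine ⟨c', ψ, hc'8, ⟨?_, ?_, ?_, ?_, ?_⟩, ?_, ?_⟩
  · rw [hkind]; exact he
  · exact fun p => F.mem _
  · intro p hp q hq e1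
    obtain ⟨⟨⟨p1, -⟩, -⟩, p4⟩ := w4 p hp
    obtain ⟨⟨⟨q1, -⟩, -⟩, q4⟩ := w4 q hq
    have e2 := F.inj _ p1 _ q1 e1
    calc p = sigA mi (sigA m p) := p4.symm
      _ = sigA mi (sigA m q) := by rw [e2]
      _ = q := q4
  · intro x hx
    obtain ⟨p, hp, rfl⟩ := F.surj x hx
    obtain ⟨⟨⟨-, p2⟩, p3⟩, -⟩ := w4 p hp
    exact ⟨sigA mi p, p2, congrArg φ p3⟩
  · intro p hp q hq
    rw [hkind]
    show φ (sigA m (mulP e p q)) = φ (sigA m p) * φ (sigA m q)
    rw [w5 e he p hp q hq, F.hom _ (w4 p hp).1.1.1 _ (w4 q hq).1.1.1]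
  · intro k hk
    obtain ⟨g, hg, hgk⟩ := hfwd k hk
    exact ⟨g, hg, conjk g hg k hk hgk⟩
  · intro g hg
    have h1 : K g ∈ LK := by rw [hLK]; exact List.mem_map_of_mem (hLall g hg)
    rw [← hmem, List.mem_map] at h1
    obtain ⟨k, hk, hgk⟩ := h1
    exact ⟨k, List.mem_range.1 hk, conjk g hg k (List.mem_range.1 hk) hgk.symm⟩

end Hyp

end CfsgLib.G2Recog
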