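import Mathlib

/-!
# General tools for the simple groups of order 6048

Orbit counting, the inversion in a 2-group of automorphisms of a group of order 9, and Burnside's
normal complement inside a subgroup.
-/

set_option autoImplicit false
set_option linter.style.haveILetI false

namespace CfsgLib.G2Recog

open Subgroup MulAction

/-- If all orbits have cardinality divisible by `d`, so has the set. -/
theorem dvd_card_of_orbits {M X : Type*} [Group M] [MulAction M X] [Finite X] {d : ℕ}
    (h : ∀ x : X, d ∣ Nat.card (orbit M x)) : d ∣ Nat.card X := by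
  classical
  haveI := Fintype.ofFinite X
  rw [Nat.card_congr (selfEquivSigmaOrbits M X), Nat.card_sigma]
  exact Finset.dvd_sum fun ω _ => h _

section NineAut

variable {E : Type*} [CommGroup E] [Finite E]

/-- Inversion as an automorphism. -/
def invAut : MulAut E := MulEquiv.inv E

theorem invAut_apply (x : E) : invAut x = x⁻¹ := rfl

variable (hE : Nat.card E = 9) (h3 : ∀ x : E, x ^ 3 = 1)
include h3

theorem sq_eq_inv (x : E) : x * x = x⁻¹ :=
  eq_inv_of_mul_eq_one_left (by rw [← h3 x, pow_succ, pow_two])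

theorem eq_one_of_eq_inv {x : E} (h : x = x⁻¹) : x = 1 := by
  have h1 := sq_eq_inv h3 x
  rw [← h] at h1
  exact mul_eq_left.1 h1

include hE

/-- An involutory automorphism other than inversion fixes exactly three elements, and every
element is a product of a fixed and an inverted one. -/
theorem split {s : MulAut E} (hs : s * s = 1) (hne : s ≠ invAut) (h1 : s ≠ 1) :
    (∃ x : E, x ≠ 1 ∧ s x = x ∧ ∀ y, s y = y → y = 1 ∨ y = x ∨ y = x⁻¹) ∧
    (∃ x : E, x ≠ 1 ∧ s x = x⁻¹ ∧ ∀ y, s y = y⁻¹ → y = 1 ∨ y = x ∨ y = x⁻¹) ∧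
    ∀ e : E, ∃ x y, s x = x ∧ s y = y⁻¹ ∧ e = x * y := by
  have hss : ∀ e, s (s e) = e := fun e => by
    rw [← MulAut.mul_apply, hs, MulAut.one_apply]
  have hdec : ∀ e : E, ∃ x y, s x = x ∧ s y = y⁻¹ ∧ e = x * y := by
    intro e
    refine ⟨(e * s e)⁻¹, (e * (s e)⁻¹)⁻¹, ?_, ?_, ?_⟩
    · simp [hss, mul_comm]
    · simp [hss, mul_comm]
    · calc e = (e⁻¹) * (e⁻¹) := by rw [sq_eq_inv h3, inv_inv]
        _ = _ := by
          simp [mul_inv_rev, mul_comm, mul_assoc, mul_left_comm]
  let Fx : Subgroup E := (MonoidHom.id E).eqLocus s.toMonoidHom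
  let Iv : Subgroup E := (invAut (E := E)).toMonoidHom.eqLocus s.toMonoidHom
  have hline : ∀ H : Subgroup E, H ≠ ⊤ → H ≠ ⊥ →
      ∃ x : E, x ≠ 1 ∧ x ∈ H ∧ ∀ y ∈ H, y = 1 ∨ y = x ∨ y = x⁻¹ := by
    intro H ht hb
    have hd : Nat.card H ∣ 3 ^ 2 := by
      have h9 := H.card_subgroup_dvd_card
      rwa [hE, show (9 : ℕ) = 3 ^ 2 from rfl] at h9
    obtain ⟨i, hi, hi'⟩ := (Nat.dvd_prime_pow Nat.prime_three).1 hd
    interval_cases i
    · exact absurd (eq_bot_of_card_eq H (by simpa using hi')) hb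
    · haveI : Fact (Nat.Prime 3) := ⟨Nat.prime_three⟩
      obtain ⟨x, hx⟩ := exists_prime_orderOf_dvd_card' (G := H) 3 (by rw [hi', pow_one])
      have hx1 : (x : E) ≠ 1 := fun h => by
        rw [← Subgroup.orderOf_coe, h, orderOf_one] at hx
        norm_num at hx
      refine ⟨x, hx1, x.2, fun y hy => ?_⟩
      have hz : zpowers (x : E) = H := eq_of_le_of_card_ge (zpowers_le.2 x.2) (by
        rw [Nat.card_zpowers, Subgroup.orderOf_coe, hx, hi']; norm_num)
      rw [← hz] at hy
      obtain ⟨k, rfl⟩ := mem_zpowers_iff.1 hy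
      rw [← zpow_mod_orderOf (x : E) k, Subgroup.orderOf_coe, hx]
      have h0 := Int.emod_nonneg k (show ((3 : ℕ) : ℤ) ≠ 0 by norm_num)
      have h2 := Int.emod_lt_of_pos k (show (0 : ℤ) < ((3 : ℕ) : ℤ) by norm_num)
      generalize k % ((3 : ℕ) : ℤ) = r at h0 h2
      interval_cases r
      · exact Or.inl (zpow_zero _)
      · exact Or.inr (Or.inl (zpow_one _))
      · exact Or.inr (Or.inr (by rw [zpow_two, sq_eq_inv h3]))
    · exact absurd (eq_top_of_card_eq H (by rw [hi', hE]; norm_num)) ht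
  refine ⟨?_, ?_, hdec⟩
  · obtain ⟨x, hx1, hx, hxy⟩ := hline Fx
      (fun h => h1 (MulEquiv.ext fun e => ((h ▸ mem_top e : e ∈ Fx) : e = s e).symm))
      (fun h => hne (MulEquiv.ext fun e => by
        obtain ⟨x, y, hx, hy, rfl⟩ := hdec e
        have hxb : x ∈ (⊥ : Subgroup E) := h ▸ (show x = s x from hx.symm)
        rw [Subgroup.mem_bot] at hxb
        subst hxb
        rw [one_mul, hy, invAut_apply]))
    exact ⟨x, hx1, (hx : x = s x).symm, fun y hy => hxy y (show y = s y from hy.symm)⟩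
  · obtain ⟨x, hx1, hx, hxy⟩ := hline Iv
      (fun h => hne (MulEquiv.ext fun e => ((h ▸ mem_top e : e ∈ Iv) : e⁻¹ = s e).symm))
      (fun h => h1 (MulEquiv.ext fun e => by
        obtain ⟨x, y, hx, hy, rfl⟩ := hdec e
        have hyb : y ∈ (⊥ : Subgroup E) := h ▸ (show y⁻¹ = s y from hy.symm)
        rw [Subgroup.mem_bot] at hyb
        subst hyb
        rw [mul_one, hx, MulAut.one_apply]))
    exact ⟨x, hx1, (hx : x⁻¹ = s x).symm, fun y hy => hxy y (show y⁻¹ = s y from hy.symm)⟩

/-- A 2-group of automorphisms of order at least 4 contains inversion. -/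
theorem exists_inversion {I : Subgroup (MulAut E)} (hI : IsPGroup 2 I) (h4 : 4 ≤ Nat.card I) :
    ∃ f ∈ I, ∀ x, f x = x⁻¹ := by
  haveI : Fact (Nat.Prime 2) := ⟨Nat.prime_two⟩
  suffices invAut ∈ I from ⟨invAut, this, invAut_apply⟩
  by_contra hno
  by_cases hsq : ∀ a ∈ I, a * a = 1
  · obtain ⟨a, b, ha, hb, ha1, hb1, hab⟩ :
        ∃ a b, a ∈ I ∧ b ∈ I ∧ a ≠ 1 ∧ b ≠ 1 ∧ a ≠ b := by
      classical
      haveI := Fintype.ofFinite I
      have hlt : 2 < (Finset.univ : Finset I).card := by
        rw [Finset.card_univ, ← Nat.card_eq_fintype_card]; omega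
      obtain ⟨a, ⟨-, ha⟩⟩ : ∃ a, a ∈ (Finset.univ : Finset I) ∧ a ≠ 1 :=
        Finset.exists_mem_ne (by omega) 1
      obtain ⟨b, hb⟩ : ∃ b : I, b ≠ 1 ∧ b ≠ a := by
        by_contra! h
        have hsub : (Finset.univ : Finset I) ⊆ {1, a} := fun b _ => by
          by_cases hb : b = 1
          · simp [hb]
          · simp [h b hb]
        have := (Finset.card_le_card hsub).trans Finset.card_le_two
        omega
      exact ⟨a, b, a.2, b.2, fun h => ha (Subtype.ext h), fun h => hb.1 (Subtype.ext h),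
        fun h => hb.2 (Subtype.ext h.symm)⟩
    have hane : a ≠ invAut := fun h => hno (h ▸ ha)
    obtain ⟨⟨x, hx1, hx, hxy⟩, ⟨y, hy1, hy, hyy⟩, hdec⟩ := split hE h3 (hsq a ha) hane ha1
    have hcomm : a * b = b * a := by
      have := hsq _ (mul_mem ha hb)
      have e1 : (a * b)⁻¹ = a * b := inv_eq_of_mul_eq_one_right this
      rw [mul_inv_rev, inv_eq_of_mul_eq_one_right (hsq a ha),
        inv_eq_of_mul_eq_one_right (hsq b hb)] at e1
      exact e1.symm
    have hcx : a (b x) = b x := by rw [← MulAut.mul_apply, hcomm, MulAut.mul_apply, hx]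
    have hcy : a (b y) = (b y)⁻¹ := by
      rw [← MulAut.mul_apply, hcomm, MulAut.mul_apply, hy, map_inv]
    have hbx : b x = x ∨ b x = x⁻¹ :=
      (hxy _ hcx).resolve_left fun h => hx1 ((EquivLike.injective b) (h.trans (map_one b).symm))
    have hby : b y = y ∨ b y = y⁻¹ :=
      (hyy _ hcy).resolve_left fun h => hy1 ((EquivLike.injective b) (h.trans (map_one b).symm))
    have gen : ∀ f g : MulAut E, f x = g x → f y = g y → f = g := fun f g h1 h2 =>
      MulEquiv.ext fun e => by
        obtain ⟨x', y', hx', hy', rfl⟩ := hdec e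
        have e1 : f x' = g x' := by
          rcases hxy x' hx' with h | h | h <;> subst h <;> simp [h1]
        have e2 : f y' = g y' := by
          rcases hyy y' hy' with h | h | h <;> subst h <;> simp [h2]
        rw [map_mul, map_mul, e1, e2]
    rcases hbx with hbx | hbx <;> rcases hby with hby | hby
    · exact hb1 (gen _ _ (by simp [hbx]) (by simp [hby]))
    · exact hab (gen _ _ (by rw [hx, hbx]) (by rw [hy, hby]))
    · refine hno ?_
      rw [show (invAut : MulAut E) = a * b from gen _ _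
        (by simp [invAut_apply, hbx, hx]) (by simp [invAut_apply, hby, hy])]
      exact mul_mem ha hb
    · exact hno (by rw [show (invAut : MulAut E) = b from gen _ _
        (by simp [invAut_apply, hbx]) (by simp [invAut_apply, hby])]; exact hb)
  · push_neg at hsq
    obtain ⟨a, ha, ha2⟩ := hsq
    obtain ⟨k, hk⟩ := hI.exists_orderOf_eq_pow ⟨a, ha⟩ 
    rw [Subgroup.orderOf_mk] at hk
    have hk2 : 2 ≤ k := by
      by_contra hlt
      refine ha2 ?_
      rw [← pow_two]
      exact orderOf_dvd_iff_pow_eq_one.1 (hk ▸ (pow_dvd_pow 2 (by omega)).trans (dvd_of_eq (pow_one 2)))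
    set c := a ^ 2 ^ (k - 2) with hc
    set s := c * c with hs
    have hcI : c ∈ I := pow_mem ha _
    have hss : s * s = 1 := by
      rw [hs, hc, ← pow_add, ← pow_add]
      apply orderOf_dvd_iff_pow_eq_one.1
      rw [hk, show 2 ^ k = 2 ^ 2 * 2 ^ (k - 2) by rw [← pow_add]; congr 1; omega]
      exact dvd_of_eq (by ring)
    have hs1 : s ≠ 1 := by
      rw [hs, hc, ← pow_add]
      refine pow_ne_one_of_lt_orderOf (by positivity) ?_
      rw [hk, show 2 ^ k = 2 ^ 2 * 2 ^ (k - 2) by rw [← pow_add]; congr 1; omega]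
      have : 0 < 2 ^ (k - 2) := by positivity
      omega
    have hsne : s ≠ invAut := fun h => hno (h ▸ mul_mem hcI hcI)
    obtain ⟨⟨x, hx1, hx, hxy⟩, ⟨y, hy1, hy, hyy⟩, hdec⟩ := split hE h3 hss hsne hs1
    have hcs : ∀ e, s (c e) = c (s e) := fun e => by simp [hs, MulAut.mul_apply]
    have hcc : ∀ z, (c z = z ∨ c z = z⁻¹) → s z = z := fun z hz => by
      rcases hz with h | h <;> simp [hs, MulAut.mul_apply, h]
    have hc1 : ∀ z : E, z ≠ 1 → c z ≠ 1 := fun z hz h =>
      hz ((EquivLike.injective c) (h.trans (map_one c).symm))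
    have hy' : s y = y :=
      hcc y ((hyy _ (by rw [hcs, hy, map_inv])).resolve_left (hc1 y hy1))
    rw [hy'] at hy
    exact hy1 (eq_one_of_eq_inv h3 hy)

end NineAut

theorem orderOf_dvd_card_of_mem {H : Type*} [Group H] {N : Subgroup H} {x : H} (hx : x ∈ N) :
    orderOf x ∣ Nat.card N := by
  rw [← Subgroup.orderOf_mk x hx]; exact orderOf_dvd_natCard _

/-- Burnside's normal complement for a Sylow subgroup `R` of a subgroup `C`. -/
theorem exists_complement {G : Type*} [Group G] [Finite G] {C R : Subgroup G} {k m : ℕ}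
    (hRC : R ≤ C) (hR : Nat.card R = 3 ^ k) (hC : Nat.card C = 3 ^ k * m) (hm : ¬ 3 ∣ m)
    (hcen : C ⊓ normalizer (R : Set G) ≤ centralizer (R : Set G)) :
    ∃ U : Subgroup G, U ≤ C ∧ Nat.card U = m ∧ ∀ g ∈ normalizer (C : Set G),
      g ∈ normalizer (U : Set G) := by
  haveI : Fact (Nat.Prime 3) := ⟨Nat.prime_three⟩
  have hR' : Nat.card (R.subgroupOf C) = 3 ^ k :=
    (Nat.card_congr (subgroupOfEquivOfLe hRC).toEquiv).trans hR
  have hfac : (Nat.card C).factorization 3 = k := by
    rw [hC, Nat.factorization_mul (pow_ne_zero k (by norm_num))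
      (fun h => hm (by rw [h]; exact dvd_zero 3))]
    simp [Nat.Prime.factorization_pow Nat.prime_three, Nat.factorization_eq_zero_of_not_dvd hm]
  let P : Sylow 3 C := Sylow.ofCard (R.subgroupOf C) (by rw [hR', hfac])
  have hP : normalizer ((P : Subgroup C) : Set C) ≤ centralizer ((P : Subgroup C) : Set C) := by
    intro x hx
    have hx' : x ∈ normalizer ((R.subgroupOf C : Subgroup C) : Set C) := hx
    rw [← subgroupOf_normalizer_eq hRC] at hx'
    rw [mem_centralizer_iff]
    intro r hr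
    exact Subtype.ext (mem_centralizer_iff.1 (hcen ⟨x.2, hx'⟩) r (show (r : G) ∈ R from hr))
  set N := (MonoidHom.transferSylow P hP).ker with hN
  have hcompl := MonoidHom.ker_transferSylow_isComplement' P hP
  have hmul := hcompl.card_mul
  rw [show Nat.card (P : Subgroup C) = 3 ^ k from hR', hC] at hmul
  have hNm : Nat.card N = m := Nat.eq_of_mul_eq_mul_left (show 0 < 3 ^ k by positivity)
    (by rw [← hN] at hmul; linarith)
  have hmem : ∀ x : C, x ∈ N ↔ ¬ 3 ∣ orderOf x := by
    intro x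
    constructor
    · intro hx h
      exact hm (hNm ▸ h.trans (orderOf_dvd_card_of_mem hx))
    · intro h
      rw [hN, MonoidHom.mem_ker, ← orderOf_eq_one_iff]
      obtain ⟨i, -, hi⟩ := (Nat.dvd_prime_pow Nat.prime_three).1
        ((_root_.orderOf_dvd_natCard (MonoidHom.transferSylow P hP x)).trans
          (dvd_of_eq (show Nat.card (P : Subgroup C) = 3 ^ k from hR')))
      rcases Nat.eq_zero_or_pos i with rfl | hpos
      · rw [hi, pow_zero]
      · exact absurd ((dvd_pow_self 3 hpos.ne').trans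
          (hi ▸ orderOf_map_dvd (MonoidHom.transferSylow P hP) x)) h
  refine ⟨N.map C.subtype, map_subtype_le _, by
    rw [card_map_of_injective C.subtype_injective, hNm], fun g hg => ?_⟩
  have key : ∀ g ∈ normalizer (C : Set G), ∀ x ∈ N.map C.subtype,
      g * x * g⁻¹ ∈ N.map C.subtype := by
    rintro g hg _ ⟨x, hx, rfl⟩
    refine ⟨⟨g * x * g⁻¹, (mem_normalizer_iff.1 hg x).1 x.2⟩, ?_, rfl⟩
    rw [SetLike.mem_coe, hmem, ← Subgroup.orderOf_coe]
    rw [SetLike.mem_coe, hmem, ← Subgroup.orderOf_coe] at hx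
    show ¬ 3 ∣ orderOf (MulAut.conj g (x : G))
    rwa [MulEquiv.orderOf_eq (MulAut.conj g)]
  rw [mem_normalizer_iff]
  refine fun x => ⟨key g hg x, fun h => ?_⟩
  have := key g⁻¹ (inv_mem hg) _ h
  simpa [mul_assoc] using this

end CfsgLib.G2Recog
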