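import Mathlib
import Cfsg.Agent.G2TwoRecog.Tools
import Cfsg.Agent.SplitBN.SmallChev
import Cfsg.Agent.Transfer.WielandtYoshidaApps
import Cfsg.Agent.Solvable.MaximalClass

/-!
# Sylow 3-subgroups of a simple group of order 6048

For a simple group of order 6048 without elements of order 9, 16 or 21 a Sylow 3-subgroup has a
normalizer of order 216 and meets no other Sylow 3-subgroup in a subgroup of order 9.
-/

set_option autoImplicit false
set_option linter.style.haveILetI false
set_option linter.unusedSectionVars false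

namespace CfsgLib.G2Recog

open Subgroup MulAction
open scoped commutatorElement Pointwise

/-- The hypotheses on the simple group. -/
structure Hyp (G : Type*) [Group G] : Prop where
  card : Nat.card G = 6048
  no9 : ∀ g : G, orderOf g ≠ 9
  no16 : ∀ g : G, orderOf g ≠ 16
  no21 : ∀ g : G, orderOf g ≠ 21

instance fact_three : Fact (Nat.Prime 3) := ⟨Nat.prime_three⟩

instance fact_two : Fact (Nat.Prime 2) := ⟨Nat.prime_two⟩

theorem factorization_eq {p k m : ℕ} (hp : p.Prime) (hm : ¬ p ∣ m) :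
    (p ^ k * m).factorization p = k := by
  rw [Nat.factorization_mul (pow_ne_zero k hp.ne_zero) (fun e => hm (by rw [e]; exact dvd_zero p))]
  simp [Nat.factorization_eq_zero_of_not_dvd hm, Nat.Prime.factorization_pow hp]

theorem commute_of_cyclic {C : Type*} [Group C] [IsCyclic C] (a b : C) : Commute a b :=
  (IsCyclic.commGroup (α := C)).mul_comm a b

variable {G : Type*} [Group G] [Finite G]

/-- The normalizer of a Sylow subgroup. -/
abbrev NP (P : Sylow 3 G) : Subgroup G := normalizer ((P : Subgroup G) : Set G)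

namespace Hyp

variable (h : Hyp G)
include h

theorem card_sylow (P : Sylow 3 G) : Nat.card (P : Subgroup G) = 27 := by
  rw [P.card_eq_multiplicity, h.card]
  have : (6048 : ℕ).factorization 3 = 3 := by
    rw [show (6048 : ℕ) = 3 ^ 3 * 224 by norm_num, factorization_eq Nat.prime_three (by norm_num)]
  rw [this]
  norm_num

theorem pow_three (P : Sylow 3 G) {x : G} (hx : x ∈ (P : Subgroup G)) : x ^ 3 = 1 := by
  have h1 : orderOf x ∣ 3 ^ 3 := by
    have := orderOf_dvd_card_of_mem hx
    rwa [h.card_sylow P] at this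
  obtain ⟨i, hi, hi'⟩ := (Nat.dvd_prime_pow Nat.prime_three).1 h1
  interval_cases i
  · exact orderOf_dvd_iff_pow_eq_one.1 (hi' ▸ one_dvd 3)
  · exact orderOf_dvd_iff_pow_eq_one.1 (dvd_of_eq hi')
  · exact absurd hi' (h.no9 x)
  · refine absurd ?_ (h.no9 (x ^ 3))
    rw [orderOf_pow' x (by norm_num : (3 : ℕ) ≠ 0), hi']
    norm_num

theorem exists_pow_subgroup {H : Subgroup G} {n : ℕ} (hH : Nat.card H = 3 ^ n) :
    ∀ x ∈ H, x ^ 3 = 1 := by
  obtain ⟨Q, hQ⟩ := (IsPGroup.of_card hH).exists_le_sylow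
  exact fun x hx => h.pow_three Q (hQ hx)

variable [IsSimpleGroup G]

/-- A proper subgroup of order divisible by 27 has order `27 · 2^i` with `i ≤ 4`. -/
theorem card_cases {M : Subgroup G} (h27 : 27 ∣ Nat.card M) (hM : M ≠ ⊤) :
    ∃ i, i ≤ 4 ∧ Nat.card M = 27 * 2 ^ i := by
  have hd := CfsgLib.SplitBN.SmallChev.card_dvd_factorial hM
  rw [h.card] at hd
  have hmul := M.card_mul_index
  rw [h.card] at hmul
  have h9 : 9 ≤ M.index := by
    by_contra hlt
    push_neg at hlt
    revert hd
    generalize M.index = d at hlt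
    intro hd
    interval_cases d <;> norm_num [Nat.factorial] at hd
  obtain ⟨m, hm⟩ := h27
  have hm224 : m * M.index = 224 := by
    rw [hm, mul_assoc] at hmul
    omega
  have hmd : m ∈ Nat.divisors 224 := Nat.mem_divisors.2 ⟨⟨_, hm224.symm⟩, by norm_num⟩
  have hm24 : m * 9 ≤ 224 := hm224 ▸ Nat.mul_le_mul_left m h9
  have hmem : m ∈ [1, 2, 4, 8, 16] ∨ m = 7 ∨ m = 14 := by
    rw [show Nat.divisors 224 = {1, 2, 4, 7, 8, 14, 16, 28, 32, 56, 112, 224} by decide +kernel]
      at hmd
    simp at hmd ⊢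
    omega
  rcases hmem with hmem | hseven
  · simp only [List.mem_cons, List.not_mem_nil, or_false] at hmem
    rcases hmem with rfl | rfl | rfl | rfl | rfl
    exacts [⟨0, by norm_num, hm⟩, ⟨1, by norm_num, hm⟩, ⟨2, by norm_num, hm⟩,
      ⟨3, by norm_num, hm⟩, ⟨4, by norm_num, hm⟩]
  exfalso
  haveI : Fact (Nat.Prime 7) := ⟨by norm_num⟩
  obtain ⟨Q⟩ : Nonempty (Sylow 7 M) := inferInstance
  have hQc : Nat.card (Q : Subgroup M) = 7 := by
    rw [Q.card_eq_multiplicity]
    have : (Nat.card M).factorization 7 = 1 := by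
      rw [hm]
      rcases hseven with rfl | rfl
      · rw [Nat.factorization_mul (by norm_num) (by norm_num)]
        simp [Nat.Prime.factorization (show Nat.Prime 7 by norm_num),
          Nat.factorization_eq_zero_of_not_dvd (show ¬ 7 ∣ 27 by norm_num)]
      · rw [show 27 * 14 = 54 * 7 by norm_num, Nat.factorization_mul (by norm_num) (by norm_num)]
        simp [Nat.Prime.factorization (show Nat.Prime 7 by norm_num),
          Nat.factorization_eq_zero_of_not_dvd (show ¬ 7 ∣ 54 by norm_num)]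
    rw [this, pow_one]
  have hone : Nat.card (Sylow 7 M) = 1 := by
    have h1 : Nat.card (Sylow 7 M) % 7 = 1 := card_sylow_modEq_one 7 M
    have h2 := Q.card_dvd_index
    have h3 := (Q : Subgroup M).card_mul_index
    rw [hQc, hm] at h3
    have h4 : (Q : Subgroup M).index ∣ 54 := by
      rcases hseven with rfl | rfl
      · exact ⟨2, by omega⟩
      · exact ⟨1, by omega⟩
    have h5 : Nat.card (Sylow 7 M) ∈ Nat.divisors 54 :=
      Nat.mem_divisors.2 ⟨h2.trans h4, by norm_num⟩
    rw [show Nat.divisors 54 = {1, 2, 3, 6, 9, 18, 27, 54} by decide +kernel] at h5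
    simp at h5
    omega
  haveI : Subsingleton (Sylow 7 M) := (Nat.card_eq_one_iff_unique.1 hone).1
  haveI hn : (Q : Subgroup M).Normal := Q.normal_of_subsingleton
  set f := MulAut.conjNormal (H := (Q : Subgroup M)) with hf
  haveI : IsCyclic (Q : Subgroup M) := isCyclic_of_prime_card hQc
  have haut : Nat.card (MulAut (Q : Subgroup M)) = 6 := by
    rw [IsCyclic.card_mulAut, hQc, Nat.totient_prime (by norm_num)]
  have hr : Nat.card f.range ∣ 6 := haut ▸ f.range.card_subgroup_dvd_card
  have hk := f.ker.card_mul_index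
  rw [index_ker, hm] at hk
  have h3k : 3 ∣ Nat.card f.ker := by
    have hcop : Nat.Coprime 3 (Nat.card f.range) ∨ Nat.card f.range = 3 ∨ Nat.card f.range = 6 := by
      have h5 : Nat.card f.range ∈ Nat.divisors 6 := Nat.mem_divisors.2 ⟨hr, by norm_num⟩
      rw [show Nat.divisors 6 = {1, 2, 3, 6} by decide +kernel] at h5
      simp only [Finset.mem_insert, Finset.mem_singleton] at h5
      rcases h5 with h5 | h5 | h5 | h5 <;> rw [h5] <;> norm_num
    rcases hcop with hc | hc | hc
    · exact hc.dvd_of_dvd_mul_right ⟨9 * m, by rw [hk]; ring⟩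
    · rw [hc] at hk; exact ⟨3 * m, by omega⟩
    · rw [hc] at hk
      rcases hseven with rfl | rfl <;> omega
  obtain ⟨y, hy⟩ := exists_prime_orderOf_dvd_card' (G := f.ker) 3 h3k
  obtain ⟨x, hx⟩ := exists_prime_orderOf_dvd_card' (G := (Q : Subgroup M)) 7 (by rw [hQc])
  have hxy : Commute ((y : M) : M) (x : M) := by
    have h6 := MonoidHom.mem_ker.1 y.2
    have h7 := congrArg (fun a : MulAut (Q : Subgroup M) => ((a x : (Q : Subgroup M)) : M)) h6
    simp only [MulAut.one_apply, hf, MulAut.conjNormal_apply] at h7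
    exact mul_inv_eq_iff_eq_mul.1 h7
  refine h.no21 (((y : M) * (x : M) : M) : G) ?_
  rw [Subgroup.orderOf_coe, hxy.orderOf_mul_eq_mul_orderOf_of_coprime, Subgroup.orderOf_coe,
    Subgroup.orderOf_coe, hx, hy]
  rw [Subgroup.orderOf_coe, Subgroup.orderOf_coe, hx, hy]
  norm_num

theorem normalizer_ne_top {V : Subgroup G} (hb : V ≠ ⊥) (hV : Nat.card V < 6048) :
    normalizer (V : Set G) ≠ ⊤ := fun ht => by
  haveI : V.Normal := normalizer_eq_top_iff.1 ht
  rcases Subgroup.Normal.eq_bot_or_eq_top ‹V.Normal› with e | e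
  · exact hb e
  · rw [e, card_top, h.card] at hV; exact lt_irrefl _ hV

theorem le_normalizer_ne_top {V : Subgroup G} {n : ℕ} (hV : Nat.card V = n) (h1 : 1 < n)
    (h2 : n < 6048) : normalizer (V : Set G) ≠ ⊤ :=
  h.normalizer_ne_top (fun e => by rw [e, card_bot] at hV; omega) (hV ▸ h2)

/-- No group of order 16 is normalised by a Sylow 3-subgroup. -/
theorem no_sixteen {U : Subgroup G} (hU : Nat.card U = 16) (P : Sylow 3 G)
    (hP : (P : Subgroup G) ≤ normalizer (U : Set G)) : False := by
  obtain ⟨T, hT⟩ := (IsPGroup.of_card (p := 2) (n := 4) (by rw [hU]; norm_num)).exists_le_sylow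
  have hTc : Nat.card (T : Subgroup G) = 32 := by
    rw [T.card_eq_multiplicity, h.card]
    have : (6048 : ℕ).factorization 2 = 5 := by
      rw [show (6048 : ℕ) = 2 ^ 5 * 189 by norm_num, factorization_eq Nat.prime_two (by norm_num)]
    rw [this]; norm_num
  have hTn : (T : Subgroup G) ≤ normalizer (U : Set G) := by
    rw [← normal_subgroupOf_iff_le_normalizer hT]
    refine normal_of_index_eq_minFac_card ?_
    have h1 := (U.subgroupOf T).card_mul_index
    rw [Nat.card_congr (subgroupOfEquivOfLe hT).toEquiv, hU, hTc] at h1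
    rw [hTc, show (32 : ℕ).minFac = 2 by norm_num]
    omega
  have h27 : 27 ∣ Nat.card (normalizer (U : Set G)) := h.card_sylow P ▸ card_dvd_of_le hP
  obtain ⟨i, hi, hc⟩ := h.card_cases h27 (h.le_normalizer_ne_top hU (by norm_num) (by norm_num))
  have h32 := card_dvd_of_le hTn
  rw [hTc, hc] at h32
  interval_cases i <;> norm_num at h32

theorem sylow_ne_bot (P : Sylow 3 G) : (P : Subgroup G) ≠ ⊥ := fun e => by
  have := h.card_sylow P
  rw [e, card_bot] at this
  omega

theorem index_normalizer (P : Sylow 3 G) :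
    (Nat.card (NP P) = 216 ∧ Nat.card (Sylow 3 G) = 28) ∨
      (Nat.card (NP P) = 54 ∧ Nat.card (Sylow 3 G) = 112) := by
  have hPN : (P : Subgroup G) ≤ NP P := le_normalizer
  obtain ⟨i, hi, hc⟩ := h.card_cases (h.card_sylow P ▸ card_dvd_of_le hPN)
    (h.le_normalizer_ne_top (h.card_sylow P) (by norm_num) (by norm_num))
  have h1 := P.card_eq_index_normalizer
  have h2 : Nat.card (NP P) * (NP P).index = 6048 := h.card ▸ (NP P).card_mul_index
  have h3 : Nat.card (Sylow 3 G) % 3 = 1 := card_sylow_modEq_one 3 G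
  rw [← P.coe_coe] at h1
  change Nat.card (Sylow 3 G) = (NP P).index at h1
  rw [← h1, hc] at h2
  rw [hc]
  generalize Nat.card (Sylow 3 G) = n at h2 h3
  interval_cases i <;> omega

/-- The Sylow subgroup lies in the derived group of its normalizer. -/
theorem le_commutator (hnc : ¬ IsMulCommutative G) (P : Sylow 3 G) :
    (P : Subgroup G) ≤ ⁅NP P, NP P⁆ := by
  have htop : commutator G = ⊤ := by
    rcases Subgroup.Normal.eq_bot_or_eq_top (inferInstance : (commutator G).Normal) with e | e
    · exact absurd ⟨⟨fun a b => by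
        have h1 : ⁅a, b⁆ ∈ commutator G :=
          Subgroup.commutator_mem_commutator (mem_top a) (mem_top b)
        rw [e, mem_bot] at h1
        exact commutatorElement_eq_one_iff_mul_comm.1 h1⟩⟩ hnc
    · exact e
  by_contra hle
  obtain ⟨Q, ψ, hψ⟩ := CfsgLib.WY.exists_wreath P (by
    rw [htop, inf_top_eq]
    exact fun e => hle (e.le.trans inf_le_right))
  have h1 := Nat.card_le_card_of_surjective ψ hψ
  rw [h.card_sylow P, Q.card_eq_multiplicity, Nat.card_perm, Nat.card_eq_fintype_card,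
    Fintype.card_fin] at h1
  have : (Nat.factorial (3 ^ 2)).factorization 3 = 4 := by
    rw [show Nat.factorial (3 ^ 2) = 3 ^ 4 * 4480 by norm_num [Nat.factorial],
      factorization_eq Nat.prime_three (by norm_num)]
  rw [this] at h1
  norm_num at h1

/-- If `N(P) = P ∪ tP`, there is no proper subgroup of `P` with commutative quotient of `N(P)`. -/
theorem hw_two (hnc : ¬ IsMulCommutative G) (P : Sylow 3 G) (hN : Nat.card (NP P) = 54)
    {M : Subgroup G} {t : G} (ht : t ∈ NP P) (htP : t ∉ (P : Subgroup G))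
    (hMP : M ≤ (P : Subgroup G)) (hne : ¬ (P : Subgroup G) ≤ M)
    (hnP : (P : Subgroup G) ≤ normalizer (M : Set G)) (hnt : t ∈ normalizer (M : Set G))
    (hPP : ∀ a ∈ (P : Subgroup G), ∀ b ∈ (P : Subgroup G), ⁅a, b⁆ ∈ M)
    (htp : ∀ a ∈ (P : Subgroup G), ⁅t, a⁆ ∈ M) : False := by
  set N := NP P with hNdef
  have hPN : (P : Subgroup G) ≤ N := le_normalizer
  have hidx : ((P : Subgroup G).subgroupOf N).index = 2 := by
    have h1 := ((P : Subgroup G).subgroupOf N).card_mul_index
    rw [Nat.card_congr (subgroupOfEquivOfLe hPN).toEquiv, h.card_sylow P, hN] at h1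
    omega
  have cover : ∀ x ∈ N, x ∈ (P : Subgroup G) ∨ ∃ p ∈ (P : Subgroup G), x = t * p := by
    intro x hx
    by_cases hxP : x ∈ (P : Subgroup G)
    · exact Or.inl hxP
    · refine Or.inr ⟨t⁻¹ * x, ?_, by group⟩
      have h2 := (Subgroup.mul_mem_iff_of_index_two hidx (a := (⟨t, ht⟩ : N)⁻¹)
        (b := ⟨x, hx⟩)).2 ?_
      · exact h2
      · simp [mem_subgroupOf, htP, hxP]
  have hnN : N ≤ normalizer (M : Set G) := by
    intro x hx
    rcases cover x hx with hx | ⟨p, hp, rfl⟩
    exacts [hnP hx, mul_mem hnt (hnP hp)]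
  have hMN : M ≤ N := hMP.trans hPN
  haveI : (M.subgroupOf N).Normal := (normal_subgroupOf_iff_le_normalizer hMN).2 hnN
  let q := QuotientGroup.mk' (M.subgroupOf N)
  have hc : ∀ a b : N, ⁅(a : G), (b : G)⁆ ∈ M → Commute (q a) (q b) := fun a b hab => by
    rw [← commutatorElement_eq_one_iff_commute, ← map_commutatorElement]
    exact (QuotientGroup.eq_one_iff (N := M.subgroupOf N) _).2 (mem_subgroupOf.2 hab)
  let tn : N := ⟨t, ht⟩
  have hall : ∀ a b : N, Commute (q a) (q b) := by
    intro a b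
    have hta : ∀ c : N, (c : G) ∈ (P : Subgroup G) → Commute (q tn) (q c) := fun c hc' =>
      hc tn c (htp _ hc')
    have hpp : ∀ c d : N, (c : G) ∈ (P : Subgroup G) → (d : G) ∈ (P : Subgroup G) →
        Commute (q c) (q d) := fun c d h1 h2 => hc c d (hPP _ h1 _ h2)
    rcases cover a a.2 with ha | ⟨a', ha', hae⟩ <;> rcases cover b b.2 with hb | ⟨b', hb', hbe⟩
    · exact hpp a b ha hb
    · rw [show b = tn * ⟨b', hPN hb'⟩ from Subtype.ext hbe, map_mul]
      exact ((hta a ha).symm).mul_right (hpp a _ ha hb')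
    · rw [show a = tn * ⟨a', hPN ha'⟩ from Subtype.ext hae, map_mul]
      exact (hta b hb).mul_left (hpp _ b ha' hb)
    · rw [show a = tn * ⟨a', hPN ha'⟩ from Subtype.ext hae,
        show b = tn * ⟨b', hPN hb'⟩ from Subtype.ext hbe, map_mul, map_mul]
      exact ((Commute.refl _).mul_right (hta _ hb')).mul_left
        (((hta _ ha').symm).mul_right (hpp _ _ ha' hb'))
  refine hne ((h.le_commutator hnc P).trans (commutator_le.2 fun a ha b hb => ?_))
  have h3 := commutatorElement_eq_one_iff_commute.2 (hall ⟨a, ha⟩ ⟨b, hb⟩)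
  rw [← map_commutatorElement] at h3
  exact mem_subgroupOf.1 ((QuotientGroup.eq_one_iff (N := M.subgroupOf N) _).1 h3)

/-- A subgroup of order 9 is normalised by every Sylow 3-subgroup containing it. -/
theorem le_normalizer_of_nine {D : Subgroup G} (hD : Nat.card D = 9) (Q : Sylow 3 G)
    (hDQ : D ≤ Q) : (Q : Subgroup G) ≤ normalizer (D : Set G) := by
  rw [← normal_subgroupOf_iff_le_normalizer hDQ]
  refine normal_of_index_eq_minFac_card ?_
  have h1 := (D.subgroupOf Q).card_mul_index
  rw [Nat.card_congr (subgroupOfEquivOfLe hDQ).toEquiv, hD, h.card_sylow Q] at h1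
  rw [h.card_sylow Q, show (27 : ℕ).minFac = 3 by norm_num]
  omega

theorem commutator_mem_nine {D : Subgroup G} (hD : Nat.card D = 9) (P : Sylow 3 G)
    (hDP : D ≤ P) : ∀ a ∈ (P : Subgroup G), ∀ b ∈ (P : Subgroup G), ⁅a, b⁆ ∈ D := by
  intro a ha b hb
  haveI : (D.subgroupOf P).Normal :=
    (normal_subgroupOf_iff_le_normalizer hDP).2 (h.le_normalizer_of_nine hD P hDP)
  have hc : Nat.card ((P : Subgroup G) ⧸ D.subgroupOf P) = 3 := by
    have h1 := (D.subgroupOf P).card_mul_index
    rw [Nat.card_congr (subgroupOfEquivOfLe hDP).toEquiv, hD, h.card_sylow P] at h1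
    rw [← Subgroup.index]
    omega
  haveI : IsCyclic ((P : Subgroup G) ⧸ D.subgroupOf P) := isCyclic_of_prime_card hc
  have h2 : ⁅(⟨a, ha⟩ : (P : Subgroup G)), ⟨b, hb⟩⁆ ∈ D.subgroupOf P := by
    rw [← QuotientGroup.eq_one_iff, ← QuotientGroup.mk'_apply, map_commutatorElement,
      commutatorElement_eq_one_iff_commute]
    exact commute_of_cyclic _ _
  exact h2

end Hyp

namespace Hyp

variable (h : Hyp G) [IsSimpleGroup G]
include h

/-- Sylow 3-subgroups inside a subgroup containing one of them. -/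
theorem card_over (P : Sylow 3 G) {K : Subgroup G} (hPK : (P : Subgroup G) ≤ K) :
    ∃ n, n * Nat.card (K ⊓ NP P : Subgroup G) = Nat.card K ∧ n % 3 = 1 ∧
      Nat.card {Q : Sylow 3 G // (Q : Subgroup G) ≤ K} = n := by
  refine ⟨Nat.card (Sylow 3 K), ?_, card_sylow_modEq_one 3 K, ?_⟩
  · have h1 := (P.subtype hPK).card_eq_index_normalizer
    rw [h1, ← (P.subtype hPK).coe_coe, Sylow.coe_subtype, ← subgroupOf_normalizer_eq hPK]
    have h2 := ((normalizer ((P : Subgroup G) : Set G)).subgroupOf K).index_mul_card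
    rw [← h2]
    congr 1
    rw [← card_map_of_injective K.subtype_injective, subgroupOf_map_subtype, inf_comm]
  · refine Nat.card_congr (Equiv.ofBijective (fun Q => Q.1.subtype Q.2) ⟨fun Q R e => ?_, fun R => ?_⟩)
    · exact Subtype.ext (Sylow.subtype_injective e)
    · have h27 : 27 ∣ Nat.card K := h.card_sylow P ▸ card_dvd_of_le hPK
      have hR : Nat.card (R : Subgroup K) = 27 := by
        have h4 : Nat.card ((P.subtype hPK : Sylow 3 K) : Subgroup K) = 27 := by
          rw [Sylow.coe_subtype, Nat.card_congr (subgroupOfEquivOfLe hPK).toEquiv, h.card_sylow P]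
        rw [← h4, Sylow.card_eq_multiplicity, Sylow.card_eq_multiplicity]
      let Q : Sylow 3 G := Sylow.ofCard ((R : Subgroup K).map K.subtype) (by
        rw [card_map_of_injective K.subtype_injective, hR, ← h.card_sylow P,
          P.card_eq_multiplicity])
      refine ⟨⟨Q, map_subtype_le _⟩, Sylow.ext ?_⟩
      rw [Sylow.coe_subtype]
      show ((R : Subgroup K).map K.subtype).subgroupOf K = _
      rw [subgroupOf, comap_map_eq_self_of_injective K.subtype_injective]

theorem over_nine {D : Subgroup G} (hD : Nat.card D = 9) (P : Sylow 3 G) (hDP : D ≤ P)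
    (Q : Sylow 3 G) :
    (P : Subgroup G) ⊓ Q = D ↔ Q ≠ P ∧ (Q : Subgroup G) ≤ normalizer (D : Set G) := by
  constructor
  · intro e
    refine ⟨fun hQP => ?_, h.le_normalizer_of_nine hD Q (e ▸ inf_le_right)⟩
    subst hQP
    rw [inf_idem] at e
    have := h.card_sylow Q
    rw [e, hD] at this
    omega
  · rintro ⟨hne, hQ⟩
    have hDQ : D ≤ Q := by
      have hp : IsPGroup 3 ((Q : Subgroup G) ⊔ D : Subgroup G) :=
        IsPGroup.to_sup_of_normal_right' Q.2 (IsPGroup.of_card (n := 2) (by rw [hD]; norm_num)) hQ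
      exact le_sup_right.trans (Q.3 hp le_sup_left).le
    refine (eq_of_le_of_card_ge (le_inf hDP hDQ) ?_).symm
    rw [hD]
    have hd : Nat.card ((P : Subgroup G) ⊓ Q : Subgroup G) ∣ 3 ^ 3 :=
      (card_dvd_of_le inf_le_left).trans (dvd_of_eq (h.card_sylow P))
    obtain ⟨i, hi, hi'⟩ := (Nat.dvd_prime_pow Nat.prime_three).1 hd
    rw [hi']
    by_contra hlt
    have h3 : i = 3 := by
      by_contra
      have : 3 ^ i ≤ 3 ^ 2 := Nat.pow_le_pow_right (by norm_num) (by omega)
      omega
    have e1 : (P : Subgroup G) ⊓ Q = P := eq_of_le_of_card_ge inf_le_left (by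
      rw [hi', h3, h.card_sylow P]; norm_num)
    exact hne (Sylow.ext (eq_of_le_of_card_ge (e1 ▸ inf_le_right)
      (by rw [h.card_sylow P, h.card_sylow Q])).symm)

theorem card_inter_nine {D : Subgroup G} (hD : Nat.card D = 9) (P : Sylow 3 G) (hDP : D ≤ P) :
    Nat.card {Q : Sylow 3 G // (P : Subgroup G) ⊓ Q = D} + 1 =
      Nat.card {Q : Sylow 3 G // (Q : Subgroup G) ≤ normalizer (D : Set G)} := by
  classical
  haveI := Fintype.ofFinite (Sylow 3 G)
  simp only [Nat.card_eq_fintype_card, Fintype.card_subtype]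
  rw [← Finset.card_insert_of_notMem (a := P)
    (by simp [h.over_nine hD P hDP]), eq_comm]
  congr 1
  ext Q
  by_cases hQ : Q = P
  · subst hQ; simp [h.le_normalizer_of_nine hD Q hDP]
  · simp [hQ, h.over_nine hD P hDP Q]

end Hyp

/-- The setting of two Sylow subgroups meeting in a subgroup of order 9. -/
structure Inter (P : Sylow 3 G) (D : Subgroup G) (n : ℕ) : Prop where
  nine : Nat.card D = 9
  le : D ≤ (P : Subgroup G)
  count : n * Nat.card (normalizer (D : Set G) ⊓ NP P : Subgroup G) =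
    Nat.card (normalizer (D : Set G))
  mod : n % 3 = 1
  two_le : 2 ≤ n
  overK : Nat.card {Q : Sylow 3 G // (Q : Subgroup G) ≤ normalizer (D : Set G)} = n

theorem Hyp.exists_inter (h : Hyp G) [IsSimpleGroup G] (P Q : Sylow 3 G)
    (hPQ : Nat.card ((P : Subgroup G) ⊓ Q : Subgroup G) = 9) :
    ∃ n, Inter P ((P : Subgroup G) ⊓ Q) n := by
  obtain ⟨n, h1, h2, h3⟩ := h.card_over P (h.le_normalizer_of_nine hPQ P inf_le_left)
  refine ⟨n, hPQ, inf_le_left, h1, h2, ?_, h3⟩
  have h4 := h.card_inter_nine hPQ P inf_le_left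
  haveI : Nonempty {R : Sylow 3 G // (P : Subgroup G) ⊓ R = (P : Subgroup G) ⊓ Q} := ⟨⟨Q, rfl⟩⟩
  have := Nat.card_pos (α := {R : Sylow 3 G // (P : Subgroup G) ⊓ R = (P : Subgroup G) ⊓ Q})
  omega

end CfsgLib.G2Recog
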