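import Cfsg.Agent.G2TwoRecog.Twelve
import Cfsg.Agent.G2TwoRecog.Sylow
import Cfsg.Agent.SmallSimple.ThirtySixForty.Main

/-!
# Groups of order 12096 without elements of order 14 or 21

Such a group has a normal simple subgroup of order 6048 with trivial centralizer.
-/

set_option autoImplicit false
set_option linter.style.haveILetI false
set_option linter.unusedSectionVars false

namespace CfsgLib.G2Recog

open Subgroup

variable {G : Type*} [Group G] [Finite G]
  (hn : Nat.card G = 12096) (h14 : ∀ g : G, orderOf g ≠ 14) (h21 : ∀ g : G, orderOf g ≠ 21)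
include hn h14 h21

/-- An element of order 7 normalising a subgroup of order prime to 7 centralises only the identity. -/
theorem card_mod_seven {M : Subgroup G} {y : G} (hy : orderOf y = 7) (hM : ¬ 7 ∣ Nat.card M)
    (hyM : y ∈ normalizer (M : Set G)) : Nat.card M % 7 = 1 := by
  haveI : Fact (Nat.Prime 7) := ⟨by norm_num⟩
  have hC := centralizer_seven (a := 6) (b := 3) (by rw [hn]; norm_num) h14 h21 hy
  let f : zpowers y →* MulAut M := M.normalizerMonoidHom.comp (Subgroup.inclusion (zpowers_le.2 hyM))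
  letI : MulAction (zpowers y) M := MulAction.compHom M f
  have hco : ∀ (p : zpowers y) (u : M), ((p • u : M) : G) = (p : G) * u * (p : G)⁻¹ := fun p u => rfl
  have hp : IsPGroup 7 (zpowers y) := IsPGroup.of_card (n := 1) (by rw [Nat.card_zpowers, hy, pow_one])
  have h1 := hp.card_modEq_card_fixedPoints M
  have h2 : Nat.card (MulAction.fixedPoints (zpowers y) M) = 1 := by
    rw [Nat.card_eq_one_iff_unique]
    refine ⟨⟨fun a b => ?_⟩, ⟨⟨1, fun p => Subtype.ext (by rw [hco]; simp)⟩⟩⟩
    have key : ∀ c : MulAction.fixedPoints (zpowers y) M, (c : M) = 1 := by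
      intro c
      have h3 := congrArg Subtype.val (c.2 ⟨y, mem_zpowers y⟩)
      rw [hco, mul_inv_eq_iff_eq_mul] at h3
      have h4 : ((c : M) : G) ∈ zpowers y := hC.le (mem_centralizer_singleton_iff.2 h3.symm)
      have d1 : orderOf ((c : M) : G) ∣ 7 := hy ▸ Nat.card_zpowers y ▸ Subgroup.orderOf_dvd_natCard _ h4
      rcases (Nat.dvd_prime (Fact.out : Nat.Prime 7)).1 d1 with e | e
      · exact Subtype.ext (orderOf_eq_one_iff.1 e)
      · have h5 := Subgroup.orderOf_dvd_natCard _ (c : M).2
        rw [e] at h5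
        exact absurd h5 hM
    exact Subtype.ext ((key a).trans (key b).symm)
  rw [h2] at h1
  exact h1

/-- Some element of order 7. -/
theorem exists_seven : ∃ y : G, orderOf y = 7 :=
  haveI : Fact (Nat.Prime 7) := ⟨by norm_num⟩
  exists_prime_orderOf_dvd_card' 7 (by rw [hn]; norm_num)

theorem card_free {N : Subgroup G} [N.Normal] (hN : ¬ 7 ∣ Nat.card N) :
    Nat.card N = 1 ∨ Nat.card N = 8 ∨ Nat.card N = 64 := by
  haveI : Fact (Nat.Prime 3) := ⟨Nat.prime_three⟩
  haveI : Fact (Nat.Prime 7) := ⟨by norm_num⟩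
  have hdvd : Nat.card N ∣ 2 ^ 6 * 3 ^ 3 :=
    (((by norm_num : Nat.Prime 7).coprime_iff_not_dvd.2 hN).symm).dvd_of_dvd_mul_right
      ((card_subgroup_dvd_card N).trans (dvd_of_eq (by rw [hn]; norm_num : Nat.card G = 2 ^ 6 * 3 ^ 3 * 7)))
  obtain ⟨P⟩ : Nonempty (Sylow 3 N) := inferInstance
  set R : Subgroup G := (P : Subgroup N).map N.subtype with hR
  have hRcard : Nat.card R = Nat.card (P : Subgroup N) :=
    Subgroup.card_map_of_injective N.subtype_injective
  have h3 : ¬ 3 ∣ Nat.card N := by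
    intro h3
    have hP3 := P.dvd_card_of_dvd_card h3
    have hsup := Sylow.normalizer_sup_eq_top P
    rw [← hR] at hsup
    have h7 : 7 ∣ Nat.card (normalizer (R : Set G)) := by
      have h1 := Subgroup.relIndex_sup_right (normalizer (R : Set G)) N
      rw [hsup, Subgroup.relIndex_top_right] at h1
      have h2 := N.card_mul_index
      rw [hn, h1] at h2
      have h4 : N.relIndex (normalizer (R : Set G)) ∣ Nat.card (normalizer (R : Set G)) :=
        Subgroup.relIndex_dvd_card ..
      refine dvd_trans ?_ h4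
      have h5 : 7 ∣ Nat.card N * N.relIndex (normalizer (R : Set G)) := by rw [h2]; norm_num
      exact ((Fact.out : Nat.Prime 7).dvd_mul.1 h5).resolve_left hN
    obtain ⟨⟨y, hyR⟩, hy⟩ := exists_prime_orderOf_dvd_card' (G := normalizer (R : Set G)) 7 h7
    rw [Subgroup.orderOf_mk] at hy
    have hR7 : ¬ 7 ∣ Nat.card R := fun h => hN (h.trans (hRcard ▸ card_subgroup_dvd_card _))
    have h1 := card_mod_seven hn h14 h21 hy hR7 hyR
    rw [hRcard] at h1
    obtain ⟨k, hk⟩ := P.2.exists_card_eq
    rw [hk] at h1 hP3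
    have hk3 : 3 ^ k ∣ 2 ^ 6 * 3 ^ 3 := hk ▸ (card_subgroup_dvd_card _).trans hdvd
    have : k ≤ 3 := by
      by_contra hgt
      exact absurd ((pow_dvd_pow 3 (by omega : 4 ≤ k)).trans hk3) (by norm_num)
    interval_cases k <;> revert h1 hP3 <;> norm_num
  have h2 : Nat.card N ∣ 2 ^ 6 :=
    (Nat.Coprime.pow_right 3 ((Nat.prime_three.coprime_iff_not_dvd.2 h3).symm)).dvd_of_dvd_mul_right hdvd
  obtain ⟨a, ha, ha'⟩ := (Nat.dvd_prime_pow Nat.prime_two).1 h2
  obtain ⟨y, hy⟩ := exists_seven hn h14 h21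
  have h1 := card_mod_seven hn h14 h21 hy hN (normalizer_eq_top (H := N) ▸ mem_top y)
  rw [ha'] at h1 ⊢
  interval_cases a <;> revert h1 <;> norm_num

/-- The normalizer of a subgroup of order 7 has order 42. -/
theorem normalizer_card_seven (Q : Sylow 7 G) : Nat.card (normalizer ((Q : Subgroup G) : Set G)) = 42 := by
  haveI : Fact (Nat.Prime 7) := ⟨by norm_num⟩
  have hQ : Nat.card (Q : Subgroup G) = 7 := by
    rw [CfsgLib.SmallSimple.card_sylow_eq Q (k := 1) (m := 1728) (by rw [hn]; norm_num) (by norm_num), pow_one]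
  obtain ⟨⟨y, hyQ⟩, hy⟩ := exists_prime_orderOf_dvd_card' (G := (Q : Subgroup G)) 7 (by rw [hQ])
  rw [Subgroup.orderOf_mk] at hy
  have hQy : (Q : Subgroup G) = zpowers y :=
    (eq_of_le_of_card_ge (zpowers_le.2 hyQ) (by rw [hQ, Nat.card_zpowers, hy])).symm
  obtain ⟨k, hk, hN, -⟩ := exists_normalizer_card (a := 6) (b := 3) (by rw [hn]; norm_num) h14 h21 hy
  have hmul := CfsgLib.SmallSimple.card_sylow_mul Q
  rw [hQy] at hmul ⊢
  rw [show Nat.card (normalizer (zpowers y : Set G)) = 7 * k from hN, hn] at hmul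
  rw [show Nat.card (normalizer (zpowers y : Set G)) = 7 * k from hN]
  have hmod : Nat.card (Sylow 7 G) % 7 = 1 :=
    Eq.trans (card_sylow_modEq_one 7 G) (Nat.mod_eq_of_lt (by norm_num))
  have : k ≤ 6 := Nat.le_of_dvd (by norm_num) hk
  interval_cases k <;> omega

/-- For a normal subgroup containing a Sylow 7-subgroup. -/
theorem card_eq_of_seven {K : Subgroup G} [K.Normal] (h7 : 7 ∣ Nat.card K) :
    ∃ j, Nat.card K = 288 * j ∧ j ∣ 42 ∧ 7 ∣ j ∧
      ∀ y : G, orderOf y = 7 → y ∈ K := by
  haveI : Fact (Nat.Prime 7) := ⟨by norm_num⟩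
  obtain ⟨⟨x, hxK⟩, hx⟩ := exists_prime_orderOf_dvd_card' (G := K) 7 h7
  rw [Subgroup.orderOf_mk] at hx
  obtain ⟨P⟩ : Nonempty (Sylow 7 K) := inferInstance
  have hP : Nat.card (P : Subgroup K) = 7 := by
    have hd := P.dvd_card_of_dvd_card h7
    obtain ⟨k, hk⟩ := P.2.exists_card_eq
    have hk1 : 7 ^ k ∣ 2 ^ 6 * 3 ^ 3 * 7 :=
      hk ▸ (card_subgroup_dvd_card _).trans ((card_subgroup_dvd_card K).trans (dvd_of_eq (by rw [hn]; norm_num)))
    rw [hk] at hd ⊢
    have : k < 2 := by
      by_contra hgt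
      exact absurd ((pow_dvd_pow 7 (by omega : 2 ≤ k)).trans hk1) (by norm_num)
    interval_cases k
    · norm_num at hd
    · rfl
  set R : Subgroup G := (P : Subgroup K).map K.subtype with hR
  have hRcard : Nat.card R = 7 := by rw [hR, Subgroup.card_map_of_injective K.subtype_injective, hP]
  obtain ⟨P₀⟩ : Nonempty (Sylow 7 G) := inferInstance
  have hP₀ : Nat.card (P₀ : Subgroup G) = 7 := by
    rw [CfsgLib.SmallSimple.card_sylow_eq P₀ (k := 1) (m := 1728) (by rw [hn]; norm_num) (by norm_num), pow_one]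
  let Q : Sylow 7 G := Sylow.ofCard R (by rw [hRcard, ← P₀.card_eq_multiplicity, hP₀])
  have hQK : (Q : Subgroup G) ≤ K := Subgroup.map_subtype_le _
  have hN := normalizer_card_seven hn h14 h21 Q
  set N := normalizer ((Q : Subgroup G) : Set G) with hNdef
  have hsup : N ⊔ K = ⊤ := Sylow.normalizer_sup_eq_top P
  have h1 := Subgroup.relIndex_sup_right N K
  rw [hsup, Subgroup.relIndex_top_right] at h1
  have h2 := K.card_mul_index
  rw [hn, h1] at h2
  have h3 : Nat.card (K.subgroupOf N) * K.relIndex N = 42 := by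
    rw [← hN]; exact (K.subgroupOf N).card_mul_index
  have hr0 : 0 < K.relIndex N := Nat.pos_of_ne_zero fun e => by simp [e] at h3
  refine ⟨Nat.card (K.subgroupOf N), ?_, ⟨_, h3.symm⟩, ?_, fun y hy => ?_⟩
  · refine Nat.eq_of_mul_eq_mul_right hr0 ?_
    rw [h2, mul_assoc, h3]
    norm_num
  · rw [← hRcard]
    calc Nat.card R = Nat.card (R.subgroupOf N) :=
          (Nat.card_congr (subgroupOfEquivOfLe (le_normalizer (H := R))).toEquiv).symm
      _ ∣ Nat.card (K.subgroupOf N) := card_dvd_of_le fun z hz => hQK hz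
  · have hyc : Nat.card (zpowers y) = 7 := by rw [Nat.card_zpowers, hy]
    let Y : Sylow 7 G := Sylow.ofCard (zpowers y) (by rw [hyc, ← P₀.card_eq_multiplicity, hP₀])
    obtain ⟨g, hg⟩ := MulAction.exists_smul_eq G Q Y
    have : y ∈ (Y : Subgroup G) := mem_zpowers y
    rw [← hg, Sylow.coe_subgroup_smul] at this
    obtain ⟨z, hz, rfl⟩ := this
    exact ‹K.Normal›.conj_mem z (hQK hz) g

/-- There is no nontrivial normal subgroup of order prime to 7. -/
theorem eq_bot_of_free {N : Subgroup G} [N.Normal] (hN : ¬ 7 ∣ Nat.card N) : N = ⊥ := by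
  classical
  haveI : Fact (Nat.Prime 7) := ⟨by norm_num⟩
  rcases card_free hn h14 h21 hN with h | h | h
  · exact Subgroup.eq_bot_of_card_eq _ h
  · exfalso
    obtain ⟨y, hy⟩ := exists_seven hn h14 h21
    letI : MulAction G {m : N // m ≠ 1} :=
      { smul := fun g m => ⟨MulAut.conjNormal g m.1, fun e => m.2 ((MulEquiv.map_eq_one_iff _).1 e)⟩
        one_smul := fun m => Subtype.ext (by show MulAut.conjNormal (1 : G) m.1 = m.1; simp)
        mul_smul := fun a b m => Subtype.ext (by
          show MulAut.conjNormal (a * b) m.1 = MulAut.conjNormal a (MulAut.conjNormal b m.1)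
          rw [map_mul]; rfl) }
    set f := MulAction.toPermHom G {m : N // m ≠ 1} with hf
    haveI := Fintype.ofFinite N
    have hker : ¬ 7 ∣ Nat.card f.ker := by
      intro h7
      obtain ⟨j, -, -, -, hall⟩ := card_eq_of_seven hn h14 h21 h7
      haveI : Nontrivial N := Finite.one_lt_card_iff_nontrivial.1 (by omega)
      obtain ⟨m, hm⟩ := exists_ne (1 : N)
      have h1 : MulAut.conjNormal y m = m :=
        congrArg Subtype.val (Equiv.ext_iff.1 (MonoidHom.mem_ker.1 (hall y hy)) ⟨m, hm⟩)
      have h2 : y * (m : G) * y⁻¹ = m := by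
        rw [← MulAut.conjNormal_apply, h1]
      have h3 : (m : G) ∈ zpowers y := by
        rw [← centralizer_seven (a := 6) (b := 3) (by rw [hn]; norm_num) h14 h21 hy,
          mem_centralizer_singleton_iff]
        exact (mul_inv_eq_iff_eq_mul.1 h2).symm
      have d1 : orderOf (m : G) ∣ 7 := hy ▸ Nat.card_zpowers y ▸ Subgroup.orderOf_dvd_natCard _ h3
      have d2 : orderOf (m : G) ∣ 8 := h ▸ Subgroup.orderOf_dvd_natCard _ m.2
      exact hm (Subtype.ext (orderOf_eq_one_iff.1
        (Nat.dvd_one.1 ((by norm_num : Nat.gcd 7 8 = 1) ▸ Nat.dvd_gcd d1 d2))))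
    have h5040 : Nat.card (Equiv.Perm {m : N // m ≠ 1}) = 5040 := by
      rw [Nat.card_perm, Nat.card_eq_fintype_card, Fintype.card_subtype_compl, Fintype.card_subtype_eq,
        ← Nat.card_eq_fintype_card, h]
      rfl
    have h1 : f.ker.index ∣ 5040 := by
      rw [Subgroup.index_ker, ← h5040]
      exact card_subgroup_dvd_card _
    have h2 := f.ker.card_mul_index
    rw [hn] at h2
    rcases card_free hn h14 h21 hker with e | e | e <;> rw [e] at h2
    · rw [show f.ker.index = 12096 by omega] at h1; norm_num at h1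
    · rw [show f.ker.index = 1512 by omega] at h1; norm_num at h1
    · rw [show f.ker.index = 189 by omega] at h1; norm_num at h1
  · exfalso
    have hq : Nat.card (G ⧸ N) = 189 := by
      have h2 := N.card_mul_index
      rw [hn, h, Subgroup.index_eq_card] at h2
      omega
    obtain ⟨P⟩ : Nonempty (Sylow 7 (G ⧸ N)) := inferInstance
    have hP : Nat.card (P : Subgroup (G ⧸ N)) = 7 := by
      rw [CfsgLib.SmallSimple.card_sylow_eq P (k := 1) (m := 27) (by rw [hq]; norm_num) (by norm_num), pow_one]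
    have hone : Nat.card (Sylow 7 (G ⧸ N)) = 1 := by
      have h3 := P.card_dvd_index
      have h4 := (P : Subgroup (G ⧸ N)).card_mul_index
      rw [hP, hq] at h4
      rw [show (P : Subgroup (G ⧸ N)).index = 27 by omega] at h3
      have hmod : Nat.card (Sylow 7 (G ⧸ N)) % 7 = 1 :=
        Eq.trans (card_sylow_modEq_one 7 (G ⧸ N)) (Nat.mod_eq_of_lt (by norm_num))
      have := Nat.le_of_dvd (by norm_num) h3
      generalize Nat.card (Sylow 7 (G ⧸ N)) = s at h3 hmod this ⊢
      interval_cases s <;> omega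
    haveI : Subsingleton (Sylow 7 (G ⧸ N)) := (Nat.card_eq_one_iff_unique.mp hone).1
    haveI hPn : (P : Subgroup (G ⧸ N)).Normal := P.normal_of_subsingleton
    set K := (P : Subgroup (G ⧸ N)).comap (QuotientGroup.mk' N) with hK
    have hKcard : Nat.card K = 448 := by
      have h4 := (P : Subgroup (G ⧸ N)).card_mul_index
      rw [hP, hq] at h4
      have hidx : K.index = 27 := by
        rw [hK, Subgroup.index_comap_of_surjective _ (QuotientGroup.mk'_surjective N)]
        omega
      have h3 := K.card_mul_index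
      rw [hidx, hn] at h3
      omega
    haveI : K.Normal := hPn.comap _
    obtain ⟨j, hj, -, -, -⟩ := card_eq_of_seven hn h14 h21 (K := K) (by rw [hKcard]; norm_num)
    omega

/-- The structure theorem. -/
theorem exists_normal_simple :
    ∃ K : Subgroup G, K.Normal ∧ IsSimpleGroup K ∧ ¬ IsMulCommutative K ∧ Nat.card K = 6048 ∧
      centralizer (K : Set G) = ⊥ := by
  classical
  haveI : Fact (Nat.Prime 7) := ⟨by norm_num⟩
  haveI : Nontrivial G := Finite.one_lt_card_iff_nontrivial.1 (by rw [hn]; norm_num)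
  have hex : ∃ n, ∃ K : Subgroup G, K.Normal ∧ K ≠ ⊥ ∧ Nat.card K = n :=
    ⟨_, ⊤, inferInstance, top_ne_bot, rfl⟩
  obtain ⟨K, hKn, hK0, hKc⟩ := Nat.find_spec hex
  haveI := hKn
  have hmin : ∀ W : Subgroup G, W.Normal → W ≠ ⊥ → Nat.card K ≤ Nat.card W := fun W hW hW0 =>
    hKc ▸ Nat.find_min' hex ⟨W, hW, hW0, rfl⟩
  have h7K : 7 ∣ Nat.card K := by
    by_contra h7
    exact hK0 (eq_bot_of_free hn h14 h21 h7)
  obtain ⟨j, hj, hj42, h7j, hall⟩ := card_eq_of_seven hn h14 h21 h7K
  obtain ⟨y, hy⟩ := exists_seven hn h14 h21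
  have hy1 : y ≠ 1 := fun e => by rw [e, orderOf_one] at hy; norm_num at hy
  haveI : Nontrivial K := (Subgroup.nontrivial_iff_ne_bot K).2 hK0
  haveI hsimple : IsSimpleGroup K := by
    refine ⟨fun T hT => ?_⟩
    by_cases h7T : 7 ∣ Nat.card T
    · right
      obtain ⟨P⟩ : Nonempty (Sylow 7 K) := inferInstance
      obtain ⟨⟨x, hxT⟩, hx⟩ := exists_prime_orderOf_dvd_card' (G := T) 7 h7T
      rw [Subgroup.orderOf_mk] at hx
      have hsy : ∀ z : K, orderOf z = 7 → ∃ Z : Sylow 7 K, (Z : Subgroup K) = zpowers z := by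
        intro z hz
        refine ⟨Sylow.ofCard (zpowers z) ?_, rfl⟩
        rw [Nat.card_zpowers, hz]
        have hk : (Nat.card K).factorization 7 = 1 := by
          have h1 : 1 ≤ (Nat.card K).factorization 7 :=
            ((Fact.out : Nat.Prime 7).dvd_iff_one_le_factorization Nat.card_pos.ne').1 h7K
          have h2 := (Nat.factorization_le_iff_dvd Nat.card_pos.ne' Nat.card_pos.ne').2
            (card_subgroup_dvd_card K) 7
          rw [hn, show (12096 : ℕ) = 7 ^ 1 * 1728 by norm_num,
            factorization_eq (by norm_num) (by norm_num)] at h2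
          omega
        rw [hk, pow_one]
      have hTall : ∀ z : G, orderOf z = 7 → ∀ hz : z ∈ K, (⟨z, hz⟩ : K) ∈ T := by
        intro z hz hzK
        obtain ⟨Z, hZ⟩ := hsy ⟨z, hzK⟩ (by rw [Subgroup.orderOf_mk, hz])
        obtain ⟨X, hX⟩ := hsy x hx
        obtain ⟨k, hk⟩ := MulAction.exists_smul_eq K X Z
        have : (⟨z, hzK⟩ : K) ∈ (Z : Subgroup K) := hZ ▸ mem_zpowers _
        rw [← hk, Sylow.coe_subgroup_smul, hX] at this
        obtain ⟨u, hu, he⟩ := this
        rw [← he]
        exact hT.conj_mem u ((zpowers_le.2 hxT) hu) k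
      set W := closure {z : G | orderOf z = 7} with hW
      haveI hWn : W.Normal := by
        refine ⟨fun a ha g => ?_⟩
        have : W ≤ W.comap (MulAut.conj g).toMonoidHom := (closure_le _).2 fun z hz => by
          refine subset_closure ?_
          show orderOf ((MulAut.conj g) z) = 7
          rw [MulEquiv.orderOf_eq]
          exact hz
        exact this ha
      have hWK : W ≤ T.map K.subtype := (closure_le _).2 fun z hz =>
        ⟨⟨z, hall z hz⟩, hTall z hz _, rfl⟩
      have h1 := hmin W hWn fun e => hy1 ((mem_bot).1 (e ▸ subset_closure hy : y ∈ (⊥ : Subgroup G)))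
      have h2 := Subgroup.card_le_of_le hWK
      rw [Subgroup.card_map_of_injective K.subtype_injective] at h2
      exact Subgroup.eq_top_of_card_eq _ (le_antisymm (Subgroup.card_le_card_group T) (h1.trans h2))
    · left
      obtain ⟨T₀, hTT₀, hT₀⟩ := Set.Finite.exists_le_maximal (a := T)
        (Set.toFinite {X : Subgroup K | X.Normal ∧ ¬ 7 ∣ Nat.card X}) ⟨hT, h7T⟩
      obtain ⟨⟨hn₀, h7₀⟩, hmax⟩ := hT₀
      haveI := hn₀
      haveI : (T₀.map K.subtype).Normal := by
        refine ⟨fun a ha g => ?_⟩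
        obtain ⟨z, hz, rfl⟩ := ha
        set α : MulAut K := MulAut.conjNormal g with hα
        set T₁ := T₀.map α.toMonoidHom with hT₁
        haveI : T₁.Normal := hn₀.map _ α.surjective
        have h7₁ : ¬ 7 ∣ Nat.card T₁ := by
          rw [hT₁, Subgroup.card_map_of_injective (f := α.toMonoidHom) α.injective]; exact h7₀
        have h7s : ¬ 7 ∣ Nat.card ↥(T₀ ⊔ T₁) := by
          intro h
          have h1 := Subgroup.relIndex_sup_right T₀ T₁
          have h2 : Nat.card T₁ * T₁.relIndex (T₀ ⊔ T₁) = Nat.card ↥(T₀ ⊔ T₁) := by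
            rw [← Nat.card_congr (subgroupOfEquivOfLe (le_sup_right : T₁ ≤ T₀ ⊔ T₁)).toEquiv]
            exact Subgroup.card_mul_index _
          rw [← h2, h1] at h
          rcases (Fact.out : Nat.Prime 7).dvd_mul.1 h with h | h
          · exact h7₁ h
          · exact h7₀ (h.trans (Subgroup.relIndex_dvd_card ..))
        have hle := hmax (y := T₀ ⊔ T₁) ⟨inferInstance, h7s⟩ le_sup_left
        refine ⟨α z, hle (mem_sup_right ⟨z, hz, rfl⟩), ?_⟩
        rw [hα, Subgroup.coe_subtype, MulAut.conjNormal_apply]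
      have h0 := eq_bot_of_free hn h14 h21 (N := T₀.map K.subtype)
        (by rwa [Subgroup.card_map_of_injective K.subtype_injective])
      rw [Subgroup.map_eq_bot_iff_of_injective _ K.subtype_injective] at h0
      exact le_bot_iff.1 (h0 ▸ hTT₀)
  have hKc : ¬ IsMulCommutative K := by
    intro hc
    letI : CommGroup K := { (inferInstance : Group K) with mul_comm := fun a b => hc.1.1 a b }
    have hp : (Nat.card K).Prime := IsSimpleGroup.prime_card
    obtain ⟨i, rfl⟩ := h7j
    rw [hj] at hp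
    exact absurd (hp.eq_one_or_self_of_dvd 2 ⟨144 * (7 * i), by ring⟩) (by omega)
  have hcard : Nat.card K = 6048 := by
    have hle : j ≤ 42 := Nat.le_of_dvd (by norm_num) hj42
    by_contra hne
    rcases Nat.lt_or_ge (Nat.card K) 6000 with hlt | hge
    · have hm := CfsgLib.ThirtySixForty.card_mem_of_lt hKc hlt
      rw [hj] at hm hlt
      interval_cases j <;> revert hm hj42 h7j <;> decide
    · by_cases h42 : j = 42
      · have htop : K = ⊤ := Subgroup.eq_top_of_card_eq _ (by rw [hn, hj, h42])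
        haveI : IsSimpleGroup G := ⟨fun W hW => by
          rcases eq_or_ne W ⊥ with e | e
          · exact Or.inl e
          · refine Or.inr (Subgroup.eq_top_of_card_eq _ (le_antisymm (Subgroup.card_le_card_group W) ?_))
            rw [← Subgroup.card_top (G := G), ← htop]
            exact hmin W hW e⟩
        refine false_of_simple_12096 (G := G) (fun hc => hKc ⟨⟨fun a b => Subtype.ext ?_⟩⟩) hn h14 h21
        exact hc.1.1 (a : G) b
      · rw [hj] at hge hne
        interval_cases j <;> revert hne hge hj42 h7j h42 <;> decide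
  refine ⟨K, hKn, hsimple, hKc, hcard, ?_⟩
  have hinf : centralizer (K : Set G) ⊓ K = ⊥ := by
    rw [eq_bot_iff]
    rintro z ⟨hz, hzK⟩
    have hzc : (⟨z, hzK⟩ : K) ∈ center K := mem_center_iff.2 fun k => Subtype.ext (hz k k.2)
    rcases hsimple.eq_bot_or_eq_top_of_normal (center K) inferInstance with e | e
    · rw [e, mem_bot] at hzc
      exact congrArg Subtype.val hzc
    · exact absurd ⟨⟨fun a b => mem_center_iff.1 (e ▸ mem_top b : b ∈ center K) a⟩⟩ hKc
  refine eq_bot_of_free hn h14 h21 fun h7 => ?_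
  obtain ⟨⟨x, hx⟩, hx7⟩ := exists_prime_orderOf_dvd_card' (G := centralizer (K : Set G)) 7 h7
  rw [Subgroup.orderOf_mk] at hx7
  have h3 : x ∈ centralizer (K : Set G) ⊓ K := ⟨hx, hall x hx7⟩
  rw [hinf, mem_bot] at h3
  rw [h3, orderOf_one] at hx7
  norm_num at hx7

end CfsgLib.G2Recog
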