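import Cfsg.Agent.G2TwoRecog.TwelveData

/-!
# The search for order 12096 covers every solution
-/

set_option autoImplicit false
set_option linter.style.haveILetI false

namespace CfsgLib.G2Recog.Twelve

theorem enumB_spec : ∀ (l : List (ℤ × ℤ)) (sq lin dsq : ℤ) (acc : List (ℤ × ℤ)),
    enumB l sq lin dsq acc = true → (∀ o ∈ l, 1 ≤ o.2 * o.2) → 0 ≤ sq →
    ∀ M : Multiset (ℤ × ℤ), (∀ o ∈ M, o ∈ l) → sq + (M.map fun o => o.2 * o.2).sum = 6 →
      lin + (M.map fun o => o.1 * o.2).sum = -1 → dsq + (M.map fun o => o.1 * o.1).sum ≤ 12095 →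
      ∃ L ∈ sols, ((acc : Multiset (ℤ × ℤ)) + M) = (L : Multiset (ℤ × ℤ))
  | [], sq, lin, dsq, acc, h, _, _, M, hM, h1, h2, h3 => by
      have hM0 : M = 0 := Multiset.eq_zero_of_forall_notMem fun o ho => List.not_mem_nil (hM o ho)
      subst hM0
      simp only [Multiset.map_zero, Multiset.sum_zero, add_zero] at h1 h2 h3
      simp only [enumB, h1, h2, h3, beq_self_eq_true, decide_true, Bool.not_true, Bool.false_or,
        List.contains_iff_mem] at h
      exact ⟨acc, h, add_zero _⟩
  | o :: rest, sq, lin, dsq, acc, h, hl, hsq, M, hM, h1, h2, h3 => by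
      classical
      set k := M.count o with hk
      set M' := M.filter (fun u => ¬ u = o) with hM'
      have hsplit : Multiset.replicate k o + M' = M := by
        rw [hk, ← Multiset.filter_eq', hM', Multiset.filter_add_not]
      rw [← hsplit, Multiset.map_add, Multiset.sum_add, Multiset.map_replicate,
        Multiset.sum_replicate, nsmul_eq_mul] at h1 h2 h3
      have hnn : 0 ≤ (M'.map fun o : ℤ × ℤ => o.2 * o.2).sum :=
        Multiset.sum_nonneg fun x hx => by
          obtain ⟨u, -, rfl⟩ := Multiset.mem_map.1 hx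
          exact mul_self_nonneg _
      have ho := hl o List.mem_cons_self
      have hk7 : k < 7 := by
        by_contra hge
        have hk' : (7 : ℤ) ≤ (k : ℤ) := by exact_mod_cast Nat.le_of_not_lt hge
        nlinarith
      have h' := allN_spec (k := 7) h k hk7
      rw [Bool.or_eq_true, decide_eq_true_eq] at h'
      rcases h' with h' | h'
      · omega
      obtain ⟨L, hL, e⟩ := enumB_spec rest _ _ _ _ h' (fun u hu => hl u (List.mem_cons_of_mem _ hu))
        (add_nonneg hsq (mul_nonneg (Int.natCast_nonneg k) (mul_self_nonneg _))) M'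
        (fun u hu => by
          rw [hM', Multiset.mem_filter] at hu
          exact (List.mem_cons.1 (hM u hu.1)).resolve_left hu.2)
        (by linarith) (by linarith) (by linarith)
      refine ⟨L, hL, ?_⟩
      rw [← e, ← Multiset.coe_add, Multiset.coe_replicate, add_assoc, hsplit]

theorem sols_facts : ∀ L ∈ sols, ∀ o ∈ L, o.2 ≠ 0 := by decide

theorem opts_facts : ∀ o ∈ opts, 1 ≤ o.2 * o.2 := by decide

theorem allY_spec {α : Type*} (P : ℤ → ℤ → Bool) (d e y : α → ℤ) :
    ∀ (l : List α) (top lin num sq : ℤ),
    allY P (l.map fun a => (d a, e a)) top lin num sq = true →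
    (∀ a ∈ l, e a ≠ 0 ∧ -d a < y a ∧ y a < d a ∧ 4 ∣ d a - y a) →
    l.Pairwise (fun a b => (d a, e a) = (d b, e b) → y b ≤ y a) →
    (∀ a ∈ l.head?, y a ≤ top) →
    lin + (l.map fun a => e a * y a).sum = 0 →
    P (num + (l.map fun a => e a * (y a * y a) * (12096 / d a)).sum)
      (sq + (l.map fun a => y a * y a).sum) = true
  | [], top, lin, num, sq, h, _, _, _, hlin => by
      simp only [List.map_nil, List.sum_nil, add_zero] at hlin ⊢
      simpa [allY, hlin] using h
  | [a], top, lin, num, sq, h, hl, _, _, hlin => by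
      obtain ⟨he, h1, h2, h4⟩ := hl a List.mem_cons_self
      simp only [List.map_cons, List.map_nil, List.sum_cons, List.sum_nil, add_zero] at hlin ⊢
      have hy : -lin / e a = y a := by
        rw [show -lin = e a * y a by omega, Int.mul_ediv_cancel_left _ he]
      simp only [List.map_cons, List.map_nil, allY, hy] at h
      have e1 : e a * y a = -lin := by omega
      simpa [e1, h1, h2, Int.emod_eq_zero_of_dvd h4] using h
  | a :: b :: rest, top, lin, num, sq, h, hl, hpw, htop, hlin => by
      obtain ⟨he, h1, h2, h4⟩ := hl a List.mem_cons_self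
      obtain ⟨m, hm⟩ := h4
      obtain ⟨hab, hpw'⟩ := List.pairwise_cons.1 hpw
      simp only [List.map_cons] at h
      have hj := allN_spec (k := (2 * (d a).toNat - 1) / 4) h (m - 1).toNat (by omega)
      have hy : d a - 4 * ((((m - 1).toNat : ℕ) : ℤ) + 1) = y a := by omega
      simp only [hy, Bool.or_eq_true, decide_eq_true_eq] at hj
      have hya : ¬ top < y a := not_lt.2 (htop a rfl)
      have := allY_spec P d e y (b :: rest) _ _ _ _ (by simpa using hj.resolve_left hya)
        (fun u hu => hl u (List.mem_cons_of_mem _ hu)) hpw' (by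
          intro u hu
          obtain rfl : b = u := Option.some.inj hu
          split_ifs with e1
          · exact hab b List.mem_cons_self (by simpa [eq_comm, and_comm] using e1)
          · exact (hl b (List.mem_cons_of_mem _ List.mem_cons_self)).2.2.1.le) (by
          simp only [List.map_cons, List.sum_cons] at hlin ⊢
          linarith)
      simp only [List.map_cons, List.sum_cons] at this ⊢
      simpa only [add_assoc] using this

theorem exists_list {α β : Type*} [DecidableEq α] (f : α → β) (y : α → ℤ) :
    ∀ (L : List β) (M : Multiset α), M.map f = (L : Multiset β) →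
      ∃ l : List α, (l : Multiset α) = M ∧ l.map f = L ∧
        l.Pairwise (fun a b => f a = f b → y b ≤ y a)
  | [], M, h => ⟨[], (Multiset.map_eq_zero.1 h).symm, rfl, List.Pairwise.nil⟩
  | b :: L, M, h => by
      classical
      obtain ⟨a₀, ha₀, hab₀, -⟩ := (Multiset.map_eq_cons f M (L : Multiset β) b).2 h
      obtain ⟨a, haf, hmax⟩ := Finset.exists_max_image (M.toFinset.filter fun a => f a = b) y
        ⟨a₀, Finset.mem_filter.2 ⟨Multiset.mem_toFinset.2 ha₀, hab₀⟩⟩
      obtain ⟨ha, hab⟩ := Finset.mem_filter.1 haf
      rw [Multiset.mem_toFinset] at ha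
      have h' : (M.erase a).map f = (L : Multiset β) := by
        have := h
        rw [← Multiset.cons_erase ha, Multiset.map_cons, hab, ← Multiset.cons_coe,
          Multiset.cons_inj_right] at this
        exact this
      obtain ⟨l, hl, hl', hp⟩ := exists_list f y L (M.erase a) h'
      refine ⟨a :: l, by rw [← Multiset.cons_coe, hl, Multiset.cons_erase ha], by
        rw [List.map_cons, hab, hl'], List.pairwise_cons.2 ⟨fun c hc hfc => ?_, hp⟩⟩
      have hcM : c ∈ M := Multiset.mem_of_mem_erase (hl ▸ Multiset.mem_coe.2 hc)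
      exact hmax c (Finset.mem_filter.2 ⟨Multiset.mem_toFinset.2 hcM, hfc ▸ hab⟩)

end CfsgLib.G2Recog.Twelve
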