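import Cfsg.Agent.G2TwoRecog.TwelveGroup
import Cfsg.Agent.G2TwoRecog.TwelveSound

/-!
# No simple group of order 12096 without elements of order 14 or 21

The values at an element of order 7 are integers with square sum 7; orthogonality, the congruence
at involutions and the class formula contradict each other.
-/

set_option autoImplicit false
set_option linter.style.haveILetI false
set_option linter.unusedSectionVars false

namespace CfsgLib.G2Recog

open Finset CfsgLib.Char Twelve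
open scoped ComplexConjugate commutatorElement

universe u

variable {G : Type u} [Group G] [Finite G]

section Pairs

variable {x t : G} (hx : orderOf x = 7) (hC : Subgroup.centralizer ({x} : Set G) = Subgroup.zpowers x)
  (ht : orderOf t = 2) (htx : t * x * t⁻¹ = x⁻¹)
include hx hC ht htx

/-- An involution inverting `x` is a conjugate of `t` by a power of `x`. -/
theorem isConj_of_inverting {u : G} (hu : u * u = 1) (h : u * x * u⁻¹ = x⁻¹) :
    u * t ∈ Subgroup.zpowers x ∧ IsConj t u := by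
  have ht2 : t * t = 1 := by rw [← pow_two, ← ht, pow_orderOf_eq_one]
  have hm : u * t ∈ Subgroup.zpowers x := by
    rw [← hC, Subgroup.mem_centralizer_singleton_iff, ← mul_inv_eq_iff_eq_mul]
    calc u * t * x * (u * t)⁻¹ = u * (t * x * t⁻¹) * u⁻¹ := by group
      _ = x := by rw [htx, ← conj_inv, h, inv_inv]
  refine ⟨hm, isConj_iff.2 ?_⟩
  obtain ⟨i, hi⟩ := Subgroup.mem_zpowers_iff.1 hm
  refine ⟨x ^ (4 * i), ?_⟩
  have hinv : t * (x ^ (4 * i))⁻¹ = x ^ (4 * i) * t := by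
    rw [← zpow_neg, ← mul_inv_eq_iff_eq_mul, ← conj_zpow, htx, inv_zpow, zpow_neg, inv_inv]
  have h7 : x ^ (7 : ℤ) = 1 := by
    rw [show (7 : ℤ) = ((7 : ℕ) : ℤ) from rfl, zpow_natCast, ← hx, pow_orderOf_eq_one]
  rw [mul_assoc, hinv, ← mul_assoc, ← zpow_add, show 4 * i + 4 * i = i + 7 * i by ring, zpow_add,
    zpow_mul, h7, one_zpow, mul_one, hi, mul_assoc, ht2, mul_one]

theorem card_pairs_seven {z : G} (hz : orderOf z = 2) [Decidable (IsConj t z)] :
    Nat.card {q : G × G // IsConj z q.1 ∧ IsConj z q.2 ∧ q.1 * q.2 = x} =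
      if IsConj t z then 7 else 0 := by
  have ht2 : t * t = 1 := by rw [← pow_two, ← ht, pow_orderOf_eq_one]
  have hinvol : ∀ u, IsConj z u → u * u = 1 := fun u hu => by
    obtain ⟨g, rfl⟩ := isConj_iff.1 hu
    rw [conj_mul, ← pow_two z, ← hz, pow_orderOf_eq_one, mul_one, mul_inv_cancel]
  have hinvert : ∀ u v : G, IsConj z u → IsConj z v → u * v = x → u * x * u⁻¹ = x⁻¹ := by
    intro u v hu hv huv
    rw [← huv, mul_inv_rev, inv_eq_of_mul_eq_one_right (hinvol u hu),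
      inv_eq_of_mul_eq_one_right (hinvol v hv), ← mul_assoc, hinvol u hu, one_mul]
  split_ifs with hc
  swap
  · haveI : IsEmpty {q : G × G // IsConj z q.1 ∧ IsConj z q.2 ∧ q.1 * q.2 = x} := ⟨fun q => hc
      ((isConj_of_inverting hx hC ht htx (hinvol _ q.2.1) (hinvert _ _ q.2.1 q.2.2.1 q.2.2.2)).2.trans
        q.2.1.symm)⟩
    exact Nat.card_of_isEmpty
  rw [← hx, ← Nat.card_zpowers]
  have hinvt : ∀ c ∈ Subgroup.zpowers x, (c * t) * (c * t) = 1 ∧ c * t * x * (c * t)⁻¹ = x⁻¹ := by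
    rintro c ⟨k, rfl⟩
    refine ⟨?_, ?_⟩
    · calc x ^ k * t * (x ^ k * t) = x ^ k * (t * x ^ k * t⁻¹) * (t * t) := by group
        _ = 1 := by rw [← conj_zpow, htx, inv_zpow, ht2, mul_one, mul_inv_cancel]
    · calc x ^ k * t * x * (x ^ k * t)⁻¹ = x ^ k * (t * x * t⁻¹) * (x ^ k)⁻¹ := by group
        _ = x⁻¹ := by rw [htx, ((Commute.refl x).inv_right.zpow_left k).eq, mul_inv_cancel_right]
  have hcz : ∀ c ∈ Subgroup.zpowers x, IsConj z (c * t) := fun c hcm =>
    hc.symm.trans (isConj_of_inverting hx hC ht htx (hinvt c hcm).1 (hinvt c hcm).2).2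
  refine (Nat.card_eq_of_bijective (fun c : Subgroup.zpowers x =>
    (⟨((c : G) * t, (c : G) * t * x), hcz c c.2, ?_, by rw [← mul_assoc, (hinvt c c.2).1, one_mul]⟩ :
      {q : G × G // IsConj z q.1 ∧ IsConj z q.2 ∧ q.1 * q.2 = x})) ⟨?_, ?_⟩).symm
  · have h1 : (c : G) * t * x = ((c : G) * x⁻¹) * t := by rw [← htx]; group
    rw [h1]
    exact hcz _ (mul_mem c.2 (inv_mem (Subgroup.mem_zpowers x)))
  · intro a b hab
    simp only [Subtype.mk.injEq, Prod.mk.injEq, mul_left_inj] at hab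
    exact Subtype.ext hab.1
  · rintro ⟨⟨u, v⟩, hu, hv, huv⟩
    simp only at hu hv huv
    refine ⟨⟨u * t, (isConj_of_inverting hx hC ht htx (hinvol u hu) (hinvert u v hu hv huv)).1⟩, ?_⟩
    refine Subtype.ext (Prod.ext ?_ ?_)
    · simp only; rw [mul_assoc, ht2, mul_one]
    · simp only; rw [mul_assoc u t t, ht2, mul_one, ← huv, ← mul_assoc, hinvol u hu, one_mul]

end Pairs

variable [IsSimpleGroup G]

/-- The value of an irreducible character at an involution. -/
theorem exists_invol_value (hna : ¬ IsMulCommutative G) {z : G} (hz : orderOf z = 2) {χ : G → ℂ}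
    (hχ : Cfsg.IsIrrCharacter G χ) {d : ℕ} (hd : χ 1 = d) :
    ∃ y : ℤ, χ z = y ∧ 4 ∣ (d : ℤ) - y ∧ ((χ ≠ fun _ => 1) → -(d : ℤ) < y ∧ y < d) := by
  have hperf : commutator G = ⊤ := by
    rcases IsSimpleGroup.eq_bot_or_eq_top_of_normal (commutator G) inferInstance with h | h
    · exfalso
      refine hna ⟨⟨fun a b => ?_⟩⟩
      have h2 : ⁅a, b⁆ ∈ commutator G := by
        rw [commutator_def]
        exact Subgroup.commutator_mem_commutator (Subgroup.mem_top a) (Subgroup.mem_top b)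
      rwa [h, Subgroup.mem_bot, commutatorElement_eq_one_iff_mul_comm] at h2
    · exact h
  obtain ⟨y, hy, hy4, hl, hu⟩ := CfsgLib.InvolValues.invol_mod_four hperf
    (IsIrrCharacter.isCharacter hχ) (t := z) (by rw [← sq, ← hz, pow_orderOf_eq_one]) hd
  refine ⟨y, hy, hy4, fun hne => ?_⟩
  have hz1 : z ≠ 1 := fun e => by rw [e, orderOf_one] at hz; omega
  obtain ⟨m, ρ, hirr, hρ⟩ := hχ
  haveI := hirr
  have hm : m = d := by
    have : ρ.character 1 = (d : ℂ) := by rw [hρ]; exact hd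
    rw [ρ.char_one, Module.finrank_fin_fun] at this
    exact_mod_cast this
  have hnorm : ‖χ z‖ ≠ (d : ℝ) := fun h => hne (by
    rw [← hρ]
    refine eq_one_of_norm_eq_of_simple (fun hc => hna ⟨⟨hc⟩⟩) ρ hz1 ?_
    rw [hρ, h, Module.finrank_fin_fun, hm])
  constructor
  · rcases lt_or_eq_of_le hl with h | h
    exacts [h, absurd (by rw [hy, ← h]; simp) hnorm]
  · rcases lt_or_eq_of_le hu with h | h
    exacts [h, absurd (by rw [hy, h]; simp) hnorm]

set_option maxHeartbeats 1600000 in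
/-- A simple group of order 12096 has elements of order 14 or 21. -/
theorem false_of_simple_12096 (hna : ¬ IsMulCommutative G) (hn : Nat.card G = 12096)
    (h14 : ∀ g : G, orderOf g ≠ 14) (h21 : ∀ g : G, orderOf g ≠ 21) : False := by
  classical
  haveI : Fact (Nat.Prime 7) := ⟨by norm_num⟩
  obtain ⟨x, t, hx, hC, ht, htx, h6, hconj⟩ := exists_frobenius_fortyTwo hn h14 h21
  haveI := Fintype.ofFinite G
  obtain ⟨u, hu, hucl⟩ := CfsgLib.RealPrime.exists_central_involution (G := G) (a := 6) (m := 189) hn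
    (by norm_num) (by norm_num) (by norm_num)
  have hex : ∀ χ : G → ℂ, ∃ (d : ℕ) (e y w : ℤ), χ ∈ irrFinset G →
      χ 1 = d ∧ χ x = e ∧ χ t = y ∧ χ u = w ∧ 7 ∣ (d : ℤ) - e ∧ d ∣ 12096 ∧
      ((χ ≠ fun _ => 1) → 2 ≤ d ∧ (-(d : ℤ) < y ∧ y < d ∧ 4 ∣ (d : ℤ) - y) ∧
        (-(d : ℤ) < w ∧ w < d ∧ 4 ∣ (d : ℤ) - w)) := by
    intro χ
    by_cases hm : χ ∈ irrFinset G
    swap
    · exact ⟨0, 0, 0, 0, fun h => absurd h hm⟩
    have hχ := mem_irrFinset.1 hm
    obtain ⟨d, hd0, hd⟩ := IsIrrCharacter.exists_degree hχ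
    obtain ⟨y, hy, hy4, hyb⟩ := exists_invol_value hna ht hχ hd
    obtain ⟨w, hw, hw4, hwb⟩ := exists_invol_value hna hu hχ hd
    obtain ⟨c, hc⟩ := ColumnData.exists_count hx (IsIrrCharacter.isCharacter hχ)
    have hval : ∀ j : ZMod 7, j ≠ 0 → χ (x ^ j.val) = χ x := fun j hj =>
      (IsClassFunction.apply_eq_of_isConj (IsIrrCharacter.isClassFunction hχ)
        (hconj _ (pow_mem (Subgroup.mem_zpowers x) _) fun e => hj (by
          have h7 := orderOf_dvd_of_pow_eq_one e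
          rw [hx] at h7
          exact (ZMod.val_eq_zero j).1 (Nat.eq_zero_of_dvd_of_lt h7 (ZMod.val_lt j))))).symm
    have hsum : ∀ k : ZMod 7, (7 : ℂ) * c k = d + ∑ j ∈ univ.erase (0 : ZMod 7),
        χ x * ZMod.stdAddChar (-(k * j)) := by
      intro k
      have h := ColumnData.count_formula hx hc k
      push_cast at h
      rw [h, ← add_sum_erase _ _ (mem_univ (0 : ZMod 7))]
      congr 1
      · rw [ZMod.val_zero, pow_zero, hd, mul_zero, neg_zero, AddChar.map_zero_eq_one, mul_one]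
      · exact sum_congr rfl fun j hj => by rw [hval j (ne_of_mem_erase hj)]
    have h0 := hsum 0
    simp only [zero_mul, neg_zero, AddChar.map_zero_eq_one, mul_one, sum_const,
      card_erase_of_mem (mem_univ (0 : ZMod 7)), card_univ, ZMod.card, nsmul_eq_mul] at h0
    have h1 := hsum 1
    rw [← mul_sum] at h1
    have hs : ∑ j ∈ univ.erase (0 : ZMod 7), ZMod.stdAddChar (-((1 : ZMod 7) * j)) = (-1 : ℂ) := by
      have h := ColumnData.sum_stdAddChar (p := 7) (-1)
      rw [if_neg (neg_ne_zero.2 one_ne_zero), ← add_sum_erase _ _ (mem_univ (0 : ZMod 7)), zero_mul,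
        AddChar.map_zero_eq_one] at h
      rw [sum_congr rfl fun j _ => show ZMod.stdAddChar (-((1 : ZMod 7) * j)) =
        ZMod.stdAddChar (j * -1) by rw [one_mul, mul_neg, mul_one]]
      linear_combination h
    rw [hs] at h1
    push_cast at h0
    have he : χ x = ((c 0 : ℤ) - (c 1 : ℤ) : ℤ) := by
      push_cast
      linear_combination (-(1 : ℂ) / 7) * h0 + (1 / 7 : ℂ) * h1
    have hde : 7 ∣ (d : ℤ) - ((c 0 : ℤ) - (c 1 : ℤ)) := by
      refine ⟨c 1, ?_⟩
      apply Int.cast_injective (α := ℂ)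
      push_cast at he ⊢
      rw [he] at h1
      linear_combination -h1
    have hdvd : d ∣ 12096 := by
      let χ' : Cfsg.IrrCharacter G := ⟨χ, hχ⟩
      have hdeg : Cfsg.charDegree (χ' : G → ℂ) = d := by
        show Cfsg.charDegree χ = d
        rw [Cfsg.charDegree, hd, Complex.natCast_re, Nat.floor_natCast]
      exact hn ▸ hdeg ▸ CfsgLib.Block.charDegree_dvd_card χ'
    refine ⟨d, _, y, w, fun _ => ⟨hd, he, hy, hw, hde, hdvd, fun hne => ?_⟩⟩
    refine ⟨?_, ⟨(hyb hne).1, (hyb hne).2, hy4⟩, ⟨(hwb hne).1, (hwb hne).2, hw4⟩⟩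
    by_contra h2
    exact ColumnData.ne_one_of_simple hna hχ hne (by rw [hd, show d = 1 by omega, Nat.cast_one])
  choose D E Y W hv using hex
  set triv : G → ℂ := fun _ => 1 with htriv
  have htm : triv ∈ irrFinset G := mem_irrFinset.mpr isIrrCharacter_one
  obtain ⟨t1, t2, t3, t4, -⟩ := hv triv htm
  have hD1 : D triv = 1 := by simp only [htriv] at t1 ⊢; exact_mod_cast t1.symm
  have hE1 : E triv = 1 := by simp only [htriv] at t2 ⊢; exact_mod_cast t2.symm
  have hY1 : Y triv = 1 := by simp only [htriv] at t3 ⊢; exact_mod_cast t3.symm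
  have hW1 : W triv = 1 := by simp only [htriv] at t4 ⊢; exact_mod_cast t4.symm
  -- orthogonality
  have hcol : ∀ (g g' : G) (f f' : (G → ℂ) → ℤ), (∀ χ ∈ irrFinset G, χ g = f χ) →
      (∀ χ ∈ irrFinset G, χ g' = f' χ) → ∑ χ ∈ irrFinset G, f χ * f' χ =
        if IsConj g g' then (Nat.card (Subgroup.centralizer ({g} : Set G)) : ℤ) else 0 := by
    intro g g' f f' hf hf'
    apply Int.cast_injective (α := ℂ)
    push_cast
    rw [← sum_irr_mul_conj g g']
    exact sum_congr rfl fun χ hχ => by rw [hf χ hχ, hf' χ hχ, map_intCast]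
  have hDf : ∀ χ ∈ irrFinset G, χ 1 = ((D χ : ℤ) : ℂ) := fun χ hχ => by
    rw [(hv χ hχ).1, Int.cast_natCast]
  have hEf : ∀ χ ∈ irrFinset G, χ x = (E χ : ℂ) := fun χ hχ => (hv χ hχ).2.1
  have hYf : ∀ χ ∈ irrFinset G, χ t = (Y χ : ℂ) := fun χ hχ => (hv χ hχ).2.2.1
  have hWf : ∀ χ ∈ irrFinset G, χ u = (W χ : ℂ) := fun χ hχ => (hv χ hχ).2.2.2.1
  have hnx : ∀ z : G, orderOf z ≠ 7 → ¬ IsConj z x := fun z hz hc => by
    obtain ⟨g, hg⟩ := isConj_iff.1 hc
    have h1 := (MulAut.conj g).orderOf_eq z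
    rw [MulAut.conj_apply, hg, hx] at h1
    exact hz h1.symm
  have oEE := hcol x x E E hEf hEf
  rw [if_pos (IsConj.refl x), hC, Nat.card_zpowers, hx] at oEE
  have oDE := hcol 1 x (fun χ => (D χ : ℤ)) E hDf hEf
  rw [if_neg (hnx 1 (by rw [orderOf_one]; norm_num))] at oDE
  have oYE := hcol t x Y E hYf hEf
  rw [if_neg (hnx t (by rw [ht]; norm_num))] at oYE
  have oWE := hcol u x W E hWf hEf
  rw [if_neg (hnx u (by rw [hu]; norm_num))] at oWE
  have oDD : ∑ χ ∈ irrFinset G, (D χ : ℤ) * D χ = 12096 := by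
    have h := sum_degree_sq (G := G)
    rw [hn, sum_congr rfl fun χ hχ => by rw [(hv χ hχ).1, sq]] at h
    exact_mod_cast h
  set Ct := Nat.card (Subgroup.centralizer ({t} : Set G)) with hCt
  have oYY := hcol t t Y Y hYf hYf
  rw [if_pos (IsConj.refl t), ← hCt] at oYY
  -- the class formula
  have hform : ∀ (z : G) (f : (G → ℂ) → ℤ), orderOf z = 2 → (∀ χ ∈ irrFinset G, χ z = f χ) →
      ∑ χ ∈ irrFinset G, E χ * (f χ * f χ) * ((12096 : ℤ) / (D χ : ℤ)) =
        if IsConj t z then 7 * (Nat.card (Subgroup.centralizer ({z} : Set G)) : ℤ) ^ 2 else 0 := by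
    intro z f hz hf
    have h := card_class_products z z x
    rw [card_pairs_seven hx hC ht htx hz, hn] at h
    set Cz := Nat.card (Subgroup.centralizer ({z} : Set G)) with hCz
    have hK : (Nat.card {y : G // IsConj z y} : ℂ) * Cz = 12096 := by
      have := card_conj_class_mul_card_centralizer z
      rw [hn] at this
      exact_mod_cast this
    apply Int.cast_injective (α := ℂ)
    have hterm : ∀ χ ∈ irrFinset G, ((E χ * (f χ * f χ) * ((12096 : ℤ) / (D χ : ℤ)) : ℤ) : ℂ) =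
        12096 * (χ z * χ z * conj (χ x) / χ 1) := by
      intro χ hχ
      obtain ⟨h1, h2, -, -, -, hdvd, -⟩ := hv χ hχ
      have hd0 : D χ ≠ 0 := fun e => by rw [e] at hdvd; norm_num at hdvd
      rw [hf χ hχ, h2, h1, map_intCast, Int.cast_mul, Int.cast_div (by exact_mod_cast hdvd)
        (by simp [hd0])]
      push_cast
      field_simp
    rw [Int.cast_sum, sum_congr rfl hterm, ← mul_sum]
    split_ifs at h ⊢ with hc <;> push_cast at h ⊢ <;>
      linear_combination (-(Cz : ℂ) ^ 2) * h -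
        ((∑ χ ∈ irrFinset G, χ z * χ z * conj (χ x) / χ 1) *
          ((Nat.card {y : G // IsConj z y} : ℂ) * Cz + 12096) / 12096) * hK
  have fY := hform t Y ht hYf
  rw [if_pos (IsConj.refl t), ← hCt] at fY
  have fW := hform u W hu hWf
  -- the characters involved
  set S := ((irrFinset G).erase triv).filter (fun χ => E χ ≠ 0) with hS
  have hsplit : ∀ F : (G → ℂ) → ℤ, (∀ χ ∈ irrFinset G, E χ = 0 → F χ = 0) →
      ∑ χ ∈ irrFinset G, F χ = F triv + ∑ χ ∈ S, F χ := by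
    intro F hF
    rw [← add_sum_erase _ _ htm]
    refine congrArg _ (sum_subset (filter_subset _ _) fun χ hχ hn' => ?_).symm
    refine hF χ (mem_of_mem_erase hχ) ?_
    by_contra hne
    exact hn' (mem_filter.2 ⟨hχ, hne⟩)
  have hle : ∀ F : (G → ℂ) → ℤ, (∀ χ, 0 ≤ F χ) → F triv + ∑ χ ∈ S, F χ ≤ ∑ χ ∈ irrFinset G, F χ := by
    intro F hF
    rw [← add_sum_erase _ _ htm]
    exact (add_le_add_iff_left _).2 (sum_le_sum_of_subset_of_nonneg (filter_subset _ _) fun χ _ _ => hF χ)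
  have sEE : ∑ χ ∈ S, E χ * E χ = 6 := by
    have := hsplit (fun χ => E χ * E χ) fun χ _ h => by simp [h]
    rw [oEE, hE1] at this
    omega
  have sDE : ∑ χ ∈ S, (D χ : ℤ) * E χ = -1 := by
    have := hsplit (fun χ => (D χ : ℤ) * E χ) fun χ _ h => by simp [h]
    rw [oDE, hE1, hD1] at this
    omega
  have sYE : ∑ χ ∈ S, E χ * Y χ = -1 := by
    have := hsplit (fun χ => Y χ * E χ) fun χ _ h => by simp [h]
    rw [oYE, hE1, hY1] at this
    rw [sum_congr rfl fun χ _ => mul_comm (E χ) (Y χ)]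
    omega
  have sWE : ∑ χ ∈ S, E χ * W χ = -1 := by
    have := hsplit (fun χ => W χ * E χ) fun χ _ h => by simp [h]
    rw [oWE, hE1, hW1] at this
    rw [sum_congr rfl fun χ _ => mul_comm (E χ) (W χ)]
    omega
  have sDD : ∑ χ ∈ S, (D χ : ℤ) * D χ ≤ 12095 := by
    have := hle (fun χ => (D χ : ℤ) * D χ) fun χ => mul_self_nonneg _
    rw [oDD, hD1] at this
    omega
  have sYY : 1 + ∑ χ ∈ S, Y χ * Y χ ≤ (Ct : ℤ) := by
    have := hle (fun χ => Y χ * Y χ) fun χ => mul_self_nonneg _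
    rw [oYY, hY1] at this
    omega
  have sfY : 12096 + ∑ χ ∈ S, E χ * (Y χ * Y χ) * ((12096 : ℤ) / (D χ : ℤ)) = 7 * (Ct : ℤ) ^ 2 := by
    have := hsplit (fun χ => E χ * (Y χ * Y χ) * ((12096 : ℤ) / (D χ : ℤ))) fun χ _ h => by simp [h]
    rw [fY, hE1, hY1, hD1] at this
    omega
  have hSm : ∀ χ ∈ S, χ ∈ irrFinset G ∧ (χ ≠ fun _ => 1) ∧ E χ ≠ 0 := fun χ hχ => by
    obtain ⟨h1, h2⟩ := mem_filter.1 hχ
    exact ⟨mem_of_mem_erase h1, ne_of_mem_erase h1, h2⟩
  -- the multiset of degrees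
  set M : Multiset (ℤ × ℤ) := S.val.map fun χ => ((D χ : ℤ), E χ) with hM
  have hMopts : ∀ o ∈ M, o ∈ opts := by
    intro o ho
    obtain ⟨χ, hχ, rfl⟩ := Multiset.mem_map.1 ho
    obtain ⟨hm, hne, he0⟩ := hSm χ hχ
    obtain ⟨-, -, -, -, hde, hdvd, hrest⟩ := hv χ hm
    have hd2 := (hrest hne).1
    have h1 := single_le_sum (f := fun χ => E χ * E χ) (fun χ _ => mul_self_nonneg _) hχ
    have h2 := single_le_sum (f := fun χ => (D χ : ℤ) * D χ) (fun χ _ => mul_self_nonneg _) hχ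
    rw [sEE] at h1
    have hd110 : D χ < 110 := by nlinarith
    have hE2 : -2 ≤ E χ ∧ E χ ≤ 2 := ⟨by nlinarith, by nlinarith⟩
    have hj : ((E χ + 2).toNat : ℤ) - 2 = E χ := by omega
    have hj2 : (E χ + 2).toNat ≠ 2 := by omega
    have := opts_complete (D χ) hd110 (E χ + 2).toNat (by omega) (by
      simp only [Bool.and_eq_true, decide_eq_true_eq, beq_iff_eq, Bool.not_eq_true', beq_eq_false_iff_ne, hj]
      exact ⟨⟨⟨hd2, Nat.mod_eq_zero_of_dvd hdvd⟩, Int.emod_eq_zero_of_dvd hde⟩, hj2⟩)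
    rw [hj] at this
    exact List.contains_iff_mem.1 this
  obtain ⟨L, hL, hML⟩ := enumB_spec opts 0 0 0 [] enum_true opts_facts le_rfl M hMopts
    (by rw [zero_add, hM, Multiset.map_map]; exact sEE)
    (by rw [zero_add, hM, Multiset.map_map]; exact sDE)
    (by rw [zero_add, hM, Multiset.map_map]; exact sDD)
  rw [Multiset.coe_nil, zero_add, hM] at hML
  have key : ∀ (P : ℤ → ℤ → Bool) (f : (G → ℂ) → ℤ), allY P L 110 1 12096 1 = true →
      (∀ χ ∈ S, -(D χ : ℤ) < f χ ∧ f χ < D χ ∧ 4 ∣ (D χ : ℤ) - f χ) →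
      ∑ χ ∈ S, E χ * f χ = -1 →
      P (12096 + ∑ χ ∈ S, E χ * (f χ * f χ) * ((12096 : ℤ) / (D χ : ℤ)))
        (1 + ∑ χ ∈ S, f χ * f χ) = true := by
    intro P f hP hf hlin
    obtain ⟨l, hl, hlL, hpw⟩ := exists_list _ f L S.val hML
    have hsum : ∀ F : (G → ℂ) → ℤ, (l.map F).sum = ∑ χ ∈ S, F χ := fun F => by
      rw [Finset.sum_eq_multiset_sum, ← hl, Multiset.map_coe, Multiset.sum_coe]
    have hmem : ∀ χ ∈ l, χ ∈ S := fun χ hχ => Finset.mem_def.2 (hl ▸ hχ)
    have := allY_spec P (fun χ => (D χ : ℤ)) E f l 110 1 12096 1 (hlL ▸ hP)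
      (fun χ hχ => ⟨(hSm χ (hmem χ hχ)).2.2, hf χ (hmem χ hχ)⟩) hpw (fun χ hχ => by
        have hχl : χ ∈ l := List.mem_of_head? hχ
        have h1 := (hf χ (hmem χ hχl)).2.1
        have h2 := single_le_sum (f := fun χ => (D χ : ℤ) * D χ) (fun χ _ => mul_self_nonneg _) (hmem χ hχl)
        nlinarith) (by rw [hsum, hlin]; rfl)
    rwa [hsum, hsum] at this
  have hYb : ∀ χ ∈ S, -(D χ : ℤ) < Y χ ∧ Y χ < D χ ∧ 4 ∣ (D χ : ℤ) - Y χ := fun χ hχ => by
    obtain ⟨hm, hne, -⟩ := hSm χ hχ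
    exact ((hv χ hm).2.2.2.2.2.2 hne).2.1
  have hWb : ∀ χ ∈ S, -(D χ : ℤ) < W χ ∧ W χ < D χ ∧ 4 ∣ (D χ : ℤ) - W χ := fun χ hχ => by
    obtain ⟨hm, hne, -⟩ := hSm χ hχ
    exact ((hv χ hm).2.2.2.2.2.2 hne).2.2
  have hCdvd : Ct ∣ 12096 := hn ▸ Subgroup.card_subgroup_dvd_card _
  have hC7 : ¬ 7 ∣ Ct := by
    intro h7
    obtain ⟨⟨y, hy⟩, hy7⟩ := exists_prime_orderOf_dvd_card'
      (G := Subgroup.centralizer ({t} : Set G)) 7 h7
    rw [Subgroup.orderOf_mk] at hy7
    have hc : Commute t y := (Subgroup.mem_centralizer_singleton_iff.1 hy).symm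
    have := hc.orderOf_mul_eq_mul_orderOf_of_coprime (by rw [ht, hy7]; norm_num)
    rw [ht, hy7] at this
    exact h14 _ this
  have hC1728 : Ct ∣ 1728 :=
    (((by norm_num : Nat.Prime 7).coprime_iff_not_dvd.2 hC7).symm).dvd_of_dvd_mul_right
      (show Ct ∣ 1728 * 7 from hCdvd)
  have h252 : (7 * (Ct : ℤ) ^ 2) % 252 = 0 := by
    obtain ⟨q, hq⟩ := h6
    exact Int.emod_eq_zero_of_dvd ⟨(q : ℤ) ^ 2, by rw [hq]; push_cast; ring⟩
  have hcand : ∀ c, c ∈ Nat.divisors 1728 → 6 ∣ c → (c : ℤ) ∈ candC := by decide +kernel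
  have hcand2 : ∀ c, c ∈ Nat.divisors 1728 → 6 ∣ c → 64 ∣ c → (c : ℤ) ∈ ([192, 576, 1728] : List ℤ) := by
    decide +kernel
  have hCmem : Ct ∈ Nat.divisors 1728 := Nat.mem_divisors.2 ⟨hC1728, by norm_num⟩
  obtain ⟨i, hi, hLi⟩ := List.getElem_of_mem hL
  have hgetD : sols.getD i [] = L := by
    rw [List.getD_eq_getElem?_getD, List.getElem?_eq_getElem hi, hLi]; rfl
  have hi8 : i < 8 := hi
  by_cases hi7 : i < 7
  · have h := key leafOne Y (hgetD ▸ values_true i hi7) hYb sYE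
    rw [sfY, leafOne, Bool.or_eq_true, List.all_eq_true] at h
    have := (h.resolve_left (by simp [h252])) _ (hcand Ct hCmem h6)
    simp [pow_two, sYY] at this
  · obtain rfl : i = 7 := by omega
    by_cases htu : IsConj t u
    · have h64 : 64 ∣ Ct := by
        obtain ⟨q, hq⟩ := hucl
        have hce : Nat.card {y : G // IsConj u y} = Nat.card {y : G // IsConj t y} :=
          Nat.card_congr (Equiv.subtypeEquivRight fun y => ⟨fun h => htu.trans h, fun h => htu.symm.trans h⟩)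
        have h2 := card_conj_class_mul_card_centralizer t
        rw [hn, ← hCt, ← hce] at h2
        have hpos : 0 < Nat.card {y : G // IsConj u y} := Nat.pos_of_ne_zero fun e => by
          rw [e, zero_mul] at h2
          norm_num at h2
        refine ⟨q, Nat.eq_of_mul_eq_mul_left hpos (h2.trans ?_)⟩
        rw [mul_left_comm, ← hq]
        norm_num
      have h := key leafTwo Y (hgetD ▸ values_last) hYb sYE
      rw [sfY, leafTwo, Bool.and_eq_true, Bool.or_eq_true, List.all_eq_true] at h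
      have := (h.2.resolve_left (by simp [h252])) _ (hcand2 Ct hCmem h6 h64)
      simp [pow_two, sYY] at this
    · rw [if_neg htu] at fW
      have := hsplit (fun χ => E χ * (W χ * W χ) * ((12096 : ℤ) / (D χ : ℤ))) fun χ _ h => by simp [h]
      rw [fW, hE1, hW1, hD1] at this
      have h := key leafTwo W (hgetD ▸ values_last) hWb sWE
      rw [show (12096 : ℤ) + ∑ χ ∈ S, E χ * (W χ * W χ) * ((12096 : ℤ) / (D χ : ℤ)) = 0 by omega] at h
      simp [leafTwo] at h

end CfsgLib.G2Recog
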