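import Mathlib

/-!
# The integral conditions on the principal block of a simple group of order 12096

For the prime 7 six nontrivial characters do not vanish on an element of order 7 (or three, one of
them with value of absolute value 2); with the values at two involutions there is no solution.
-/

set_option autoImplicit false
set_option linter.style.haveILetI false
set_option maxRecDepth 100000

namespace CfsgLib.G2Recog.Twelve

/-- All numbers below `k` satisfy `P`. -/
def allN (k : Nat) (P : Nat → Bool) : Bool :=
  match k with
  | 0 => true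
  | n + 1 => P n && allN n P

theorem allN_spec {k : Nat} {P : Nat → Bool} (h : allN k P = true) : ∀ i, i < k → P i = true := by
  induction k with
  | zero => intro i hi; omega
  | succ n ih =>
    rw [allN, Bool.and_eq_true] at h
    intro i hi
    rcases Nat.lt_or_eq_of_le (Nat.le_of_lt_succ hi) with h' | rfl
    exacts [ih h.2 i h', h.1]

/-- The possible pairs of degree and value at an element of order 7. -/
def opts : List (ℤ × ℤ) :=
  [(2, 2), (6, -1), (8, 1), (9, 2), (12, -2), (16, 2), (27, -1), (36, 1), (48, -1), (54, -2), (64, 1),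
    (72, 2), (96, -2)]

/-- The possible multisets. -/
def sols : List (List (ℤ × ℤ)) :=
  [[(6, -1), (16, 2), (27, -1)],
   [(8, 1), (9, 2), (27, -1)],
   [(6, -1), (6, -1), (6, -1), (8, 1), (27, -1), (36, 1)],
   [(6, -1), (8, 1), (8, 1), (8, 1), (8, 1), (27, -1)],
   [(6, -1), (8, 1), (8, 1), (27, -1), (48, -1), (64, 1)],
   [(6, -1), (8, 1), (27, -1), (36, 1), (36, 1), (48, -1)],
   [(8, 1), (8, 1), (27, -1), (27, -1), (27, -1), (64, 1)],
   [(8, 1), (27, -1), (27, -1), (27, -1), (36, 1), (36, 1)]]

/-- The search for the multisets. -/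
def enumB : List (ℤ × ℤ) → ℤ → ℤ → ℤ → List (ℤ × ℤ) → Bool
  | [], sq, lin, dsq, acc =>
      !(sq == 6) || !(lin == -1) || !(decide (dsq ≤ 12095)) || sols.contains acc
  | o :: rest, sq, lin, dsq, acc =>
      allN 7 fun k => decide (6 < sq + k * (o.2 * o.2)) ||
        enumB rest (sq + k * (o.2 * o.2)) (lin + k * (o.1 * o.2)) (dsq + k * (o.1 * o.1))
          (acc ++ List.replicate k o)

theorem enum_true : enumB opts 0 0 0 [] = true := by decide +kernel

theorem opts_complete : ∀ d : Nat, d < 110 → ∀ j : Nat, j < 5 →
    (2 ≤ d && 12096 % d == 0 && ((d : ℤ) - ((j : ℤ) - 2)) % 7 == 0 && !(j == 2)) = true →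
      opts.contains ((d : ℤ), (j : ℤ) - 2) = true := by decide +kernel

/-- All values at an involution lead to `P`; equal pairs take nonincreasing values, `top` bounds the
first one. -/
def allY (P : ℤ → ℤ → Bool) : List (ℤ × ℤ) → ℤ → ℤ → ℤ → ℤ → Bool
  | [], _, lin, num, sq => !(lin == 0) || P num sq
  | [o], _, lin, num, sq =>
      let y := -lin / o.2
      !(o.2 * y == -lin) || !(decide (-o.1 < y) && decide (y < o.1) && (o.1 - y) % 4 == 0) ||
        P (num + o.2 * (y * y) * (12096 / o.1)) (sq + y * y)
  | o :: o' :: rest, top, lin, num, sq =>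
      allN ((2 * o.1.toNat - 1) / 4) fun j =>
        let y := o.1 - 4 * ((j : ℤ) + 1)
        decide (top < y) || allY P (o' :: rest) (if o' = o then y else o'.1) (lin + o.2 * y)
          (num + o.2 * (y * y) * (12096 / o.1)) (sq + y * y)

/-- The possible orders of the centralizer of the inverting involution. -/
def candC : List ℤ :=
  [6, 12, 18, 24, 36, 48, 54, 72, 96, 108, 144, 192, 216, 288, 432, 576, 864, 1728]

/-- No suitable centralizer order. -/
def leafOne (num sq : ℤ) : Bool := !(num % 252 == 0) || candC.all fun C => !(7 * (C * C) == num) || !(decide (sq ≤ C))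

/-- No suitable centralizer order for a central involution. -/
def leafTwo (num sq : ℤ) : Bool :=
  !(num == 0) && (!(num % 252 == 0) || ([192, 576, 1728] : List ℤ).all fun C => !(7 * (C * C) == num) || !(decide (sq ≤ C)))

theorem values_true : ∀ i, i < 7 → allY leafOne (sols.getD i []) 110 1 12096 1 = true := by decide +kernel

theorem values_last : allY leafTwo (sols.getD 7 []) 110 1 12096 1 = true := by decide +kernel

end CfsgLib.G2Recog.Twelve
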