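import Cfsg.Agent.G2TwoRecog.Seven
import Cfsg.Agent.SmallSimple.RealPrime.Setup

/-!
# The normalizer of a Sylow 7-subgroup in a simple group of order 12096

Without elements of order 14 or 21 the normalizer is a Frobenius group of order 42; in particular
all elements of a subgroup of order 7 other than the identity are conjugate.
-/

set_option autoImplicit false
set_option linter.style.haveILetI false
set_option linter.unusedSectionVars false

namespace CfsgLib.G2Recog

open Subgroup

variable {G : Type*} [Group G] [Finite G] [IsSimpleGroup G]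

/-- The elements controlling the normalizer of order 42. -/
theorem exists_frobenius_fortyTwo (hn : Nat.card G = 12096) (h14 : ∀ g : G, orderOf g ≠ 14)
    (h21 : ∀ g : G, orderOf g ≠ 21) :
    ∃ x t : G, orderOf x = 7 ∧ centralizer ({x} : Set G) = zpowers x ∧ orderOf t = 2 ∧
      t * x * t⁻¹ = x⁻¹ ∧ 6 ∣ Nat.card (centralizer ({t} : Set G)) ∧
      ∀ y ∈ zpowers x, y ≠ 1 → IsConj x y := by
  classical
  haveI h7 : Fact (Nat.Prime 7) := ⟨by norm_num⟩
  obtain ⟨x, hx⟩ := exists_prime_orderOf_dvd_card' (G := G) 7 (by rw [hn]; norm_num)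
  have hG : Nat.card G = 2 ^ 6 * 3 ^ 3 * 7 := by rw [hn]; norm_num
  have hC := centralizer_seven hG h14 h21 hx
  obtain ⟨k, hk, hN, hr⟩ := exists_normalizer_card hG h14 h21 hx
  set N : Subgroup G := normalizer (zpowers x : Set G) with hNdef
  -- the number of conjugates
  obtain ⟨P⟩ : Nonempty (Sylow 7 G) := inferInstance
  have hP : Nat.card (P : Subgroup G) = 7 := by
    rw [CfsgLib.SmallSimple.card_sylow_eq P (k := 1) (m := 1728) (by rw [hn]; norm_num) (by norm_num), pow_one]
  let Q : Sylow 7 G := Sylow.ofCard (zpowers x) (by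
    rw [Nat.card_zpowers, hx, ← P.card_eq_multiplicity, hP])
  have hQ : (Q : Subgroup G) = zpowers x := rfl
  have hmul := CfsgLib.SmallSimple.card_sylow_mul Q
  rw [hQ] at hmul
  rw [show Nat.card (normalizer (zpowers x : Set G)) = 7 * k from hN, hn] at hmul
  have hmod : Nat.card (Sylow 7 G) % 7 = 1 :=
    Eq.trans (card_sylow_modEq_one 7 G) (Nat.mod_eq_of_lt (by norm_num))
  have hk6 : k = 6 := by
    have : k ≤ 6 := Nat.le_of_dvd (by norm_num) hk
    interval_cases k <;> omega
  subst hk6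
  -- the automorphisms induced are all six
  let ev : (zpowers x).normalizerMonoidHom.range → {y : zpowers x // y ≠ 1} := fun a =>
    ⟨(a : MulAut (zpowers x)) ⟨x, mem_zpowers x⟩, fun e => by
      have := (MulEquiv.map_eq_one_iff (a : MulAut (zpowers x))).1 e
      rw [Subtype.ext_iff] at this
      simp only [OneMemClass.coe_one] at this
      rw [this, orderOf_one] at hx
      norm_num at hx⟩
  have hev : Function.Injective ev := by
    intro a b e
    refine Subtype.ext (MulEquiv.ext fun y => ?_)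
    obtain ⟨i, hi⟩ := mem_zpowers_iff.1 y.2
    have e1 : (a : MulAut (zpowers x)) ⟨x, mem_zpowers x⟩ = (b : MulAut (zpowers x)) ⟨x, mem_zpowers x⟩ :=
      congrArg Subtype.val e
    have e2 : y = ⟨x, mem_zpowers x⟩ ^ i := Subtype.ext (by simp [hi])
    rw [e2, map_zpow, map_zpow, e1]
  have hcard : Nat.card {y : zpowers x // y ≠ 1} = 6 := by
    haveI := Fintype.ofFinite (zpowers x)
    rw [Nat.card_eq_fintype_card, Fintype.card_subtype_compl, Fintype.card_subtype_eq,
      ← Nat.card_eq_fintype_card, Nat.card_zpowers, hx]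
  have hsurj := (hev.bijective_of_nat_card_le (by rw [hcard, hr])).2
  have hget : ∀ y ∈ zpowers x, y ≠ 1 → ∃ g : G, g * x * g⁻¹ = y := by
    intro y hy hy1
    obtain ⟨⟨_, g, rfl⟩, ha⟩ := hsurj ⟨⟨y, hy⟩, fun e => hy1 (congrArg Subtype.val e)⟩
    exact ⟨g, congrArg (fun u : {y : zpowers x // y ≠ 1} => ((u : zpowers x) : G)) ha⟩
  -- an element inducing a generator
  obtain ⟨g, hg⟩ := hget (x ^ 3) (pow_mem (mem_zpowers x) 3) fun e => by
    have := orderOf_dvd_of_pow_eq_one e
    rw [hx] at this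
    norm_num at this
  have hpw : ∀ n : ℕ, g ^ n * x * (g ^ n)⁻¹ = x ^ 3 ^ n := by
    intro n
    induction n with
    | zero => simp
    | succ n ih =>
      rw [pow_succ', mul_inv_rev, show g * g ^ n * x * ((g ^ n)⁻¹ * g⁻¹) = g * (g ^ n * x * (g ^ n)⁻¹) * g⁻¹ by group,
        ih, ← conj_pow, hg, ← pow_mul, ← pow_succ']
  have hxmod : ∀ n : ℕ, x ^ n = x ^ (n % 7) := fun n => by rw [← hx, pow_mod_orderOf]
  have hne : ∀ i j : ℕ, i < 7 → j < 7 → x ^ i = x ^ j → i = j := fun i j hi hj e =>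
    pow_injOn_Iio_orderOf (Set.mem_Iio.2 (hx.symm ▸ hi)) (Set.mem_Iio.2 (hx.symm ▸ hj)) e
  have hg6C : g ^ 6 ∈ zpowers x := by
    rw [← hC, mem_centralizer_singleton_iff, ← mul_inv_eq_iff_eq_mul, hpw, hxmod]
    norm_num
  have hnot : ∀ n : ℕ, 3 ^ n % 7 ≠ 1 → g ^ n ∉ zpowers x := fun n hn hmem => hn (by
    rw [← hC, mem_centralizer_singleton_iff, ← mul_inv_eq_iff_eq_mul, hpw, hxmod] at hmem
    exact hne _ 1 (Nat.mod_lt _ (by norm_num)) (by norm_num) (hmem.trans (pow_one x).symm))
  have hg6 : g ^ 6 = 1 := by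
    by_contra hne1
    have h7o : orderOf (g ^ 6) = 7 := by
      have := Subgroup.orderOf_dvd_natCard _ hg6C
      rw [Nat.card_zpowers, hx] at this
      exact ((Nat.dvd_prime (by norm_num)).1 this).resolve_left fun e => hne1 (orderOf_eq_one_iff.1 e)
    have hg42 : orderOf g = 42 := by
      have h1 : orderOf g ∣ 42 := orderOf_dvd_of_pow_eq_one (by
        rw [show 42 = 6 * 7 from rfl, pow_mul, ← h7o, pow_orderOf_eq_one])
      have h2 : ∀ n : ℕ, n ∈ [14, 21, 6] → ¬ orderOf g ∣ n := by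
        intro n hn hd
        have hp : g ^ n = 1 := orderOf_dvd_iff_pow_eq_one.1 hd
        simp only [List.mem_cons, List.not_mem_nil, or_false] at hn
        rcases hn with rfl | rfl | rfl
        · exact hnot 14 (by norm_num) (hp ▸ one_mem _)
        · exact hnot 21 (by norm_num) (hp ▸ one_mem _)
        · exact hne1 hp
      have hpos : orderOf g ≤ 42 := Nat.le_of_dvd (by norm_num) h1
      by_contra hne42
      have : orderOf g ∣ 14 ∨ orderOf g ∣ 21 ∨ orderOf g ∣ 6 := by
        generalize orderOf g = o at h1 hpos hne42 ⊢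
        interval_cases o <;> revert h1 hne42 <;> decide
      rcases this with h | h | h
      exacts [h2 14 (by simp) h, h2 21 (by simp) h, h2 6 (by simp) h]
    exact h14 (g ^ 3) (by rw [orderOf_pow, hg42]; rfl)
  have ht1 : g ^ 3 ≠ 1 := fun e => hnot 3 (by norm_num) (e ▸ one_mem _)
  have hz1 : g ^ 2 ≠ 1 := fun e => hnot 2 (by norm_num) (e ▸ one_mem _)
  have ht : orderOf (g ^ 3) = 2 :=
    haveI : Fact (Nat.Prime 2) := ⟨Nat.prime_two⟩
    orderOf_eq_prime (by rw [← pow_mul, hg6]) ht1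
  have hz : orderOf (g ^ 2) = 3 :=
    haveI : Fact (Nat.Prime 3) := ⟨Nat.prime_three⟩
    orderOf_eq_prime (by rw [← pow_mul, hg6]) hz1
  refine ⟨x, g ^ 3, hx, hC, ht, ?_, ?_, fun y hy hy1 => isConj_iff.2 (hget y hy hy1)⟩
  · rw [hpw, hxmod, show 3 ^ 3 % 7 = 6 from rfl, eq_inv_iff_mul_eq_one, ← pow_succ]
    exact orderOf_dvd_iff_pow_eq_one.1 (by rw [hx])
  · have hm : ∀ n : ℕ, g ^ n ∈ centralizer ({g ^ 3} : Set G) := fun n =>
      mem_centralizer_singleton_iff.2 ((Commute.refl g).pow_pow n 3).eq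
    have h2 := Subgroup.orderOf_dvd_natCard _ (hm 3)
    have h3 := Subgroup.orderOf_dvd_natCard _ (hm 2)
    rw [ht] at h2
    rw [hz] at h3
    exact (by norm_num : Nat.Coprime 2 3).mul_dvd_of_dvd_of_dvd h2 h3

end CfsgLib.G2Recog
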